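import Cfsg.Agent.J4.M24InvolData
import Cfsg.Agent.SporadicStructure.OctadStabFinal
import Cfsg.Agent.SporadicA.GolayCount

/-!
# M24 has two classes of involutions

`invol_conj` : an involution of `M24` is conjugate to `el P1` (type `1^8 2^8`) or `el P2` (type `2^12`).
-/

set_option autoImplicit false

namespace Cfsg.Agent.J4.M24Invol

open Cfsg Cfsg.Agent.SporadicA.GolayBase Cfsg.Agent.SporadicA.GolayPerm
open Cfsg.Agent.SporadicStructure.M24El Cfsg.Agent.J4.M24InvolData
open scoped Pointwise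

/-! ### Choice of a frame adapted to an involution -/

section Frame

variable {α : Type*} [DecidableEq α]

theorem stage (u : α → α) (hu : ∀ p, u (u p) = p) (o : Finset α) (ho : ∀ p ∈ o, u p ∈ o)
    (h2 : 2 ≤ o.card) : ∃ (b : Bool) (p q : α) (o' : Finset α), p ∈ o ∧ q ∈ o ∧ p ≠ q ∧ o' ⊆ o ∧
      p ∉ o' ∧ q ∉ o' ∧ o'.card + 2 = o.card ∧ (∀ r ∈ o', u r ∈ o') ∧
      (b = true → u p = q ∧ u q = p) ∧ (b = false → ∀ r ∈ o, u r = r) := by
  by_cases h : ∃ p ∈ o, u p ≠ p
  · obtain ⟨p, hp, hne⟩ := h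
    have hq : u p ∈ o := ho p hp
    refine ⟨true, p, u p, (o.erase p).erase (u p), hp, hq, fun e => hne e.symm, ?_, ?_, ?_, ?_,
      ?_, fun _ => ⟨rfl, hu p⟩, fun h => absurd h (by decide)⟩
    · exact (Finset.erase_subset _ _).trans (Finset.erase_subset _ _)
    · intro h; exact Finset.notMem_erase p o (Finset.mem_of_mem_erase h)
    · exact Finset.notMem_erase _ _
    · have h1 : u p ∈ o.erase p := Finset.mem_erase.mpr ⟨hne, hq⟩
      have e1 := Finset.card_erase_add_one h1
      have e2 := Finset.card_erase_add_one hp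
      omega
    · intro r hr
      rw [Finset.mem_erase, Finset.mem_erase] at hr
      obtain ⟨h1, h2, h3⟩ := hr
      rw [Finset.mem_erase, Finset.mem_erase]
      refine ⟨fun e => h2 ?_, fun e => h1 ?_, ho r h3⟩
      · rw [← hu r, e, hu]
      · rw [← hu r, e]
  · push Not at h
    obtain ⟨p, hp, q, hq, hpq⟩ := Finset.one_lt_card.mp (show 1 < o.card by omega)
    refine ⟨false, p, q, (o.erase p).erase q, hp, hq, hpq, ?_, ?_, ?_, ?_, ?_,
      fun h => absurd h (by decide), fun _ => h⟩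
    · exact (Finset.erase_subset _ _).trans (Finset.erase_subset _ _)
    · intro h; exact Finset.notMem_erase p o (Finset.mem_of_mem_erase h)
    · exact Finset.notMem_erase _ _
    · have h1 : q ∈ o.erase p := Finset.mem_erase.mpr ⟨hpq.symm, hq⟩
      have e1 := Finset.card_erase_add_one h1
      have e2 := Finset.card_erase_add_one hp
      omega
    · intro r hr
      have h3 : r ∈ o := (Finset.erase_subset _ _).trans (Finset.erase_subset _ _) hr
      rw [h r h3]
      exact hr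

/-- swap the first `k` pairs -/
def pat (k : ℕ) (i : ℕ) : ℕ :=
  cond (Nat.blt i (2 * k)) (cond (Nat.beq (i % 2) 0) (i + 1) (i - 1)) i

theorem exists_frame (u : α → α) (hu : ∀ p, u (u p) = p) (o : Finset α) (ho : ∀ p ∈ o, u p ∈ o)
    (h8 : 6 ≤ o.card) : ∃ k < 4, ∃ a : ℕ → α, (∀ i < 6, ∀ j < 6, a i = a j → i = j) ∧
      (∀ i < 6, a i ∈ o) ∧ ∀ i < 6, u (a i) = a (pat k i) := by
  obtain ⟨b1, p1, q1, o1, hp1, hq1, hpq1, hs1, hn1, hn1', hc1, hi1, ht1, hf1⟩ :=
    stage u hu o ho (by omega)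
  obtain ⟨b2, p2, q2, o2, hp2, hq2, hpq2, hs2, hn2, hn2', hc2, hi2, ht2, hf2⟩ :=
    stage u hu o1 hi1 (by omega)
  obtain ⟨b3, p3, q3, o3, hp3, hq3, hpq3, hs3, hn3, hn3', hc3, hi3, ht3, hf3⟩ :=
    stage u hu o2 hi2 (by omega)
  have a1 : p2 ≠ p1 := fun e => hn1 (e ▸ hp2)
  have a2 : p2 ≠ q1 := fun e => hn1' (e ▸ hp2)
  have a3 : q2 ≠ p1 := fun e => hn1 (e ▸ hq2)
  have a4 : q2 ≠ q1 := fun e => hn1' (e ▸ hq2)
  have a5 : p3 ≠ p2 := fun e => hn2 (e ▸ hp3)
  have a6 : p3 ≠ q2 := fun e => hn2' (e ▸ hp3)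
  have a7 : q3 ≠ p2 := fun e => hn2 (e ▸ hq3)
  have a8 : q3 ≠ q2 := fun e => hn2' (e ▸ hq3)
  have a9 : p3 ≠ p1 := fun e => hn1 (e ▸ hs2 hp3)
  have a10 : p3 ≠ q1 := fun e => hn1' (e ▸ hs2 hp3)
  have a11 : q3 ≠ p1 := fun e => hn1 (e ▸ hs2 hq3)
  have a12 : q3 ≠ q1 := fun e => hn1' (e ▸ hs2 hq3)
  let a : ℕ → α := fun i => match i with
    | 0 => p1 | 1 => q1 | 2 => p2 | 3 => q2 | 4 => p3 | _ => q3
  have hinj : ∀ i < 6, ∀ j < 6, a i = a j → i = j := by
    intro i hi j hj h
    interval_cases i <;> interval_cases j <;> simp only [a] at h <;>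
      first
      | rfl
      | exact absurd h hpq1
      | exact absurd h hpq2
      | exact absurd h hpq3
      | exact absurd h.symm hpq1
      | exact absurd h.symm hpq2
      | exact absurd h.symm hpq3
      | exact absurd h a1 | exact absurd h.symm a1
      | exact absurd h a2 | exact absurd h.symm a2
      | exact absurd h a3 | exact absurd h.symm a3
      | exact absurd h a4 | exact absurd h.symm a4
      | exact absurd h a5 | exact absurd h.symm a5
      | exact absurd h a6 | exact absurd h.symm a6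
      | exact absurd h a7 | exact absurd h.symm a7
      | exact absurd h a8 | exact absurd h.symm a8
      | exact absurd h a9 | exact absurd h.symm a9
      | exact absurd h a10 | exact absurd h.symm a10
      | exact absurd h a11 | exact absurd h.symm a11
      | exact absurd h a12 | exact absurd h.symm a12
  have hmem : ∀ i < 6, a i ∈ o := by
    intro i hi
    interval_cases i
    · exact hp1
    · exact hq1
    · exact hs1 hp2
    · exact hs1 hq2
    · exact hs1 (hs2 hp3)
    · exact hs1 (hs2 hq3)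
  have key : ∀ k < 4, (0 < k → u p1 = q1 ∧ u q1 = p1) → (k ≤ 0 → u p1 = p1 ∧ u q1 = q1) →
      (1 < k → u p2 = q2 ∧ u q2 = p2) → (k ≤ 1 → u p2 = p2 ∧ u q2 = q2) →
      (2 < k → u p3 = q3 ∧ u q3 = p3) → (k ≤ 2 → u p3 = p3 ∧ u q3 = q3) →
      ∀ i < 6, u (a i) = a (pat k i) := by
    intro k hk c1 c2 c3 c4 c5 c6 i hi
    interval_cases k <;> interval_cases i <;>
      first
      | exact (c1 (by norm_num)).1 | exact (c1 (by norm_num)).2
      | exact (c2 (by norm_num)).1 | exact (c2 (by norm_num)).2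
      | exact (c3 (by norm_num)).1 | exact (c3 (by norm_num)).2
      | exact (c4 (by norm_num)).1 | exact (c4 (by norm_num)).2
      | exact (c5 (by norm_num)).1 | exact (c5 (by norm_num)).2
      | exact (c6 (by norm_num)).1 | exact (c6 (by norm_num)).2
  cases b1
  · have hfix := hf1 rfl
    refine ⟨0, by norm_num, a, hinj, hmem, key 0 (by norm_num) (by simp) (fun _ => ⟨hfix _ hp1, hfix _ hq1⟩)
      (by simp) (fun _ => ⟨hfix _ (hs1 hp2), hfix _ (hs1 hq2)⟩) (by simp)
      (fun _ => ⟨hfix _ (hs1 (hs2 hp3)), hfix _ (hs1 (hs2 hq3))⟩)⟩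
  · cases b2
    · have hfix := hf2 rfl
      refine ⟨1, by norm_num, a, hinj, hmem, key 1 (by norm_num) (fun _ => ht1 rfl) (by simp)
        (by simp) (fun _ => ⟨hfix _ hp2, hfix _ hq2⟩) (by simp)
        (fun _ => ⟨hfix _ (hs2 hp3), hfix _ (hs2 hq3)⟩)⟩
    · cases b3
      · have hfix := hf3 rfl
        refine ⟨2, by norm_num, a, hinj, hmem, key 2 (by norm_num) (fun _ => ht1 rfl) (by simp)
          (fun _ => ht2 rfl) (by simp) (by simp)
          (fun _ => ⟨hfix _ hp3, hfix _ hq3⟩)⟩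
      · exact ⟨3, by norm_num, a, hinj, hmem, key 3 (by norm_num) (fun _ => ht1 rfl) (by simp)
          (fun _ => ht2 rfl) (by simp) (fun _ => ht3 rfl) (by simp)⟩

end Frame

/-! ### A fixed octad -/

theorem smul_mem_octads (g : M24) {o : Finset GolayPt} (ho : o ∈ octads) : g • o ∈ octads :=
  Cfsg.Agent.SporadicStructure.OctadStabM24.smul_octad g.2 ho

theorem exists_octad (u : M24) (hu : u * u = 1) : ∃ o ∈ octads, u • o = o := by
  classical
  let f : octads → octads := fun o => ⟨u • o.1, smul_mem_octads u o.2⟩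
  have hf : Function.Involutive f := by
    intro o
    apply Subtype.ext
    change u • u • o.1 = o.1
    rw [smul_smul, hu, one_smul]
  have hfin : Finite octads := Set.toFinite octads
  have := Fintype.ofFinite octads
  have hc : Fintype.card octads = 759 := by
    rw [← Nat.card_eq_fintype_card, Nat.card_coe_set_eq]
    exact Cfsg.Agent.SporadicA.GolayCount.octads_ncard
  have hp : (show Function.End octads from f) ^ 2 ^ 1 = 1 := by
    funext o
    rw [pow_one, pow_two]
    exact hf o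
  have h := Equiv.Perm.card_fixedPoints_modEq hp
  rw [hc] at h
  by_contra hno
  push Not at hno
  have h0 : Fintype.card (Function.fixedPoints f) = 0 := by
    rw [Fintype.card_eq_zero_iff]
    refine ⟨fun o => hno o.1.1 o.1.2 ?_⟩
    have := o.2
    exact congrArg Subtype.val this
  have h' : 759 ≡ Fintype.card (Function.fixedPoints f) [MOD 2] := by convert h
  rw [h0] at h'
  exact absurd h' (by decide)

/-! ### The table -/

/-- check of a row of the table -/
def rowOk (r : ℕ × ℕ × ℕ × ℕ × ℕ) : Bool :=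
  ok r.2.2.1 && (List.range 6).all (fun i => Nat.beq (papp r.2.2.1 (fr.getD i 0)) (fr.getD (pat r.1 i) 0)) &&
    Nat.beq (papp r.2.2.1 s7) r.2.1 &&
    ((Nat.beq r.2.2.2.1 0 && (Nat.beq r.2.2.1 idP ||
        (List.range 24).any fun i => !(Nat.beq (papp r.2.2.1 (papp r.2.2.1 i)) i))) ||
      (Nat.beq r.2.2.2.1 1 && ok r.2.2.2.2 &&
        Nat.beq (pcomp r.2.2.2.2 r.2.2.1) (pcomp P1 r.2.2.2.2)) ||
      (Nat.beq r.2.2.2.1 2 && ok r.2.2.2.2 &&
        Nat.beq (pcomp r.2.2.2.2 r.2.2.1) (pcomp P2 r.2.2.2.2)))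

theorem tab_ok : ((List.range 4).all fun k => (List.range 24).all fun q => octMask.testBit q ||
    tab.any fun r => Nat.beq r.1 k && Nat.beq r.2.1 q && rowOk r) = true := by decide +kernel

theorem ok_P1 : ok P1 = true := by decide +kernel
theorem ok_P2 : ok P2 = true := by decide +kernel

theorem fr_ok : ((List.range 6).all fun i => octMask.testBit (fr.getD i 0) && Nat.blt (fr.getD i 0) 24) =
    true := by decide +kernel

theorem octMask_mem : fin octMask ∈ octads := by
  rw [fin_mem_octads_iff (by norm_num [octMask])]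
  exact ⟨by decide +kernel, by decide +kernel⟩

theorem exists_row {k q : ℕ} (hk : k < 4) (hq : q < 24) (hqo : octMask.testBit q = false) :
    ∃ P kind C, ok P = true ∧ (∀ i < 6, papp P (fr.getD i 0) = fr.getD (pat k i) 0) ∧
      papp P s7 = q ∧ ((kind = 0 ∧ (P = idP ∨ ∃ i < 24, papp P (papp P i) ≠ i)) ∨
      (kind = 1 ∧ ok C = true ∧ pcomp C P = pcomp P1 C) ∨
      (kind = 2 ∧ ok C = true ∧ pcomp C P = pcomp P2 C)) := by
  have h := tab_ok
  rw [List.all_eq_true] at h
  have h1 := h k (List.mem_range.mpr hk)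
  rw [List.all_eq_true] at h1
  have h2 := h1 q (List.mem_range.mpr hq)
  rw [hqo, Bool.false_or, List.any_eq_true] at h2
  obtain ⟨r, -, hr⟩ := h2
  rw [Bool.and_eq_true, Bool.and_eq_true, Nat.beq_eq, Nat.beq_eq] at hr
  obtain ⟨⟨rfl, rfl⟩, hr⟩ := hr
  unfold rowOk at hr
  simp only [Bool.and_eq_true, Bool.or_eq_true, Nat.beq_eq, List.all_eq_true,
    List.any_eq_true, List.mem_range, Bool.not_eq_true'] at hr
  obtain ⟨⟨⟨h1, h2⟩, h3⟩, h4⟩ := hr
  refine ⟨r.2.2.1, r.2.2.2.1, r.2.2.2.2, h1, h2, h3, ?_⟩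
  rcases h4 with (⟨h4, h5⟩ | ⟨⟨h4, h5⟩, h6⟩) | ⟨⟨h4, h5⟩, h6⟩
  · refine Or.inl ⟨h4, ?_⟩
    rcases h5 with h5 | ⟨i, hi, h5⟩
    · exact Or.inl h5
    · refine Or.inr ⟨i, hi, fun e => ?_⟩
      rw [e, Nat.beq_refl] at h5
      exact absurd h5 (by decide)
  · exact Or.inr (Or.inl ⟨h4, h5, h6⟩)
  · exact Or.inr (Or.inr ⟨h4, h5, h6⟩)

/-- An involution of `M24` is conjugate to `el P1` or to `el P2`. -/
theorem invol_conj (u : M24) (hu : u * u = 1) (h1 : u ≠ 1) :
    ∃ g : M24, g * u * g⁻¹ = el P1 ∨ g * u * g⁻¹ = el P2 := by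
  obtain ⟨o, ho, huo⟩ := exists_octad u hu
  have hcard : o.card = 8 := octad_card ho
  have huu : ∀ p : GolayPt, u • u • p = p := fun p => by rw [smul_smul, hu, one_smul]
  have hinv : ∀ p ∈ o, u • p ∈ o := by
    intro p hp
    have : u • p ∈ u • o := Finset.smul_mem_smul_finset hp
    rwa [huo] at this
  obtain ⟨k, hk, a, hinj, hmem, hpat⟩ := exists_frame (fun p => u • p) huu o hinv (by omega)
  -- a point outside the octad
  obtain ⟨p, hp⟩ : ∃ p, p ∉ o := by
    by_contra hno
    push Not at hno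
    have : o = Finset.univ := Finset.eq_univ_iff_forall.mpr hno
    rw [this] at hcard
    exact absurd hcard (by decide)
  have hfr := fr_ok
  simp only [List.all_eq_true, List.mem_range, Bool.and_eq_true, Nat.blt_eq] at hfr
  have hfr_inj : ∀ i < 6, ∀ j < 6, fr.getD i 0 = fr.getD j 0 → i = j := by decide
  have hpt : ∀ i < 6, pt (fr.getD i 0) ∈ fin octMask := by
    intro i hi
    rw [mem_fin, idx_pt (hfr i hi).2]
    exact (hfr i hi).1
  have hs7 : pt s7 ∉ fin octMask := by
    rw [mem_fin, idx_pt (by norm_num [s7])]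
    decide
  have hpat6 : ∀ k < 4, ∀ i < 6, pat k i < 6 := by decide
  obtain ⟨g, ⟨hgM, hg1, hg2⟩, -⟩ :=
    Cfsg.Agent.SporadicStructure.M24Frame.exists_unique_frame_map octMask_mem ho
      (a := fun i : Fin 6 => pt (fr.getD i 0)) (a' := fun i : Fin 6 => a i)
      (fun i j h => Fin.ext (hfr_inj i i.2 j j.2 (by
        have := congrArg idx h
        rwa [idx_pt (hfr i i.2).2, idx_pt (hfr j j.2).2] at this)))
      (fun i j h => Fin.ext (hinj i i.2 j j.2 h))
      (fun i => hpt i i.2) (fun i => hmem i i.2) (p := pt s7) (p' := p) hs7 hp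
  -- the conjugate
  let gM : M24 := ⟨g, hgM⟩
  let v : M24 := gM⁻¹ * u * gM
  have hgo : gM • fin octMask = o := by
    apply octad_unique (smul_mem_octads gM octMask_mem) ho
    have hsub : (Finset.univ.image fun i : Fin 6 => a i) ⊆ gM • fin octMask ∩ o := by
      intro r hr
      obtain ⟨i, -, rfl⟩ := Finset.mem_image.mp hr
      rw [Finset.mem_inter]
      refine ⟨?_, hmem i i.2⟩
      have h3 : gM • pt (fr.getD i 0) = a i := hg1 i
      rw [← h3]
      exact Finset.smul_mem_smul_finset (hpt i i.2)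
    have hc := Finset.card_le_card hsub
    rw [Finset.card_image_of_injective _ (fun i j h => Fin.ext (hinj i i.2 j j.2 h)),
      Finset.card_univ, Fintype.card_fin] at hc
    omega
  have hv1 : ∀ i < 6, v • pt (fr.getD i 0) = pt (fr.getD (pat k i) 0) := by
    intro i hi
    have h3 : gM • pt (fr.getD i 0) = a i := hg1 ⟨i, hi⟩
    have h4 : gM • pt (fr.getD (pat k i) 0) = a (pat k i) := hg1 ⟨pat k i, hpat6 k hk i hi⟩
    have h5 : u • a i = a (pat k i) := hpat i hi
    rw [mul_smul, mul_smul, h3, h5, ← h4, inv_smul_smul]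
  let q := idx (v • pt s7)
  have hvo : v • fin octMask = fin octMask := by
    rw [mul_smul, mul_smul, hgo, huo, ← hgo, inv_smul_smul]
  have hq : octMask.testBit q = false := by
    rw [Bool.eq_false_iff]
    intro h
    have h3 : v • pt s7 ∈ fin octMask := mem_fin.mpr h
    rw [← hvo] at h3
    exact hs7 ((Finset.smul_mem_smul_finset_iff v).mp h3)
  obtain ⟨P, kind, C, hP, hP1, hP2, hcase⟩ := exists_row hk (idx_lt _) hq
  have hvP : v = el P := by
    have hqn : v • pt s7 ∉ fin octMask := by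
      rw [mem_fin]
      change ¬ octMask.testBit q = true
      rw [hq]; decide
    obtain ⟨w, -, hw⟩ := Cfsg.Agent.SporadicStructure.M24Frame.exists_unique_frame_map
      octMask_mem octMask_mem
      (a := fun i : Fin 6 => pt (fr.getD i 0)) (a' := fun i : Fin 6 => pt (fr.getD (pat k i) 0))
      (fun i j h => Fin.ext (hfr_inj i i.2 j j.2 (by
        have := congrArg idx h
        rwa [idx_pt (hfr i i.2).2, idx_pt (hfr j j.2).2] at this)))
      (fun i j h => by
        have h5 : pt (fr.getD (pat k i) 0) = pt (fr.getD (pat k j) 0) := h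
        rw [← hv1 i i.2, ← hv1 j j.2] at h5
        have h6 := MulAction.injective v h5
        have := congrArg idx h6
        rw [idx_pt (hfr i i.2).2, idx_pt (hfr j j.2).2] at this
        exact Fin.ext (hfr_inj i i.2 j j.2 this))
      (fun i => hpt i i.2) (fun i => hpt _ (hpat6 k hk i i.2)) (p := pt s7) (p' := v • pt s7)
      hs7 hqn
    have e1 := hw (v : Equiv.Perm GolayPt) ⟨v.2, fun i => hv1 i i.2, rfl⟩
    have e2 := hw (el P : Equiv.Perm GolayPt) ⟨(el P).2, fun i => ?_, ?_⟩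
    · exact Subtype.ext (e1.trans e2.symm)
    · change el P • pt (fr.getD i 0) = pt (fr.getD (pat k i) 0)
      rw [el_smul_pt hP, idx_pt (hfr i i.2).2, hP1 i i.2]
    · change el P • pt s7 = v • pt s7
      rw [el_smul_pt hP, idx_pt (by norm_num [s7]), hP2, pt_idx]
  have hvv : v * v = 1 := by
    change gM⁻¹ * u * gM * (gM⁻¹ * u * gM) = 1
    have : gM⁻¹ * u * gM * (gM⁻¹ * u * gM) = gM⁻¹ * (u * u) * gM := by group
    rw [this, hu]; group
  rcases hcase with ⟨-, rfl | ⟨i, hi, hne⟩⟩ | ⟨-, hC, hCP⟩ | ⟨-, hC, hCP⟩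
  · exfalso
    apply h1
    have h7 : u = gM * v * gM⁻¹ := by
      change u = gM * (gM⁻¹ * u * gM) * gM⁻¹
      group
    rw [h7, hvP, el_idP]; group
  · exfalso
    apply hne
    have h3 : v • v • pt i = pt i := by rw [smul_smul, hvv, one_smul]
    have h4 := congrArg idx h3
    rw [idx_pt hi, hvP, idx_el_smul hP, idx_el_smul hP, idx_pt hi] at h4
    exact h4
  · refine ⟨el C * gM⁻¹, Or.inl ?_⟩
    have h3 := congrArg el hCP
    rw [el_pcomp hC hP, el_pcomp ok_P1 hC, ← hvP] at h3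
    have h4 : el C * gM⁻¹ * u * (el C * gM⁻¹)⁻¹ = el C * v * (el C)⁻¹ := by
      change el C * gM⁻¹ * u * (el C * gM⁻¹)⁻¹ = el C * (gM⁻¹ * u * gM) * (el C)⁻¹
      group
    rw [h4, h3]; group
  · refine ⟨el C * gM⁻¹, Or.inr ?_⟩
    have h3 := congrArg el hCP
    rw [el_pcomp hC hP, el_pcomp ok_P2 hC, ← hvP] at h3
    have h4 : el C * gM⁻¹ * u * (el C * gM⁻¹)⁻¹ = el C * v * (el C)⁻¹ := by
      change el C * gM⁻¹ * u * (el C * gM⁻¹)⁻¹ = el C * (gM⁻¹ * u * gM) * (el C)⁻¹
      group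
    rw [h4, h3]; group

end Cfsg.Agent.J4.M24Invol
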