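import Cfsg.Agent.J4.GroupLemmas

/-!
# Elementary abelian 2-groups with coordinates

`beta l v` is the product of the elements of the list `l` selected by the bits of `v`; `lin A v` is the
xor of the entries of `A` selected by the bits of `v`.
-/

set_option autoImplicit false

namespace Cfsg.Agent.J4.Beta

open Cfsg.Agent.Lib.F2MatGroup Cfsg.Agent.J4.GroupLemmas

variable {G : Type*} [Group G]

/-- product of the entries selected by the bits of `v` -/
def beta : List G → ℕ → G
  | [], _ => 1
  | a :: l, v => (if v % 2 = 1 then a else 1) * beta l (v / 2)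

theorem beta_nil (v : ℕ) : beta ([] : List G) v = 1 := rfl
theorem beta_cons (a : G) (l : List G) (v : ℕ) :
    beta (a :: l) v = (if v % 2 = 1 then a else 1) * beta l (v / 2) := rfl

/-- xor of the entries selected by the bits of `v` -/
def lin (A : List ℕ) : ℕ → ℕ :=
  List.rec (motive := fun _ => ℕ → ℕ) (fun _ => 0)
    (fun a _ ih v => cond (Nat.beq (v % 2) 1) (Nat.xor a (ih (v / 2))) (ih (v / 2))) A

theorem lin_nil (v : ℕ) : lin [] v = 0 := rfl
theorem lin_cons (a : ℕ) (A : List ℕ) (v : ℕ) :
    lin (a :: A) v = if v % 2 = 1 then a ^^^ lin A (v / 2) else lin A (v / 2) := by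
  change cond (Nat.beq (v % 2) 1) (Nat.xor a (lin A (v / 2))) (lin A (v / 2)) = _
  by_cases h : v % 2 = 1
  · rw [if_pos h, h]; rfl
  · rw [if_neg h]
    have : v % 2 = 0 := by omega
    rw [this]; rfl

theorem beta_zero (l : List G) : beta l 0 = 1 := by
  induction l with
  | nil => rfl
  | cons a l ih => rw [beta_cons, Nat.zero_div, ih]; simp

theorem beta_mem (S : Subgroup G) (l : List G) (h : ∀ a ∈ l, a ∈ S) (v : ℕ) : beta l v ∈ S := by
  induction l generalizing v with
  | nil => exact S.one_mem
  | cons a l ih =>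
    rw [beta_cons]
    refine S.mul_mem ?_ (ih (fun b hb => h b (List.mem_cons_of_mem _ hb)) _)
    split_ifs
    · exact h a (List.mem_cons_self ..)
    · exact S.one_mem

theorem beta_comm (l : List G) (g : G) (h : ∀ a ∈ l, a * g = g * a) (v : ℕ) :
    beta l v * g = g * beta l v := by
  have := beta_mem (Subgroup.centralizer {g}) l
    (fun a ha => Subgroup.mem_centralizer_singleton_iff.mpr (h a ha)) v
  exact Subgroup.mem_centralizer_singleton_iff.mp this

theorem xor_mod_two (v w : ℕ) : (v ^^^ w) % 2 = (v % 2 + w % 2) % 2 := by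
  have h := Nat.xor_mod_two_pow (a := v) (b := w) (n := 1)
  rw [pow_one] at h
  rw [h]
  rcases Nat.mod_two_eq_zero_or_one v with h1 | h1 <;>
    rcases Nat.mod_two_eq_zero_or_one w with h2 | h2 <;> rw [h1, h2] <;> rfl

theorem xor_div_two (v w : ℕ) : (v ^^^ w) / 2 = v / 2 ^^^ w / 2 := by
  have h := Nat.xor_div_two (a := v) (b := w)
  exact h

theorem beta_xor (l : List G) (hsq : ∀ q ∈ l, q * q = 1) (hcomm : ∀ a ∈ l, ∀ b ∈ l, a * b = b * a)
    (v w : ℕ) : beta l (v ^^^ w) = beta l v * beta l w := by
  induction l generalizing v w with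
  | nil => simp [beta_nil]
  | cons a l ih =>
    have ih' := ih (fun q hq => hsq q (List.mem_cons_of_mem _ hq))
      (fun b hb c hc => hcomm b (List.mem_cons_of_mem _ hb) c (List.mem_cons_of_mem _ hc)) (v / 2) (w / 2)
    rw [beta_cons, beta_cons, beta_cons, xor_div_two, ih', xor_mod_two]
    have hc : beta l (v / 2) * a = a * beta l (v / 2) :=
      beta_comm l a (fun b hb => hcomm b (List.mem_cons_of_mem _ hb) a (List.mem_cons_self ..)) _
    have haa := hsq a (List.mem_cons_self ..)
    by_cases h1 : v % 2 = 1 <;> by_cases h2 : w % 2 = 1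
    · have h3 : ¬ (v % 2 + w % 2) % 2 = 1 := by omega
      rw [if_pos h1, if_pos h2, if_neg h3, one_mul, ← mul_assoc, mul_assoc a, hc, ← mul_assoc,
        haa, one_mul]
    · have h3 : (v % 2 + w % 2) % 2 = 1 := by omega
      rw [if_pos h1, if_neg h2, if_pos h3, one_mul, mul_assoc]
    · have h3 : (v % 2 + w % 2) % 2 = 1 := by omega
      rw [if_neg h1, if_pos h2, if_pos h3, one_mul, ← mul_assoc, ← mul_assoc, hc]
    · have h3 : ¬ (v % 2 + w % 2) % 2 = 1 := by omega
      rw [if_neg h1, if_neg h2, if_neg h3, one_mul, one_mul, one_mul]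

theorem beta_sq (l : List G) (hsq : ∀ q ∈ l, q * q = 1)
    (hcomm : ∀ a ∈ l, ∀ b ∈ l, a * b = b * a) (v : ℕ) : beta l v * beta l v = 1 := by
  rw [← beta_xor l hsq hcomm, Nat.xor_self, beta_zero]

theorem conj_beta (l : List G) (hsq : ∀ q ∈ l, q * q = 1)
    (hcomm : ∀ a ∈ l, ∀ b ∈ l, a * b = b * a) (g : G) {l' : List G} {A : List ℕ}
    (h : List.Forall₂ (fun a c => g * a * g⁻¹ = beta l c) l' A) (v : ℕ) :
    g * beta l' v * g⁻¹ = beta l (lin A v) := by
  induction h generalizing v with
  | nil => rw [beta_nil, lin_nil, beta_zero]; simp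
  | @cons a c l' A h1 _ ih =>
    rw [beta_cons, lin_cons]
    split_ifs with hv
    · have : g * (a * beta l' (v / 2)) * g⁻¹ = (g * a * g⁻¹) * (g * beta l' (v / 2) * g⁻¹) := by
        group
      rw [this, h1, ih, beta_xor l hsq hcomm]
    · rw [one_mul, ih]

theorem beta_inj_one {l : List G} (hind : Ind l) {v : ℕ} (hv : v < 2 ^ l.length)
    (h : beta l v = 1) : v = 0 := by
  induction l generalizing v with
  | nil => simpa using hv
  | cons a l ih =>
    obtain ⟨⟨S, hS, haS⟩, hind'⟩ := hind
    rw [List.length_cons, pow_succ] at hv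
    rw [beta_cons] at h
    by_cases h1 : v % 2 = 1
    · exfalso
      rw [if_pos h1] at h
      apply haS
      have h2 : a = (beta l (v / 2))⁻¹ := eq_inv_of_mul_eq_one_left h
      rw [h2]
      exact S.inv_mem (beta_mem S l hS _)
    · rw [if_neg h1, one_mul] at h
      have := ih hind' (by omega) h
      omega

theorem beta_inj {l : List G} (hsq : ∀ q ∈ l, q * q = 1)
    (hcomm : ∀ a ∈ l, ∀ b ∈ l, a * b = b * a) (hind : Ind l) {v w : ℕ} (hv : v < 2 ^ l.length)
    (hw : w < 2 ^ l.length) (h : beta l v = beta l w) : v = w := by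
  have h1 : beta l (v ^^^ w) = 1 := by rw [beta_xor l hsq hcomm, h, beta_sq l hsq hcomm]
  have h2 := beta_inj_one hind (Nat.xor_lt_two_pow hv hw) h1
  exact Nat.xor_eq_zero_iff.mp h2

theorem exists_beta_of_mem {l : List G} {q : G} (hq : q ∈ l) :
    ∃ v < 2 ^ l.length, q = beta l v := by
  induction l with
  | nil => simp at hq
  | cons a l ih =>
    rcases List.mem_cons.mp hq with rfl | hq
    · refine ⟨1, ?_, ?_⟩
      · rw [List.length_cons]; exact Nat.one_lt_two_pow (by omega)
      · rw [beta_cons]; simp [beta_zero]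
    · obtain ⟨v, hv, rfl⟩ := ih hq
      refine ⟨2 * v, ?_, ?_⟩
      · rw [List.length_cons, pow_succ]; omega
      · rw [beta_cons]
        have h1 : ¬ (2 * v) % 2 = 1 := by omega
        have h2 : 2 * v / 2 = v := by omega
        rw [if_neg h1, one_mul, h2]

theorem exists_beta {l : List G} (hsq : ∀ q ∈ l, q * q = 1)
    (hcomm : ∀ a ∈ l, ∀ b ∈ l, a * b = b * a) {q : G}
    (hq : q ∈ Subgroup.closure {q | q ∈ l}) : ∃ v < 2 ^ l.length, q = beta l v := by
  induction hq using Subgroup.closure_induction with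
  | mem q hq => exact exists_beta_of_mem hq
  | one => exact ⟨0, Nat.two_pow_pos _, (beta_zero l).symm⟩
  | mul a b _ _ ha hb =>
    obtain ⟨v, hv, rfl⟩ := ha
    obtain ⟨w, hw, rfl⟩ := hb
    exact ⟨v ^^^ w, Nat.xor_lt_two_pow hv hw, (beta_xor l hsq hcomm v w).symm⟩
  | inv a _ ha =>
    obtain ⟨v, hv, rfl⟩ := ha
    exact ⟨v, hv, inv_eq_of_mul_eq_one_left (beta_sq l hsq hcomm v)⟩

/-- the word in the generators number `b, b+1, …` with exponents the bits of `v` -/
def bw : ℕ → ℕ → ℕ → List ℕ
  | 0, _, _ => []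
  | n + 1, b, v => if v % 2 = 1 then b :: bw n (b + 1) (v / 2) else bw n (b + 1) (v / 2)

theorem evG_bw (L : List G) (l : List G) (b v : ℕ) (h : ∀ i < l.length, getG L (b + i) = l.getD i 1) :
    evG L (bw l.length b v) = beta l v := by
  induction l generalizing b v with
  | nil => rfl
  | cons a l ih =>
    have h0 : getG L b = a := by
      have := h 0 (by simp)
      simpa using this
    have ih' := ih (b + 1) (v / 2) (by
      intro i hi
      have := h (i + 1) (by simpa using hi)
      rw [show b + 1 + i = b + (i + 1) by ring, this]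
      rfl)
    rw [List.length_cons, beta_cons, bw]
    split_ifs with hv
    · rw [evG_cons, h0, ih']
    · rw [ih', one_mul]

theorem evG_append (L : List G) (a b : List ℕ) : evG L (a ++ b) = evG L a * evG L b := by
  induction a with
  | nil => rw [List.nil_append, evG_nil, one_mul]
  | cons i a ih => rw [List.cons_append, evG_cons, evG_cons, ih, mul_assoc]

end Cfsg.Agent.J4.Beta
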