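import Cfsg.Agent.J4.Check

/-!
# Orders of subgroups of M24 from chains, and block stabilisers
-/

set_option autoImplicit false

open Cfsg

noncomputable section

namespace Cfsg.Agent.J4.Blocks

open Cfsg.Agent.J4.M24Hom Cfsg.Agent.J4.Packed Cfsg.Agent.J4.Engine

/-! ### The action on labels -/

/-- label of a point -/
def lidx (p : GolayPt) : ℕ := (lab_surj p).choose

theorem lidx_lt (p : GolayPt) : lidx p < 24 := (lab_surj p).choose_spec.1

theorem lab_lidx (p : GolayPt) : lab (lidx p) = p := (lab_surj p).choose_spec.2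

theorem lidx_lab {i : ℕ} (hi : i < 24) : lidx (lab i) = i :=
  lab_inj _ (lidx_lt _) _ hi (lab_lidx _)

/-- the action on labels from the right -/
def act (g : M24) (i : ℕ) : ℕ := lidx (((g⁻¹ : M24) : Equiv.Perm GolayPt) (lab i))

theorem act_lt (g : M24) (i : ℕ) : act g i < 24 := lidx_lt _

theorem lab_act (g : M24) (i : ℕ) : lab (act g i) = ((g⁻¹ : M24) : Equiv.Perm GolayPt) (lab i) :=
  lab_lidx _

theorem act_mul (g h : M24) (i : ℕ) : act (g * h) i = act h (act g i) := by
  unfold act
  rw [mul_inv_rev, Subgroup.coe_mul, Equiv.Perm.mul_apply]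
  rw [lab_lidx]

theorem act_one {i : ℕ} (hi : i < 24) : act 1 i = i := by
  unfold act
  rw [inv_one, Subgroup.coe_one, Equiv.Perm.one_apply, lidx_lab hi]

theorem rep_act {n : ℕ} {g : M24} (h : Rep n g) {i : ℕ} (hi : i < 24) : getb n i = 8 * act g i := by
  obtain ⟨j, hj, h1, h2⟩ := h i hi
  rw [h1]
  unfold act
  rw [h2, lidx_lab hj]

theorem act_inj {g : M24} {i j : ℕ} (hi : i < 24) (hj : j < 24) (h : act g i = act g j) :
    i = j := by
  have h1 : act (g * g⁻¹) i = act (g * g⁻¹) j := by rw [act_mul, act_mul, h]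
  rwa [mul_inv_cancel, act_one hi, act_one hj] at h1

/-! ### Pointwise stabilisers of initial segments -/

/-- elements of `S` fixing the labels below `k` -/
def Fx (S : Subgroup M24) (k : ℕ) : Subgroup M24 where
  carrier := {g | g ∈ S ∧ ∀ i, i < k → i < 24 → act g i = i}
  mul_mem' := by
    rintro a b ⟨ha, ha'⟩ ⟨hb, hb'⟩
    refine ⟨S.mul_mem ha hb, fun i h1 h2 => ?_⟩
    rw [act_mul, ha' i h1 h2, hb' i h1 h2]
  one_mem' := ⟨S.one_mem, fun i _ h2 => act_one h2⟩
  inv_mem' := by
    rintro a ⟨ha, ha'⟩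
    refine ⟨S.inv_mem ha, fun i h1 h2 => ?_⟩
    have h3 : act (a * a⁻¹) i = i := by rw [mul_inv_cancel, act_one h2]
    rwa [act_mul, ha' i h1 h2] at h3

theorem Fx_zero (S : Subgroup M24) : Fx S 0 = S := by
  ext g
  constructor
  · intro h; exact h.1
  · intro h; exact ⟨h, fun i h1 _ => absurd h1 (Nat.not_lt_zero i)⟩

theorem Fx_mono (S : Subgroup M24) {k k' : ℕ} (h : k ≤ k') : Fx S k' ≤ Fx S k :=
  fun _ hg => ⟨hg.1, fun i h1 h2 => hg.2 i (lt_of_lt_of_le h1 h) h2⟩

theorem card_Fx_le (S : Subgroup M24) {k k' : ℕ} (h : k ≤ k') :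
    Nat.card (Fx S k') ≤ Nat.card (Fx S k) :=
  Nat.card_le_card_of_injective (Subgroup.inclusion (Fx_mono S h))
    (Subgroup.inclusion_injective _)

theorem card_Fx_ge (S : Subgroup M24) {k : ℕ} (hk : k < 24) (T : Finset ℕ)
    (hT : ∀ j ∈ T, ∃ g ∈ Fx S k, act g k = j) :
    T.card * Nat.card (Fx S (k + 1)) ≤ Nat.card (Fx S k) := by
  classical
  choose! f hf using hT
  have h1 : Nat.card (↥T × Fx S (k + 1)) = T.card * Nat.card (Fx S (k + 1)) := by
    rw [Nat.card_prod, Nat.card_eq_fintype_card, Fintype.card_coe]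
  rw [← h1]
  refine Nat.card_le_card_of_injective
    (fun x : ↥T × Fx S (k + 1) => (⟨x.2.1 * f x.1.1, (Fx S k).mul_mem
      (Fx_mono S (Nat.le_succ k) x.2.2) (hf x.1.1 x.1.2).1⟩ : Fx S k)) ?_
  rintro ⟨⟨j, hj⟩, h⟩ ⟨⟨j', hj'⟩, h'⟩ he
  have he' : h.1 * f j = h'.1 * f j' := congrArg Subtype.val he
  have h2 : ∀ (h : Fx S (k + 1)) (j : ℕ), j ∈ T → act (h.1 * f j) k = j := by
    intro h j hj
    rw [act_mul, h.2.2 k (Nat.lt_succ_self k) hk, (hf j hj).2]
  have h3 : j = j' := by rw [← h2 h j hj, he', h2 h' j' hj']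
  subst h3
  have h4 : h = h' := Subtype.ext (mul_right_cancel he')
  rw [h4]

/-! ### Chains -/

/-- levels of a stabiliser chain: level, number of elements, stream of 12-bit identifiers -/
inductive LL where
  | nil : LL
  | cons (k n ids : ℕ) (rest : LL) : LL

/-- the order bound given by a chain -/
def LL.prod : LL → ℕ
  | .nil => 1
  | .cons _ n _ r => (n + 1) * r.prod

/-- check one level -/
def lvlChk (fetch : ℕ → (ℕ → Bool) → Bool) (k n : ℕ) : ℕ → ℕ → Bool :=
  @Nat.rec (fun _ => ℕ → ℕ → Bool) (fun _ _ => true)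
    (fun _ ih s seen => fetch (Nat.land s (nat_lit 4095)) fun p =>
      band (Nat.beq (Nat.land (Nat.xor p ID)
          (Nat.sub (Nat.shiftLeft (nat_lit 1) (Nat.mul (nat_lit 8) k)) (nat_lit 1))) (nat_lit 0))
        (force (getb p k) fun v =>
          band (Nat.beq (Nat.land (Nat.shiftRight seen v) (nat_lit 1)) (nat_lit 0))
            (force (Nat.lor seen (Nat.shiftLeft (nat_lit 1) v)) fun seen' =>
              force (Nat.shiftRight s (nat_lit 12)) fun s' => ih s' seen'))) n

/-- check a chain -/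
def chain (fetch : ℕ → (ℕ → Bool) → Bool) (L : LL) : ℕ → Bool :=
  @LL.rec (fun _ => ℕ → Bool) (fun _ => true)
    (fun k n ids _ ih lo => band (Nat.ble lo k) (band (Nat.ble (Nat.succ k) (nat_lit 24))
      (band (lvlChk fetch k n ids (Nat.shiftLeft (nat_lit 1) (Nat.mul (nat_lit 8) k)))
        (force (Nat.succ k) ih)))) L

theorem testBit_of_land_one {n v : ℕ}
    (h : Nat.beq (Nat.land (Nat.shiftRight n v) 1) 0 = true) : n.testBit v = false := by
  have h1 : (n >>> v) &&& 1 = 0 := Nat.eq_of_beq_eq_true h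
  rw [Nat.testBit_eq_decide_div_mod_eq]
  rw [Nat.and_one_is_mod, Nat.shiftRight_eq_div_pow] at h1
  simp [h1]

theorem testBit_of_land_one' {n v : ℕ}
    (h : Nat.beq (Nat.land (Nat.shiftRight n v) 1) 1 = true) : n.testBit v = true := by
  have h1 : (n >>> v) &&& 1 = 1 := Nat.eq_of_beq_eq_true h
  rw [Nat.testBit_eq_decide_div_mod_eq]
  rw [Nat.and_one_is_mod, Nat.shiftRight_eq_div_pow] at h1
  simp [h1]

theorem low_bytes {p k : ℕ} (h : Nat.beq (Nat.land (Nat.xor p ID)
    (Nat.sub (Nat.shiftLeft 1 (Nat.mul 8 k)) 1)) 0 = true) {i : ℕ} (hi : i < k) :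
    getb p i = getb ID i := by
  have h1 : (p ^^^ ID) &&& (1 <<< (8 * k) - 1) = 0 := Nat.eq_of_beq_eq_true h
  rw [Nat.one_shiftLeft] at h1
  apply Nat.eq_of_testBit_eq
  intro b
  rw [testBit_getb, testBit_getb]
  by_cases hb : b < 8
  · have h2 := congrArg (fun x => x.testBit (8 * i + b)) h1
    simp only [Nat.testBit_and, Nat.testBit_xor, Nat.testBit_two_pow_sub_one, Nat.zero_testBit] at h2
    have h3 : 8 * i + b < 8 * k := by omega
    simp only [h3, decide_true, Bool.and_true] at h2
    have h4 : p.testBit (8 * i + b) = ID.testBit (8 * i + b) := by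
      cases h5 : p.testBit (8 * i + b) <;> cases h6 : ID.testBit (8 * i + b) <;> simp_all
    rw [h4]
  · simp [hb]

theorem lvlChk_sound {S : Subgroup M24} {fetch : ℕ → (ℕ → Bool) → Bool}
    (hf : ∀ id kk, fetch id kk = true → ∃ p g, g ∈ S ∧ Rep p g ∧ kk p = true) {k : ℕ}
    (hk : k < 24) (n : ℕ) : ∀ s seen, lvlChk fetch k n s seen = true → ∃ T : Finset ℕ,
      T.card = n ∧ ∀ j ∈ T, seen.testBit (8 * j) = false ∧ ∃ g ∈ Fx S k, act g k = j := by
  classical
  induction n with
  | zero => intro s seen _; exact ⟨∅, rfl, by simp⟩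
  | succ n ih =>
    intro s seen h
    have h1 : lvlChk fetch k (n + 1) s seen = fetch (Nat.land s (nat_lit 4095)) (fun p =>
      band (Nat.beq (Nat.land (Nat.xor p ID)
          (Nat.sub (Nat.shiftLeft (nat_lit 1) (Nat.mul (nat_lit 8) k)) (nat_lit 1))) (nat_lit 0))
        (force (getb p k) fun v =>
          band (Nat.beq (Nat.land (Nat.shiftRight seen v) (nat_lit 1)) (nat_lit 0))
            (force (Nat.lor seen (Nat.shiftLeft (nat_lit 1) v)) fun seen' =>
              force (Nat.shiftRight s (nat_lit 12)) fun s' => lvlChk fetch k n s' seen'))) := rfl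
    rw [h1] at h
    obtain ⟨p, g, hg, rp, hh⟩ := hf _ _ h
    simp only [force_eq, band_iff] at hh
    obtain ⟨h2, h3, h4⟩ := hh
    obtain ⟨T, hT1, hT2⟩ := ih _ _ h4
    have h5 := rep_act rp hk
    have h6 := testBit_of_land_one h3
    rw [h5] at h6
    have h7 : ∀ j, (Nat.lor seen (Nat.shiftLeft 1 (getb p k))).testBit (8 * j) = false →
        seen.testBit (8 * j) = false ∧ j ≠ act g k := by
      intro j hj
      have h8 : Nat.lor seen (Nat.shiftLeft 1 (getb p k)) = seen ||| 1 <<< (getb p k) := rfl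
      rw [h8, h5, Nat.one_shiftLeft, Nat.testBit_or, Nat.testBit_two_pow, Bool.or_eq_false_iff] at hj
      refine ⟨hj.1, ?_⟩
      rintro rfl
      simp at hj
    refine ⟨insert (act g k) T, ?_, ?_⟩
    · rw [Finset.card_insert_of_notMem, hT1]
      intro hmem
      exact (h7 _ (hT2 _ hmem).1).2 rfl
    · intro j hj
      rcases Finset.mem_insert.mp hj with rfl | hj
      · refine ⟨h6, g, ⟨hg, fun i h8 h9 => ?_⟩, rfl⟩
        have h10 := low_bytes h2 h8
        rw [rep_act rp h9, getb_ID i h9] at h10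
        omega
      · obtain ⟨h8, h9⟩ := hT2 j hj
        exact ⟨(h7 j h8).1, h9⟩

theorem chain_sound {S : Subgroup M24} {fetch : ℕ → (ℕ → Bool) → Bool}
    (hf : ∀ id kk, fetch id kk = true → ∃ p g, g ∈ S ∧ Rep p g ∧ kk p = true) (L : LL) :
    ∀ lo, chain fetch L lo = true → L.prod ≤ Nat.card (Fx S lo) := by
  classical
  induction L with
  | nil => intro lo _; exact Nat.card_pos
  | cons k n ids r ih =>
    intro lo h
    have h1 : chain fetch (.cons k n ids r) lo =
      band (Nat.ble lo k) (band (Nat.ble (Nat.succ k) (nat_lit 24))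
      (band (lvlChk fetch k n ids (Nat.shiftLeft (nat_lit 1) (Nat.mul (nat_lit 8) k)))
        (force (Nat.succ k) (chain fetch r)))) := rfl
    rw [h1] at h
    simp only [force_eq, band_iff] at h
    obtain ⟨h2, h3, h4, h5⟩ := h
    have hk : k < 24 := Nat.le_of_ble_eq_true h3
    obtain ⟨T, hT1, hT2⟩ := lvlChk_sound hf hk n _ _ h4
    have h6 := ih _ h5
    have h7 : (Nat.shiftLeft 1 (Nat.mul 8 k)) = 1 <<< (8 * k) := rfl
    have h8 : k ∉ T := by
      intro hmem
      have := (hT2 _ hmem).1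
      rw [h7, Nat.one_shiftLeft, Nat.testBit_two_pow] at this
      simp at this
    have h9 : (insert k T).card * Nat.card (Fx S (k + 1)) ≤ Nat.card (Fx S k) := by
      apply card_Fx_ge S hk
      intro j hj
      rcases Finset.mem_insert.mp hj with rfl | hj
      · exact ⟨1, (Fx S j).one_mem, act_one hk⟩
      · exact (hT2 j hj).2
    rw [Finset.card_insert_of_notMem h8, hT1] at h9
    calc (n + 1) * r.prod ≤ (n + 1) * Nat.card (Fx S (k + 1)) := Nat.mul_le_mul_left _ h6
      _ ≤ Nat.card (Fx S k) := h9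
      _ ≤ Nat.card (Fx S lo) := card_Fx_le S (Nat.le_of_ble_eq_true h2)

theorem chain_card {S : Subgroup M24} {fetch : ℕ → (ℕ → Bool) → Bool}
    (hf : ∀ id kk, fetch id kk = true → ∃ p g, g ∈ S ∧ Rep p g ∧ kk p = true) (L : LL)
    (h : chain fetch L 0 = true) : L.prod ≤ Nat.card S := by
  have := chain_sound hf L 0 h
  rwa [Fx_zero] at this

/-! ### Block stabilisers -/

/-- the block of a label -/
def blk (sh i : ℕ) : ℕ := (8 * i) >>> sh

/-- the stabiliser of a partition into blocks, as a submonoid -/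
def BSm (sh : ℕ) : Submonoid M24 where
  carrier := {w | ∀ i < 24, ∀ j < 24, blk sh i = blk sh j → blk sh (act w i) = blk sh (act w j)}
  mul_mem' := by
    intro a b ha hb i hi j hj h
    rw [act_mul, act_mul]
    exact hb _ (act_lt _ _) _ (act_lt _ _) (ha i hi j hj h)
  one_mem' := by
    intro i hi j hj h
    rw [act_one hi, act_one hj]; exact h

/-- the stabiliser of a partition into blocks -/
def BS (sh : ℕ) : Subgroup M24 :=
  { BSm sh with
    inv_mem' := by
      intro w hw
      have h1 : w ^ (orderOf w - 1) ∈ BSm sh := (BSm sh).pow_mem hw _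
      have h2 : w⁻¹ = w ^ (orderOf w - 1) := by
        rw [inv_eq_iff_mul_eq_one]
        have h3 : 0 < orderOf w := orderOf_pos w
        rw [← pow_succ', Nat.sub_add_cancel h3, pow_orderOf_eq_one]
      change w⁻¹ ∈ BSm sh
      rw [h2]; exact h1 }

theorem mem_BS {sh : ℕ} {w : M24} : w ∈ BS sh ↔
    ∀ i < 24, ∀ j < 24, blk sh i = blk sh j → blk sh (act w i) = blk sh (act w j) := Iff.rfl

theorem BS_iff {sh : ℕ} {w : M24} (hw : w ∈ BS sh) {i j : ℕ} (hi : i < 24) (hj : j < 24) :
    blk sh (act w i) = blk sh (act w j) ↔ blk sh i = blk sh j := by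
  constructor
  · intro h
    have h1 := mem_BS.mp ((BS sh).inv_mem hw) _ (act_lt w i) _ (act_lt w j) h
    rwa [← act_mul, ← act_mul, mul_inv_cancel, act_one hi, act_one hj] at h1
  · exact mem_BS.mp hw i hi j hj

theorem blk_mono (sh : ℕ) {i j : ℕ} (h : i ≤ j) : blk sh i ≤ blk sh j := by
  unfold blk
  rw [Nat.shiftRight_eq_div_pow, Nat.shiftRight_eq_div_pow]
  exact Nat.div_le_div_right (by omega)

theorem kchk_sound {sh mask : ℕ} (hm : ∀ i < 23, blk sh i = blk sh (i + 1) → ∀ k < 8, sh ≤ k →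
    mask.testBit (8 * i + k) = true) {w : ℕ} {W : M24} (hw : Rep w W) (h : kchk mask w = true) :
    W ∈ BS sh := by
  have h1 : (w ^^^ (w >>> 8)) &&& mask = 0 := Nat.eq_of_beq_eq_true h
  have h2 : ∀ i < 23, blk sh i = blk sh (i + 1) →
      blk sh (act W i) = blk sh (act W (i + 1)) := by
    intro i hi hb
    unfold blk
    rw [← rep_act hw (by omega : i < 24), ← rep_act hw (by omega : i + 1 < 24)]
    apply Nat.eq_of_testBit_eq
    intro b
    rw [Nat.testBit_shiftRight, Nat.testBit_shiftRight, testBit_getb, testBit_getb]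
    by_cases hb8 : sh + b < 8
    · have h3 := congrArg (fun x => x.testBit (8 * i + (sh + b))) h1
      simp only [Nat.testBit_and, Nat.testBit_xor, Nat.zero_testBit, Nat.testBit_shiftRight,
        hm i hi hb (sh + b) hb8 (by omega), Bool.and_true] at h3
      have h4 : 8 + (8 * i + (sh + b)) = 8 * (i + 1) + (sh + b) := by ring
      rw [h4] at h3
      have h5 : w.testBit (8 * i + (sh + b)) = w.testBit (8 * (i + 1) + (sh + b)) := by
        cases h6 : w.testBit (8 * i + (sh + b)) <;>
          cases h7 : w.testBit (8 * (i + 1) + (sh + b)) <;> simp_all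
      rw [h5]
    · simp [hb8]
  have h3 : ∀ d i, i + d < 24 → blk sh i = blk sh (i + d) →
      blk sh (act W i) = blk sh (act W (i + d)) := by
    intro d
    induction d with
    | zero => intro i _ _; rfl
    | succ d ih =>
      intro i hi hb
      have h4 : blk sh i ≤ blk sh (i + d) := blk_mono sh (by omega)
      have h5 : blk sh (i + d) ≤ blk sh (i + (d + 1)) := blk_mono sh (by omega)
      have h6 : blk sh i = blk sh (i + d) := by omega
      have h7 : blk sh (i + d) = blk sh (i + d + 1) := by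
        have : i + (d + 1) = i + d + 1 := by ring
        rw [this] at hb h5
        omega
      rw [ih i (by omega) h6, h2 (i + d) (by omega) h7]
      rfl
  rw [mem_BS]
  intro i hi j hj hb
  rcases Nat.le_total i j with hij | hij
  · obtain ⟨d, rfl⟩ := Nat.exists_eq_add_of_le hij
    exact h3 d i hj hb
  · obtain ⟨d, rfl⟩ := Nat.exists_eq_add_of_le hij
    exact (h3 d j hi hb.symm).symm

/-! ### Codes of partitions -/

/-- the label of the block of `p` under `a` -/
def lbl (sh a p : ℕ) : ℕ := Nat.shiftRight (getb a p) sh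

/-- bit mask of the points whose block label is `lp` -/
def bmask (sh a lp n : ℕ) : ℕ → ℕ :=
  @Nat.rec (fun _ => ℕ → ℕ) (fun acc => acc)
    (fun i ih acc => force (@Bool.rec (fun _ => ℕ) acc (Nat.lor acc (Nat.shiftLeft (nat_lit 1) i))
      (Nat.beq (lbl sh a i) lp)) ih) n

/-- the code of a partition -/
def code (sh a : ℕ) (bps : List ℕ) : ℕ :=
  @List.rec ℕ (fun _ => ℕ) (nat_lit 0) (fun p _ ih => Nat.lor (Nat.shiftLeft ih (nat_lit 24))
    (force (lbl sh a p) fun l => bmask sh a l (nat_lit 24) (nat_lit 0))) bps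

theorem bmask_congr {sh a b la lb : ℕ} (n : ℕ)
    (h : ∀ i < n, (lbl sh a i = la ↔ lbl sh b i = lb)) (acc : ℕ) :
    bmask sh a la n acc = bmask sh b lb n acc := by
  induction n generalizing acc with
  | zero => rfl
  | succ n ih =>
    have h1 : ∀ a la, bmask sh a la (n + 1) acc = force (@Bool.rec (fun _ => ℕ) acc
      (Nat.lor acc (Nat.shiftLeft (nat_lit 1) n)) (Nat.beq (lbl sh a n) la))
        (bmask sh a la n) := fun _ _ => rfl
    rw [h1, h1, force_eq, force_eq, ih (fun i hi => h i (by omega))]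
    have h2 : Nat.beq (lbl sh a n) la = Nat.beq (lbl sh b n) lb := by
      have h3 := h n (by omega)
      cases h4 : Nat.beq (lbl sh a n) la with
      | true =>
        have h5 := h3.mp (Nat.eq_of_beq_eq_true h4)
        rw [h5]; simp
      | false =>
        cases h5 : Nat.beq (lbl sh b n) lb with
        | false => rfl
        | true =>
          have h6 := h3.mpr (Nat.eq_of_beq_eq_true h5)
          rw [h6] at h4; simp at h4
    rw [h2]

theorem code_congr {sh a b : ℕ} (bps : List ℕ)
    (h : ∀ p ∈ bps, ∀ i < 24, (lbl sh a i = lbl sh a p ↔ lbl sh b i = lbl sh b p)) :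
    code sh a bps = code sh b bps := by
  induction bps with
  | nil => rfl
  | cons p ps ih =>
    have h1 : ∀ a, code sh a (p :: ps) = Nat.lor (Nat.shiftLeft (code sh a ps) (nat_lit 24))
      (force (lbl sh a p) fun l => bmask sh a l (nat_lit 24) (nat_lit 0)) := fun _ => rfl
    rw [h1, h1, force_eq, force_eq, ih (fun q hq => h q (List.mem_cons_of_mem _ hq)),
      bmask_congr 24 (h p List.mem_cons_self)]

theorem code_inv {sh a b : ℕ} {g w : M24} (ha : Rep a g) (hb : Rep b (g * w)) (hw : w ∈ BS sh)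
    (bps : List ℕ) (hbps : ∀ p ∈ bps, p < 24) : code sh a bps = code sh b bps := by
  apply code_congr
  intro p hp i hi
  have hp' := hbps p hp
  have h1 : ∀ i < 24, lbl sh a i = blk sh (act g i) := fun i hi => by
    unfold lbl blk; rw [rep_act ha hi]; rfl
  have h2 : ∀ i < 24, lbl sh b i = blk sh (act w (act g i)) := fun i hi => by
    unfold lbl blk; rw [rep_act hb hi, act_mul]; rfl
  rw [h1 i hi, h1 p hp', h2 i hi, h2 p hp', BS_iff hw (act_lt _ _) (act_lt _ _)]

/-- search trees -/
inductive ST where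
  | leaf (t : ℕ) : ST
  | node (key : ℕ) (l r : ST) : ST

/-- search -/
def ST.find (T : ST) : ℕ → ℕ :=
  @ST.rec (fun _ => ℕ → ℕ) (fun t _ => t)
    (fun key _ _ ihl ihr c => @Bool.rec (fun _ => ℕ) (ihr c) (ihl c) (Nat.ble (Nat.succ c) key)) T

/-- check that the codes are found in the search tree -/
def codeChk (RT : PT) (F : ST) (sh : ℕ) (bps : List ℕ) (n : ℕ) : ℕ → Bool :=
  @Nat.rec (fun _ => ℕ → Bool) (fun _ => true)
    (fun _ ih t => band (force (code sh (RT.get2 t) bps) fun cd => Nat.beq (F.find cd) t)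
      (force (Nat.succ t) ih)) n

theorem codeChk_sound {RT : PT} {F : ST} {sh : ℕ} {bps : List ℕ} (n : ℕ) :
    ∀ t, codeChk RT F sh bps n t = true →
      ∀ u, t ≤ u → u < t + n → F.find (code sh (RT.get2 u) bps) = u := by
  induction n with
  | zero => intro t _ u h1 h2; omega
  | succ n ih =>
    intro t h u h1 h2
    have h3 : codeChk RT F sh bps (n + 1) t =
      band (force (code sh (RT.get2 t) bps) fun cd => Nat.beq (F.find cd) t)
        (force (Nat.succ t) (codeChk RT F sh bps n)) := rfl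
    rw [h3] at h
    simp only [force_eq, band_iff] at h
    by_cases he : u = t
    · rw [he]; exact Nat.eq_of_beq_eq_true h.1
    · exact ih _ h.2 u (by omega) (by omega)

/-- check the table of coset representatives: `13`-bit digits `2 * parent + generator` -/
def repChk (RT : PT) (n : ℕ) : ℕ → ℕ → Bool :=
  @Nat.rec (fun _ => ℕ → ℕ → Bool) (fun _ _ => true)
    (fun _ ih s t => force (Nat.land (Nat.shiftRight s (nat_lit 1)) (nat_lit 4095)) fun par =>
      band (Nat.ble (Nat.succ par) t) (band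
        (Nat.beq (pmul (RT.get1 par) (nsel (Nat.land s (nat_lit 1)) PX (fun _ => PY))) (RT.get1 t))
        (band (Nat.beq (pmul (RT.get1 t) (RT.get2 t)) ID)
          (force (Nat.shiftRight s (nat_lit 13)) fun s' => force (Nat.succ t) fun t' =>
            ih s' t')))) n

theorem repChk_sound {RT : PT} (n : ℕ) : ∀ s t, (∀ u < t, Good RT ⊤ u) →
    repChk RT n s t = true → ∀ u < t + n, Good RT ⊤ u := by
  induction n with
  | zero => intro s t h _ u hu; exact h u hu
  | succ n ih =>
    intro s t h hc u hu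
    have h1 : repChk RT (n + 1) s t =
      force (Nat.land (Nat.shiftRight s (nat_lit 1)) (nat_lit 4095)) fun par =>
      band (Nat.ble (Nat.succ par) t) (band
        (Nat.beq (pmul (RT.get1 par) (nsel (Nat.land s (nat_lit 1)) PX (fun _ => PY))) (RT.get1 t))
        (band (Nat.beq (pmul (RT.get1 t) (RT.get2 t)) ID)
          (force (Nat.shiftRight s (nat_lit 13)) fun s' => force (Nat.succ t) fun t' =>
            repChk RT n s' t'))) := rfl
    rw [h1] at hc
    simp only [force_eq, band_iff] at hc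
    obtain ⟨h2, h3, h4, h5⟩ := hc
    refine ih _ _ ?_ h5 u (by omega)
    intro v hv
    by_cases he : v = t
    · subst he
      obtain ⟨g, _, rg, _⟩ := h _ (Nat.le_of_ble_eq_true h2)
      have h6 : ∃ x : M24, Rep (nsel (Nat.land s 1) PX (fun _ => PY)) x := by
        cases Nat.land s 1 with
        | zero => exact ⟨_, rep_X⟩
        | succ => exact ⟨_, rep_Y⟩
      obtain ⟨x, rx⟩ := h6
      have h7 : Rep (RT.get1 v) (g * x) := by
        rw [← Nat.eq_of_beq_eq_true h3]; exact rep_mul rg rx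
      exact ⟨g * x, Subgroup.mem_top _, h7, rep_inv h7 (Nat.eq_of_beq_eq_true h4)⟩
    · exact h v (by omega)

/-- the block stabiliser is `K`, and the inverses of the representatives are representatives of
its left cosets -/
theorem cosets {sh : ℕ} {K : Subgroup M24} (hK : K ≤ BS sh) {NP kc : ℕ}
    (hcard : NP * kc = 244823040) (hKc : kc ≤ Nat.card K) {RT : PT} {F : ST} {bps : List ℕ}
    (hbps : ∀ p ∈ bps, p < 24) (hRT : ∀ t < NP, Good RT ⊤ t)
    (hF : ∀ t < NP, F.find (code sh (RT.get2 t) bps) = t) :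
    BS sh = K ∧ ∀ g : M24, ∃ t < NP, ∃ A w : M24, Rep (RT.get2 t) A ∧ w ∈ K ∧ g = A * w := by
  classical
  have hM : Nat.card M24 = 244823040 := Cfsg.Agent.SporadicA.M24Trans.card_M24
  have hA : ∀ t : Fin NP, ∃ A : M24, Rep (RT.get2 t) A := fun t => by
    obtain ⟨g, _, _, h⟩ := hRT t t.2; exact ⟨_, h⟩
  choose A hA using hA
  let f : Fin NP → M24 ⧸ BS sh := fun t => (A t : M24 ⧸ BS sh)
  have hf : Function.Injective f := by
    intro s t hst
    have h1 : (A s)⁻¹ * A t ∈ BS sh := QuotientGroup.eq.mp hst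
    have h2 : Rep (RT.get2 t) (A s * ((A s)⁻¹ * A t)) := by
      rw [mul_inv_cancel_left]; exact hA t
    have h3 := code_inv (hA s) h2 h1 bps hbps
    have h4 := hF s s.2
    rw [h3, hF t t.2] at h4
    exact Fin.ext h4.symm
  have h1 : NP ≤ Nat.card (M24 ⧸ BS sh) := by
    have := Nat.card_le_card_of_injective f hf
    simpa using this
  have h2 := Subgroup.card_eq_card_quotient_mul_card_subgroup (BS sh)
  rw [hM] at h2
  have hNP : 0 < NP := by
    rcases Nat.eq_zero_or_pos NP with h | h
    · subst h; simp at hcard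
    · exact h
  have hkc : 0 < kc := by
    rcases Nat.eq_zero_or_pos kc with h | h
    · subst h; simp at hcard
    · exact h
  have h3 : Nat.card (BS sh) ≤ kc := by
    by_contra hlt
    push Not at hlt
    have : NP * kc < Nat.card (M24 ⧸ BS sh) * Nat.card (BS sh) :=
      Nat.mul_lt_mul_of_le_of_lt h1 hlt (lt_of_lt_of_le hNP h1)
    omega
  have h4 : K = BS sh := Subgroup.eq_of_le_of_card_ge hK (h3.trans hKc)
  have h5 : Nat.card (BS sh) = kc := le_antisymm h3 (h4 ▸ hKc)
  have h6 : Nat.card (M24 ⧸ BS sh) = NP := by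
    rw [h5, ← hcard] at h2
    exact (Nat.eq_of_mul_eq_mul_right hkc h2).symm
  have h7 : Function.Bijective f := by
    rw [Nat.bijective_iff_injective_and_card]
    exact ⟨hf, by rw [h6]; simp⟩
  refine ⟨h4.symm, fun g => ?_⟩
  obtain ⟨t, ht⟩ := h7.2 (g : M24 ⧸ BS sh)
  have h8 : (A t)⁻¹ * g ∈ BS sh := QuotientGroup.eq.mp ht
  refine ⟨t, t.2, A t, (A t)⁻¹ * g, hA t, ?_, by group⟩
  rw [h4]; exact h8

end Cfsg.Agent.J4.Blocks
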