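import Cfsg.Agent.J4.Engine

/-!
# Checking lists of coset facts, and coverage
-/

set_option autoImplicit false

open Cfsg

noncomputable section

namespace Cfsg.Agent.J4.Check

open Cfsg.Agent.J4.M24Hom Cfsg.Agent.J4.Packed Cfsg.Agent.J4.Engine

/-- records: rule, start tuple, instruction stream, inverse of the start -/
inductive RL where
  | nil : RL
  | cons (rule tup code sinv : ℕ) (rest : RL) : RL

/-- length -/
def RL.len : RL → ℕ
  | .nil => 0
  | .cons _ _ _ _ r => r.len + 1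

/-- check a single fact -/
def chk1 (TB : Tab) (MT : PT) (mask : ℕ) (absorb : Bool) (N bd : ℕ) (eR pR : ℕ → List ℕ)
    (defOK : ℕ → ℕ → ℕ → Bool) (axOK : ℕ → ℕ → ℕ → ℕ → Bool)
    (m rule tup code sinv : ℕ) : Bool :=
  onLeaf (TB.get m) fun kd i k p pi q qi =>
    band (Nat.ble (Nat.succ i) N) (band (Nat.ble (Nat.succ k) N)
      (band (Nat.beq (pmul p pi) ID)
      (ploop MT bd (Nat.land tup (nat_lit 15)) (Nat.shiftRight tup (nat_lit 4)) ID fun s =>
        nsel kd
          (band (Nat.beq (pmul q qi) ID) (band (Nat.beq s p)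
            (nsel rule
              (band (Nat.beq q ID) (defOK k i p))
              (fun r1 => nsel r1 (axOK i p k q)
                (fun r2 => runW TB mask absorb m (eR r2) code i p fun k' b =>
                  band (Nat.beq k' k) (Nat.beq b q))))))
          (fun _ => band (Nat.beq (pmul s sinv) ID)
            (runW TB mask absorb m (pR rule) code i s fun k' b =>
              band (Nat.beq k' k) (Nat.beq (pmul b sinv) p))))))

/-- check a list of facts -/
def chkL (TB : Tab) (MT : PT) (mask : ℕ) (absorb : Bool) (N bd : ℕ) (eR pR : ℕ → List ℕ)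
    (defOK : ℕ → ℕ → ℕ → Bool) (axOK : ℕ → ℕ → ℕ → ℕ → Bool) (L : RL) : ℕ → Bool :=
  @RL.rec (fun _ => ℕ → Bool) (fun _ => true)
    (fun rule tup code sinv _ ih m =>
      band (chk1 TB MT mask absorb N bd eR pR defOK axOK m rule tup code sinv)
        (force (Nat.succ m) ih)) L

section sem

variable {G : Type*} [Group G] {φ : M24 →* G} {τ : G} {B : Subgroup G} {c : ℕ → G}

/-- a word (given by packed multipliers) has value `v` -/
def RuleOK (φ : M24 →* G) (τ : G) (ws : List ℕ) (v : G) : Prop :=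
  ws = [] ∨ ∃ gs, List.Forall₂ Rep ws gs ∧ wval φ τ gs = v

/-- the hypotheses of the soundness theorem -/
structure Setup (φ : M24 →* G) (τ : G) (B : Subgroup G) (c : ℕ → G) (MT : PT) (mask : ℕ)
    (absorb : Bool) (bd : ℕ) (eR pR : ℕ → List ℕ)
    (defOK : ℕ → ℕ → ℕ → Bool) (axOK : ℕ → ℕ → ℕ → ℕ → Bool) : Prop where
  hτ : τ * τ = 1
  hK : KOK φ τ mask
  hab : absorb = true → c 0 = 1 ∧ φ.range ≤ B
  hM : ∀ j < bd, Good MT ⊤ j
  hE : ∀ r, RuleOK φ τ (eR r) τ
  hP : ∀ r, RuleOK φ τ (pR r) 1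
  hdef : ∀ k i p P, defOK k i p = true → Rep p P → c k = c i * φ P * τ
  hax : ∀ i p k q P, axOK i p k q = true → Rep p P →
    ∃ Q, Rep q Q ∧ c i * φ P * τ * (c k * φ Q)⁻¹ ∈ B

variable {MT : PT} {mask : ℕ} {absorb : Bool} {bd : ℕ} {eR pR : ℕ → List ℕ}
    {defOK : ℕ → ℕ → ℕ → Bool} {axOK : ℕ → ℕ → ℕ → ℕ → Bool}

theorem runW_nil {TB : Tab} {m code i a : ℕ} {k : ℕ → ℕ → Bool} :
    runW TB mask absorb m [] code i a k = false := rfl

theorem chk1_sound (S : Setup φ τ B c MT mask absorb bd eR pR defOK axOK) {TB : Tab} {N m : ℕ}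
    (hT : ∀ m' < m, Holds φ τ B c N (TB.get m')) (rule tup code sinv : ℕ)
    (h : chk1 TB MT mask absorb N bd eR pR defOK axOK m rule tup code sinv = true) :
    Holds φ τ B c N (TB.get m) := by
  unfold chk1 at h
  obtain ⟨kd, i, k, p, pi, q, qi, he, hh⟩ := onLeaf_iff h
  simp only [band_iff] at hh
  obtain ⟨h1, h2, h3, h4⟩ := hh
  obtain ⟨s, ⟨Sg, _, rS⟩, h5⟩ := ploop_sound MT bd ⊤ S.hM _ _ _ _
    ⟨1, Subgroup.mem_top _, rep_one⟩ h4
  rw [he]
  intro kd' i' k' p' pi' q' qi' heq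
  have heq' := Tab.leaf.inj heq
  obtain ⟨rfl, rfl, rfl, rfl, rfl, rfl, rfl⟩ := heq'
  refine ⟨Nat.le_of_ble_eq_true h1, Nat.le_of_ble_eq_true h2, ?_⟩
  match kd with
  | 0 =>
    rw [nsel_zero] at h5
    simp only [band_iff] at h5
    obtain ⟨h6, h7, h8⟩ := h5
    have h9 : s = p := Nat.eq_of_beq_eq_true h7
    subst h9
    refine ⟨Sg, rS, rep_inv rS (Nat.eq_of_beq_eq_true h3), by omega, fun _ => ?_⟩
    match rule with
    | 0 =>
      rw [nsel_zero] at h8
      simp only [band_iff] at h8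
      obtain ⟨h10, h11⟩ := h8
      have h12 : q = ID := Nat.eq_of_beq_eq_true h10
      subst h12
      refine ⟨1, rep_one, ?_, ?_⟩
      · exact rep_inv rep_one (Nat.eq_of_beq_eq_true h6)
      · rw [S.hdef _ _ _ _ h11 rS, map_one, mul_one, mul_inv_cancel]
        exact B.one_mem
    | 1 =>
      rw [show (1 : ℕ) = 0 + 1 from rfl, nsel_succ, nsel_zero] at h8
      obtain ⟨Q, rQ, hQ⟩ := S.hax _ _ _ _ _ h8 rS
      exact ⟨Q, rQ, rep_inv rQ (Nat.eq_of_beq_eq_true h6), hQ⟩
    | (r + 2) =>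
      rw [show r + 2 = r + 1 + 1 from rfl, nsel_succ, nsel_succ] at h8
      rcases S.hE r with h9 | ⟨gs, hgs, hv⟩
      · rw [h9, runW_nil] at h8; exact absurd h8 (by simp)
      · have hx : SInv φ B c (c i * φ Sg) i s := ⟨Sg, rS, by simp [B.one_mem]⟩
        obtain ⟨i1, a1, ⟨Q, rQ, hQ⟩, h10⟩ :=
          runW_sound hT S.hτ S.hK S.hab _ gs hgs _ _ _ _ _ hx h8
        simp only [band_iff] at h10
        obtain ⟨h11, h12⟩ := h10
        have h13 : i1 = k := Nat.eq_of_beq_eq_true h11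
        have h14 : a1 = q := Nat.eq_of_beq_eq_true h12
        subst h13 h14
        rw [hv] at hQ
        exact ⟨Q, rQ, rep_inv rQ (Nat.eq_of_beq_eq_true h6), hQ⟩
  | (kd1 + 1) =>
    rw [nsel_succ] at h5
    simp only [band_iff] at h5
    obtain ⟨h6, h7⟩ := h5
    rcases S.hP rule with h9 | ⟨gs, hgs, hv⟩
    · rw [h9, runW_nil] at h7; exact absurd h7 (by simp)
    · have hx : SInv φ B c (c i * φ Sg) i s := ⟨Sg, rS, by simp [B.one_mem]⟩
      obtain ⟨i1, a1, ⟨Q, rQ, hQ⟩, h10⟩ :=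
        runW_sound hT S.hτ S.hK S.hab _ gs hgs _ _ _ _ _ hx h7
      simp only [band_iff] at h10
      obtain ⟨h11, h12⟩ := h10
      have h13 : i1 = k := Nat.eq_of_beq_eq_true h11
      have h14 : pmul a1 sinv = p := Nat.eq_of_beq_eq_true h12
      subst h13
      rw [hv, mul_one] at hQ
      have rSi : Rep sinv Sg⁻¹ := rep_inv rS (Nat.eq_of_beq_eq_true h6)
      have rP : Rep p (Q * Sg⁻¹) := by rw [← h14]; exact rep_mul rQ rSi
      refine ⟨Q * Sg⁻¹, rP, rep_inv rP (Nat.eq_of_beq_eq_true h3), fun _ => ?_, by omega⟩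
      have : c i * (c i1 * φ (Q * Sg⁻¹))⁻¹ = c i * φ Sg * (c i1 * φ Q)⁻¹ := by
        rw [map_mul, map_inv]; group
      rwa [this]

theorem chkL_sound (S : Setup φ τ B c MT mask absorb bd eR pR defOK axOK) {TB : Tab} {N : ℕ}
    (L : RL) : ∀ (m : ℕ), (∀ m' < m, Holds φ τ B c N (TB.get m')) →
    chkL TB MT mask absorb N bd eR pR defOK axOK L m = true →
    ∀ m' < m + L.len, Holds φ τ B c N (TB.get m') := by
  induction L with
  | nil => intro m h _ m' hm'; exact h m' (by simpa [RL.len] using hm')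
  | cons rule tup code sinv r ih =>
    intro m h hc m' hm'
    have h1 : chkL TB MT mask absorb N bd eR pR defOK axOK (.cons rule tup code sinv r) m =
      band (chk1 TB MT mask absorb N bd eR pR defOK axOK m rule tup code sinv)
        (force (Nat.succ m) (chkL TB MT mask absorb N bd eR pR defOK axOK r)) := rfl
    rw [h1, band_iff, force_eq] at hc
    refine ih (m + 1) ?_ hc.2 m' (by simp only [RL.len] at hm'; omega)
    intro m'' hm''
    by_cases he : m'' = m
    · rw [he]; exact chk1_sound S h _ _ _ _ hc.1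
    · exact h m'' (by omega)

/-- a word leading from `(0, 1)` to `(0, 1)` -/
def tgt (TB : Tab) (mask m : ℕ) (ws : List ℕ) (code : ℕ) : Bool :=
  runW TB mask false m ws code (nat_lit 0) ID fun i a =>
    band (Nat.beq i (nat_lit 0)) (Nat.beq a ID)

theorem tgt_sound {TB : Tab} {N m : ℕ} (hT : ∀ m' < m, Holds φ τ ⊥ c N (TB.get m'))
    (hτ : τ * τ = 1) (hK : KOK φ τ mask) (ws : List ℕ) (gs : List M24)
    (hgs : List.Forall₂ Rep ws gs) (code : ℕ) (h : tgt TB mask m ws code = true) :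
    wval φ τ gs = 1 := by
  have hx : SInv φ ⊥ c (c 0) 0 ID := ⟨1, rep_one, by simp⟩
  obtain ⟨i1, a1, ⟨Q, rQ, hQ⟩, h10⟩ := runW_sound hT hτ hK (by simp) _ gs hgs _ _ _ _ _ hx h
  simp only [band_iff] at h10
  obtain ⟨h11, h12⟩ := h10
  have h13 : i1 = 0 := Nat.eq_of_beq_eq_true h11
  have h14 : a1 = ID := Nat.eq_of_beq_eq_true h12
  subst h13 h14
  have : Q = 1 := rep_inj rQ rep_one
  subst this
  rw [map_one, mul_one, Subgroup.mem_bot] at hQ
  have h15 : c 0 * wval φ τ gs = c 0 := mul_inv_eq_one.mp hQ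
  simpa using h15

end sem

end Cfsg.Agent.J4.Check
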