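import Cfsg.Agent.J4.M24Pres
import Cfsg.Agent.SporadicA.M24Trans
import Cfsg.Agent.SporadicA.GolayWalk

/-!
# The 2-generator presentation of M24: the homomorphism

`X Y : Equiv.Perm GolayPt` are explicit permutations generating `Cfsg.M24` and satisfying the
seven relations; every pair `x y` of elements of a group satisfying these relations is the image
of `X, Y` under a unique homomorphism `Cfsg.M24 →* G`.
-/

set_option autoImplicit false

open Cfsg

namespace Cfsg.Agent.J4.M24Hom

open Cfsg.Agent.Lib.CosetFacts Cfsg.Agent.J4.M24Pres Cfsg.Agent.SporadicA.GolayWalk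

/-- point number `i` (`23` is the extra point) -/
def pt (i : ℕ) : GolayPt := cond (Nat.beq i 23) none (some (i : ZMod 23))

/-- table of `X` -/
def tx : List ℕ := [9, 2, 1, 8, 5, 4, 7, 6, 3, 0, 16, 13, 23, 11, 15, 14, 10, 22, 19, 18, 21, 20,
  17, 12]
/-- table of `Y` -/
def ty : List ℕ := [17, 9, 2, 1, 8, 5, 4, 7, 6, 3, 0, 16, 13, 23, 11, 15, 14, 10, 22, 19, 18, 21,
  20, 12]
/-- table of `Y⁻¹` -/
def tyi : List ℕ := [10, 3, 2, 9, 6, 5, 8, 7, 4, 1, 17, 14, 23, 12, 16, 15, 11, 0, 20, 19, 22, 21,
  18, 13]

/-- function with a given table -/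
def fn (t : List ℕ) (p : GolayPt) : GolayPt := pt (t.getD (idx p) 0)

/-- the permutation `X` of the 24 points -/
def X : Equiv.Perm GolayPt where
  toFun := fn tx
  invFun := fn tx
  left_inv := by decide +kernel
  right_inv := by decide +kernel

/-- the permutation `Y` of the 24 points -/
def Y : Equiv.Perm GolayPt where
  toFun := fn ty
  invFun := fn tyi
  left_inv := by decide +kernel
  right_inv := by decide +kernel

theorem X_mem : X ∈ M24 :=
  mem_M24_of_table X tx rfl (by decide +kernel) (by decide +kernel)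

theorem Y_mem : Y ∈ M24 :=
  mem_M24_of_table Y ty rfl (by decide +kernel) (by decide +kernel)

theorem perm_ext {a b : Equiv.Perm GolayPt} (h : ∀ p, a p = b p) : a = b := Equiv.ext h

theorem rels_XY : Rels X Y where
  r1 := by apply perm_ext; decide +kernel
  r2 := by apply perm_ext; decide +kernel
  r3 := by apply perm_ext; decide +kernel
  r4 := by apply perm_ext; decide +kernel
  r5 := by apply perm_ext; decide +kernel
  r6 := by apply perm_ext; decide +kernel
  r7 := by apply perm_ext; decide +kernel

/-- `prodL` of a word lies in the subgroup generated by the letters -/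
theorem prodL_mem {G : Type*} [Group G] (x y : G) (w : List ℕ) :
    prodL (g0 x y) w ∈ Subgroup.closure ({x, y} : Set G) := by
  have hx : x ∈ Subgroup.closure ({x, y} : Set G) := Subgroup.subset_closure (by simp)
  have hy : y ∈ Subgroup.closure ({x, y} : Set G) := Subgroup.subset_closure (by simp)
  induction w with
  | nil => exact one_mem _
  | cons c w ih =>
    rw [prodL_cons]
    refine mul_mem ?_ ih
    match c with
    | 0 => exact one_mem _
    | 1 => exact hx
    | 2 => exact hy
    | 3 => exact inv_mem hy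
    | n+4 => simp [g0]

/-- word for the shift -/
def wα : List ℕ := [3, 1]
/-- word for `projInv` -/
def wγ : List ℕ := [1, 3, 1, 3, 1, 2, 1, 3, 1, 3, 1, 3, 1, 3, 1, 2, 1, 3, 1, 3, 1, 2, 1, 3, 1, 2,
  1, 2, 1, 3, 1, 2, 1, 2, 1, 2, 1, 2, 1, 3, 1, 2, 1, 2, 1]
/-- word for `cubeTwist` -/
def wδ : List ℕ := [2, 1, 3, 1, 2, 1, 3, 1, 2, 1, 3, 1, 3, 1, 3, 1, 3, 1, 3, 1, 2, 1, 2, 1, 2, 1,
  3, 1, 3, 1, 3, 1, 3, 1, 3, 1, 3, 1, 2, 1, 2, 1, 3, 1, 3, 1, 3, 1, 3, 1]

theorem shift_eq : prodL (g0 X Y) wα = Equiv.optionCongr (Equiv.addRight (1 : ZMod 23)) := by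
  apply perm_ext; decide +kernel

theorem projInv_eq : prodL (g0 X Y) wγ = projInv := by
  apply perm_ext; decide +kernel

theorem cubeTwist_eq : prodL (g0 X Y) wδ = cubeTwist := by
  apply perm_ext; decide +kernel

theorem closure_XY : Subgroup.closure ({X, Y} : Set (Equiv.Perm GolayPt)) = M24 := by
  apply le_antisymm
  · rw [Subgroup.closure_le]
    rintro z (rfl | rfl)
    · exact X_mem
    · exact Y_mem
  · rw [← Cfsg.Agent.SporadicA.M24Trans.closure_eq, Cfsg.Agent.SporadicA.M24Chain.K,
      Subgroup.closure_le]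
    rintro z (rfl | rfl | rfl)
    · rw [← shift_eq]; exact prodL_mem X Y _
    · rw [← projInv_eq]; exact prodL_mem X Y _
    · rw [← cubeTwist_eq]; exact prodL_mem X Y _

/-- `X` as an element of `M24` -/
def XM : M24 := ⟨X, X_mem⟩
/-- `Y` as an element of `M24` -/
def YM : M24 := ⟨Y, Y_mem⟩

theorem closure_XYM : Subgroup.closure ({XM, YM} : Set M24) = ⊤ := by
  have h : (Subgroup.closure ({XM, YM} : Set M24)).map M24.subtype = M24 := by
    rw [MonoidHom.map_closure, Set.image_pair]
    exact closure_XY
  rw [eq_top_iff]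
  intro z _
  have hz : (z : Equiv.Perm GolayPt) ∈ (Subgroup.closure ({XM, YM} : Set M24)).map M24.subtype := by
    rw [h]; exact z.2
  obtain ⟨w, hw, hwz⟩ := hz
  have : w = z := Subtype.ext hwz
  rwa [← this]

theorem rels_map {G H : Type*} [Group G] [Group H] (f : G →* H) {x y : G} (h : Rels x y) :
    Rels (f x) (f y) where
  r1 := by rw [← map_pow, h.r1, map_one]
  r2 := by rw [← map_pow, h.r2, map_one]
  r3 := by rw [← map_mul, ← map_pow, h.r3, map_one]
  r4 := by simpa using congrArg f h.r4
  r5 := by simpa using congrArg f h.r5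
  r6 := by simpa using congrArg f h.r6
  r7 := by simpa using congrArg f h.r7

theorem rels_of_injective {G H : Type*} [Group G] [Group H] (f : G →* H)
    (hf : Function.Injective f) {x y : G} (h : Rels (f x) (f y)) : Rels x y where
  r1 := by apply hf; simpa using h.r1
  r2 := by apply hf; simpa using h.r2
  r3 := by apply hf; simpa using h.r3
  r4 := by apply hf; simpa using h.r4
  r5 := by apply hf; simpa using h.r5
  r6 := by apply hf; simpa using h.r6
  r7 := by apply hf; simpa using h.r7

theorem rels_XYM : Rels XM YM :=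
  rels_of_injective M24.subtype (Subgroup.subtype_injective _) rels_XY

theorem rels_prod {G H : Type*} [Group G] [Group H] {x y : G} {x' y' : H} (h : Rels x y)
    (h' : Rels x' y') : Rels (x, x') (y, y') where
  r1 := Prod.ext (by simpa using h.r1) (by simpa using h'.r1)
  r2 := Prod.ext (by simpa using h.r2) (by simpa using h'.r2)
  r3 := Prod.ext (by simpa using h.r3) (by simpa using h'.r3)
  r4 := Prod.ext (by simpa using h.r4) (by simpa using h'.r4)
  r5 := Prod.ext (by simpa using h.r5) (by simpa using h'.r5)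
  r6 := Prod.ext (by simpa using h.r6) (by simpa using h'.r6)
  r7 := Prod.ext (by simpa using h.r7) (by simpa using h'.r7)

/-- **The presentation of M24**: two elements of a group satisfying the seven relations are the
images of `X` and `Y` under a homomorphism. -/
theorem exists_hom {G : Type*} [Group G] {x y : G} (h : Rels x y) :
    ∃ φ : M24 →* G, φ XM = x ∧ φ YM = y := by
  have hr : Rels ((XM, x) : M24 × G) (YM, y) := rels_prod rels_XYM h
  obtain ⟨hfin, hcard⟩ := card_closure hr
  set D : Subgroup (M24 × G) := Subgroup.closure {((XM, x) : M24 × G), (YM, y)} with hD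
  have hu : ((XM, x) : M24 × G) ∈ D := Subgroup.subset_closure (by simp)
  have hv : ((YM, y) : M24 × G) ∈ D := Subgroup.subset_closure (by simp)
  let π : D →* M24 := (MonoidHom.fst M24 G).comp D.subtype
  have hsurj : Function.Surjective π := by
    rw [← MonoidHom.range_eq_top, eq_top_iff, ← closure_XYM, Subgroup.closure_le]
    rintro z (rfl | rfl)
    · exact ⟨⟨_, hu⟩, rfl⟩
    · exact ⟨⟨_, hv⟩, rfl⟩
  have hbij : Function.Bijective π := by
    refine hsurj.bijective_of_nat_card_le ?_
    rw [Cfsg.Agent.SporadicA.M24Trans.card_M24]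
    exact hcard
  let e : D ≃* M24 := MulEquiv.ofBijective π hbij
  refine ⟨((MonoidHom.snd M24 G).comp D.subtype).comp e.symm.toMonoidHom, ?_, ?_⟩
  · have : e.symm XM = ⟨_, hu⟩ := by
      rw [MulEquiv.symm_apply_eq]; rfl
    change ((e.symm XM : D) : M24 × G).2 = x
    rw [this]
  · have : e.symm YM = ⟨_, hv⟩ := by
      rw [MulEquiv.symm_apply_eq]; rfl
    change ((e.symm YM : D) : M24 × G).2 = y
    rw [this]

theorem hom_ext {G : Type*} [Group G] {φ ψ : M24 →* G} (hX : φ XM = ψ XM) (hY : φ YM = ψ YM) :
    φ = ψ := by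
  apply MonoidHom.eq_of_eqOn_dense closure_XYM
  rintro z (rfl | rfl)
  · exact hX
  · exact hY

/-- the range of the homomorphism is the group generated by `x` and `y` -/
theorem range_eq {G : Type*} [Group G] {x y : G} (φ : M24 →* G) (hx : φ XM = x) (hy : φ YM = y) :
    φ.range = Subgroup.closure {x, y} := by
  rw [MonoidHom.range_eq_map, ← closure_XYM, MonoidHom.map_closure, Set.image_pair, hx, hy]

end Cfsg.Agent.J4.M24Hom
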