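import Cfsg.Agent.J4.Beta
import Cfsg.Agent.J4.ClassesData
import Cfsg.Agent.J4.M24Invol
import Cfsg.Agent.J4.M24Hom
import Cfsg.Agent.S0365

/-!
# The two classes of involutions of J4: the abstract argument
-/

set_option autoImplicit false

namespace Cfsg.Agent.J4.ClassesAbs

open Cfsg Cfsg.Agent.Lib.F2MatGroup Cfsg.Agent.J4.GroupLemmas Cfsg.Agent.J4.Beta
open Cfsg.Agent.J4.ClassesData Cfsg.Agent.J4.M24Hom Cfsg.Agent.J4.M24InvolData
open Cfsg.Agent.SporadicStructure.M24El

/-! ### General lemmas -/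

theorem exists_conj_mem {G : Type*} [Group G] [Finite G] (K : Subgroup G) (hodd : ¬ 2 ∣ K.index)
    (u : G) (hu : u * u = 1) : ∃ g : G, g⁻¹ * u * g ∈ K := by
  have hp : IsPGroup 2 (Subgroup.zpowers u) := isPGroup_zpowers (by rw [pow_two, hu])
  have : Fact (Nat.Prime 2) := ⟨Nat.prime_two⟩
  obtain ⟨a, ha⟩ := hp.nonempty_fixed_point_of_prime_not_dvd_card (G ⧸ K) hodd
  obtain ⟨g, rfl⟩ := QuotientGroup.mk_surjective a
  refine ⟨g, ?_⟩
  have h := ha ⟨u, Subgroup.mem_zpowers u⟩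
  have h' : (QuotientGroup.mk (u * g) : G ⧸ K) = QuotientGroup.mk g := h
  rw [QuotientGroup.eq] at h'
  have h2 := K.inv_mem h'
  have e : (((u * g)⁻¹ * g)⁻¹ : G) = g⁻¹ * u * g := by group
  rwa [e] at h2

theorem exists_mul_of_mem_sup {G : Type*} [Group G] {Q M : Subgroup G}
    (hn : M ≤ Subgroup.normalizer (Q : Set G)) {k : G} (hk : k ∈ Q ⊔ M) :
    ∃ q ∈ Q, ∃ m ∈ M, k = q * m := by
  let S : Subgroup G :=
    { carrier := {k | ∃ q ∈ Q, ∃ m ∈ M, k = q * m}
      one_mem' := ⟨1, Q.one_mem, 1, M.one_mem, (one_mul 1).symm⟩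
      mul_mem' := by
        rintro _ _ ⟨q, hq, m, hm, rfl⟩ ⟨q', hq', m', hm', rfl⟩
        refine ⟨q * (m * q' * m⁻¹), Q.mul_mem hq ?_, m * m', M.mul_mem hm hm', by group⟩
        exact (Subgroup.mem_normalizer_iff.mp (hn hm) q').mp hq'
      inv_mem' := by
        rintro _ ⟨q, hq, m, hm, rfl⟩
        refine ⟨m⁻¹ * q⁻¹ * m⁻¹⁻¹, ?_, m⁻¹, M.inv_mem hm, by group⟩
        exact (Subgroup.mem_normalizer_iff.mp (hn (M.inv_mem hm)) q⁻¹).mp (Q.inv_mem hq) }
  have hle : Q ⊔ M ≤ S := sup_le (fun q hq => ⟨q, hq, 1, M.one_mem, (mul_one q).symm⟩)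
    (fun m hm => ⟨1, Q.one_mem, m, hm, (one_mul m).symm⟩)
  exact hle hk

theorem eq_one_of_mem {G M : Type*} [Group G] [Group M] [IsSimpleGroup M]
    (Q : Subgroup G) (hQ : IsPGroup 2 Q) (phi : M →* G) (hinj : Function.Injective phi)
    (hM : ¬ IsPGroup 2 M) (hn : phi.range ≤ Subgroup.normalizer (Q : Set G)) (a : M)
    (ha : phi a ∈ Q) : a = 1 := by
  have hnorm : (Q.comap phi).Normal := by
    constructor
    intro b hb g
    have h1 : phi g ∈ Subgroup.normalizer (Q : Set G) := hn ⟨g, rfl⟩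
    change phi (g * b * g⁻¹) ∈ Q
    rw [map_mul, map_mul, map_inv]
    exact (Subgroup.mem_normalizer_iff.mp h1 (phi b)).mp hb
  rcases hnorm.eq_bot_or_eq_top with h | h
  · have : a ∈ Q.comap phi := ha
    rw [h, Subgroup.mem_bot] at this
    exact this
  · exfalso
    apply hM
    have hle : phi.range ≤ Q := by
      rintro _ ⟨b, rfl⟩
      have : b ∈ Q.comap phi := by rw [h]; trivial
      exact this
    exact (hQ.to_le hle).of_equiv (MonoidHom.ofInjective hinj).symm

/-- `g` conjugates `u` to the sextet involution or to the duad involution -/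
def Good {G : Type*} [Group G] (l : List G) (R : Subgroup G) (u : G) : Prop :=
  ∃ g ∈ R, g * u * g⁻¹ = beta l 1024 ∨ g * u * g⁻¹ = beta l 5

theorem good_of_conj {G : Type*} [Group G] {l : List G} {R : Subgroup G} {u v : G}
    (hv : Good l R v) {g : G} (hg : g ∈ R) (h : g * u * g⁻¹ = v) : Good l R u := by
  obtain ⟨c, hc, h1⟩ := hv
  refine ⟨c * g, R.mul_mem hc hg, ?_⟩
  have e : c * g * u * (c * g)⁻¹ = c * (g * u * g⁻¹) * c⁻¹ := by group
  rw [e, h]
  exact h1

/-- The facts about the group used in the classification of the involutions. -/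
structure Hyp {G : Type*} [Group G] (R : Subgroup G) (l : List G) (phi : M24 →* G) : Prop where
  len : l.length = 11
  sq : ∀ q ∈ l, q * q = 1
  comm : ∀ a ∈ l, ∀ b ∈ l, a * b = b * a
  ind : Ind l
  mem : ∀ q ∈ l, q ∈ R
  le : phi.range ≤ R
  inj : Function.Injective phi
  norm : phi.range ≤ Subgroup.normalizer ((Subgroup.closure {q | q ∈ l} : Subgroup G) : Set G)
  actX : ∀ v, phi XM * beta l v * (phi XM)⁻¹ = beta l (lin Ax v)
  actY : ∀ v, (phi YM)⁻¹ * beta l v * ((phi YM)⁻¹)⁻¹ = beta l (lin Ay v)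
  act1 : ∀ v, phi (el P1) * beta l v * (phi (el P1))⁻¹ = beta l (lin A1 v)
  reps1 : ∀ v ∈ [0, 34, 517, 551, 1047, 1077, 1554, 1584], Good l R (beta l v * phi (el P1))
  reps2 : ∀ v ∈ [0, 5], Good l R (beta l v * phi XM)

/-! ### Table checks -/

/-- table of fixed vectors -/
def fixOk (A : List ℕ) (T : List (ℕ × ℕ × ℕ)) (vs : List ℕ) : Bool :=
  ((List.range 2048).all fun v => !(Nat.beq (lin A v) v) || T.any fun t => Nat.beq t.1 v) &&
  T.all fun t => (Nat.beq t.1 (Nat.xor (Nat.xor t.2.1 t.2.2) (lin A t.2.2))) &&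
    vs.any (fun w => Nat.beq w t.2.1)

theorem fixOk_sound {A : List ℕ} {T : List (ℕ × ℕ × ℕ)} {vs : List ℕ} (h : fixOk A T vs = true)
    {v : ℕ} (hv : v < 2048) (hA : lin A v = v) :
    ∃ vj ∈ vs, ∃ r, v = (vj ^^^ r) ^^^ lin A r := by
  unfold fixOk at h
  rw [Bool.and_eq_true, List.all_eq_true, List.all_eq_true] at h
  obtain ⟨h1, h2⟩ := h
  have h3 := h1 v (List.mem_range.mpr hv)
  rw [Bool.or_eq_true, List.any_eq_true] at h3
  rcases h3 with h3 | ⟨t, ht, h4⟩
  · rw [hA, Nat.beq_refl] at h3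
    exact absurd h3 (by decide)
  · have h5 := h2 t ht
    rw [Bool.and_eq_true, List.any_eq_true, Nat.beq_eq] at h5
    obtain ⟨h5, w, hw, h6⟩ := h5
    rw [Nat.beq_eq] at h6 h4
    refine ⟨w, hw, t.2.2, ?_⟩
    rw [h6, ← h4]
    exact h5

theorem fix1_ok : fixOk A1 fix1 [0, 34, 517, 551, 1047, 1077, 1554, 1584] = true := by
  decide +kernel
theorem fix2_ok : fixOk Ax fix2 [0, 5] = true := by decide +kernel

/-- entry of a packed table -/
def tget (t b i : ℕ) : ℕ := (t >>> (b * i)) % 2 ^ b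

/-- check of the orbit table -/
def orbOk : Bool :=
  (((List.range 2047).all fun i => Nat.beq i 0 || Nat.beq i 1771 ||
    (Nat.blt (tget par 11 i) i && Nat.beq (tget arr 11 i)
      (lin (cond (Nat.beq (tget lets 1 i) 0) Ax Ay) (tget arr 11 (tget par 11 i))))) &&
  ((List.range 2048).all fun v => Nat.beq v 0 ||
    (Nat.blt (tget pos 11 v) 2047 && Nat.beq (tget arr 11 (tget pos 11 v)) v))) &&
  (Nat.beq (tget arr 11 0) 1024 && Nat.beq (tget arr 11 1771) 5)

theorem orb_ok : orbOk = true := by decide +kernel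

section Main

variable {G : Type*} [Group G] [Finite G] {R : Subgroup G} {l : List G} {phi : M24 →* G}

theorem good_arr (h : Hyp R l phi) (i : ℕ) (hi : i < 2047) : Good l R (beta l (tget arr 11 i)) := by
  induction i using Nat.strong_induction_on with
  | _ i ih =>
    have h0 := orb_ok
    unfold orbOk at h0
    rw [Bool.and_eq_true, Bool.and_eq_true, List.all_eq_true] at h0
    obtain ⟨⟨h1, -⟩, h2⟩ := h0
    rw [Bool.and_eq_true, Nat.beq_eq, Nat.beq_eq] at h2
    have h3 := h1 i (List.mem_range.mpr hi)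
    rw [Bool.or_eq_true, Bool.or_eq_true, Nat.beq_eq, Nat.beq_eq, Bool.and_eq_true, Nat.blt_eq,
      Nat.beq_eq] at h3
    rcases h3 with (rfl | rfl) | ⟨h4, h5⟩
    · rw [h2.1]
      exact ⟨1, R.one_mem, Or.inl (by group)⟩
    · rw [h2.2]
      exact ⟨1, R.one_mem, Or.inr (by group)⟩
    · have ih' := ih _ h4 (by omega)
      rw [h5]
      rcases hb : Nat.beq (tget lets 1 i) 0 with _ | _
      · rw [cond_false, ← h.actY]
        have hy : (phi YM)⁻¹ ∈ R := R.inv_mem (h.le ⟨YM, rfl⟩)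
        refine good_of_conj ih' (R.inv_mem hy) ?_
        group
      · rw [cond_true, ← h.actX]
        have hx : phi XM ∈ R := h.le ⟨XM, rfl⟩
        refine good_of_conj ih' (R.inv_mem hx) ?_
        group

theorem good_beta (h : Hyp R l phi) (v : ℕ) (hv : v < 2048) (h0 : v ≠ 0) : Good l R (beta l v) := by
  have h1 := orb_ok
  unfold orbOk at h1
  rw [Bool.and_eq_true, Bool.and_eq_true, List.all_eq_true, List.all_eq_true] at h1
  have h2 := h1.1.2 v (List.mem_range.mpr hv)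
  rw [Bool.or_eq_true, Nat.beq_eq, Bool.and_eq_true, Nat.blt_eq, Nat.beq_eq] at h2
  rcases h2 with h2 | ⟨h2, h3⟩
  · exact absurd h2 h0
  · rw [← h3]
    exact good_arr h _ h2

/-- the elements `β(v) m` with `m` an involution of M24 -/
theorem good_mul (h : Hyp R l phi) {m : G} (hm : m ∈ R) {A : List ℕ}
    (hact : ∀ v, m * beta l v * m⁻¹ = beta l (lin A v)) (hA : ∀ v < 2048, lin A v < 2048)
    {T : List (ℕ × ℕ × ℕ)} {vs : List ℕ} (hfix : fixOk A T vs = true)
    (hreps : ∀ v ∈ vs, Good l R (beta l v * m)) (hmm : m * m = 1) (v : ℕ) (hv : v < 2048)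
    (hsq : (beta l v * m) * (beta l v * m) = 1) : Good l R (beta l v * m) := by
  have h1 : beta l v * beta l (lin A v) = 1 := by
    rw [← hact]
    have : beta l v * (m * beta l v * m⁻¹) = (beta l v * m) * (beta l v * m) * (m * m)⁻¹ := by
      group
    rw [this, hsq, hmm]; group
  have h2 : beta l v = beta l (lin A v) := by
    have h3 := beta_sq l h.sq h.comm v
    exact mul_left_cancel (h3.trans h1.symm)
  have h4 : v = lin A v := by
    refine beta_inj h.sq h.comm h.ind ?_ ?_ h2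
    · rw [h.len]; exact hv
    · rw [h.len]; exact hA v hv
  obtain ⟨vj, hvj, r, hr⟩ := fixOk_sound hfix hv h4.symm
  have hrR : beta l r ∈ R := beta_mem R l h.mem r
  refine good_of_conj (hreps vj hvj) (g := (beta l r)⁻¹) (R.inv_mem hrR) ?_
  rw [hr, beta_xor l h.sq h.comm, beta_xor l h.sq h.comm, ← hact]
  have hc : beta l vj * beta l r = beta l r * beta l vj := by
    rw [← beta_xor l h.sq h.comm, Nat.xor_comm, beta_xor l h.sq h.comm]
  rw [hc]
  have e : (beta l r)⁻¹ * (beta l r * beta l vj * (m * beta l r * m⁻¹) * m) * (beta l r)⁻¹⁻¹ =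
      beta l vj * m * (beta l r * beta l r) := by group
  rw [e, beta_sq l h.sq h.comm, mul_one]

/-- Every involution of `R` is conjugate to the sextet involution or to the duad involution. -/
theorem good_of_invol (h : Hyp R l phi)
    (hodd : ¬ 2 ∣ ((Subgroup.closure {q | q ∈ l} ⊔ phi.range).subgroupOf R).index)
    (u : G) (huR : u ∈ R) (hu : u * u = 1) (hu1 : u ≠ 1) : Good l R u := by
  have hsimple : IsSimpleGroup M24 := Cfsg.Agent.S0365.result
  have hnot : ¬ IsPGroup 2 M24 := by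
    intro h
    obtain ⟨n, hn⟩ := IsPGroup.iff_card.mp h
    rw [Cfsg.Agent.S0364.result] at hn
    have h3 : 3 ∣ 2 ^ n := by rw [← hn]; norm_num
    have := Nat.Prime.dvd_of_dvd_pow Nat.prime_three h3
    omega
  -- conjugate into K
  obtain ⟨g, hg⟩ := exists_conj_mem ((Subgroup.closure {q | q ∈ l} ⊔ phi.range).subgroupOf R)
    hodd ⟨u, huR⟩ (Subtype.ext hu)
  have hg' : (g : G)⁻¹ * u * g ∈ Subgroup.closure {q | q ∈ l} ⊔ phi.range := hg
  refine good_of_conj (g := (g : G)⁻¹) (v := (g : G)⁻¹ * u * g) ?_ (R.inv_mem g.2) (by group)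
  generalize hk : (g : G)⁻¹ * u * g = k at hg'
  have hkk : k * k = 1 := by
    rw [← hk]
    have : (g : G)⁻¹ * u * g * ((g : G)⁻¹ * u * g) = (g : G)⁻¹ * (u * u) * g := by group
    rw [this, hu]; group
  have hk1 : k ≠ 1 := by
    intro e
    rw [e] at hk
    apply hu1
    have : u = (g : G) * ((g : G)⁻¹ * u * g) * (g : G)⁻¹ := by group
    rw [this, hk]; group
  obtain ⟨q, hq, _, ⟨μ, rfl⟩, rfl⟩ := exists_mul_of_mem_sup h.norm hg'
  have hQ2 := (two_group l h.sq h.comm h.ind).1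
  have hconjQ : ∀ ν : M24, ∀ q ∈ Subgroup.closure {q | q ∈ l},
      phi ν * q * (phi ν)⁻¹ ∈ Subgroup.closure {q | q ∈ l} := fun ν q hq =>
    (Subgroup.mem_normalizer_iff.mp (h.norm ⟨ν, rfl⟩) q).mp hq
  -- μ² = 1
  have hμ : μ * μ = 1 := by
    apply eq_one_of_mem _ hQ2 phi h.inj hnot h.norm
    have e : phi (μ * μ) = (phi μ * q * (phi μ)⁻¹)⁻¹ * q⁻¹ := by
      rw [map_mul]
      have : q * phi μ * (q * phi μ) = q * (phi μ * q * (phi μ)⁻¹) * (phi μ * phi μ) := by group
      rw [this] at hkk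
      rw [← mul_inv_rev]
      exact eq_inv_of_mul_eq_one_right hkk
    rw [e]
    exact Subgroup.mul_mem _ (Subgroup.inv_mem _ (hconjQ μ q hq)) (Subgroup.inv_mem _ hq)
  obtain ⟨v, hv, rfl⟩ := exists_beta h.sq h.comm hq
  rw [h.len] at hv
  by_cases hμ1 : μ = 1
  · subst hμ1
    rw [map_one, mul_one] at hk1 ⊢
    refine good_beta h v hv ?_
    rintro rfl
    exact hk1 (beta_zero l)
  · obtain ⟨ν, hν⟩ := Cfsg.Agent.J4.M24Invol.invol_conj μ hμ hμ1
    have hνR : phi ν ∈ R := h.le ⟨ν, rfl⟩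
    obtain ⟨w, hw, hw'⟩ := exists_beta h.sq h.comm (hconjQ ν _ hq)
    rw [h.len] at hw
    have key : ∀ m : M24, ν * μ * ν⁻¹ = m →
        phi ν * (beta l v * phi μ) * (phi ν)⁻¹ = beta l w * phi m := by
      rintro m rfl
      rw [← hw', map_mul, map_mul, map_inv]; group
    have hsq' : ∀ m : M24, ν * μ * ν⁻¹ = m → beta l w * phi m * (beta l w * phi m) = 1 := by
      intro m hm
      rw [← key m hm]
      have : phi ν * (beta l v * phi μ) * (phi ν)⁻¹ * (phi ν * (beta l v * phi μ) * (phi ν)⁻¹) =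
          phi ν * (beta l v * phi μ * (beta l v * phi μ)) * (phi ν)⁻¹ := by group
      rw [this, hkk]; group
    have hmm : ∀ m : M24, ν * μ * ν⁻¹ = m → phi m * phi m = 1 := by
      rintro m rfl
      rw [← map_mul]
      have : ν * μ * ν⁻¹ * (ν * μ * ν⁻¹) = ν * (μ * μ) * ν⁻¹ := by group
      rw [this, hμ, mul_one, mul_inv_cancel, map_one]
    rcases hν with hν | hν
    · refine good_of_conj ?_ hνR (key _ hν)
      exact good_mul h (h.le ⟨_, rfl⟩) h.act1 (by decide +kernel) fix1_ok h.reps1 (hmm _ hν) w hw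
        (hsq' _ hν)
    · have hX : el P2 = XM := by
        apply Subtype.ext
        rw [coe_el Cfsg.Agent.J4.M24Invol.ok_P2]
        ext1 p
        rw [Cfsg.Agent.SporadicA.GolayPerm.permOf_apply]
        revert p
        decide +kernel
      rw [hX] at hν
      refine good_of_conj ?_ hνR (key _ hν)
      exact good_mul h (h.le ⟨_, rfl⟩) h.actX (by decide +kernel) fix2_ok h.reps2 (hmm _ hν) w hw
        (hsq' _ hν)

end Main

end Cfsg.Agent.J4.ClassesAbs
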