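import Cfsg.Prelude.Def_Spor_J4
import Cfsg.Agent.Lib.F2MatGroup
import Cfsg.Agent.J4.RepData

/-!
# The 112-dimensional representation over GF(2) of the presented group J4
-/

set_option autoImplicit false

namespace Cfsg.Agent.J4.Rep112

open Cfsg.Agent.Lib.F2MatGroup Cfsg.Agent.J4.RepData

/-- matrix of x -/
def xg : GL (Fin 112) (ZMod 2) := unit 112 X X (by decide +kernel) (by decide +kernel)
/-- matrix of y -/
def yg : GL (Fin 112) (ZMod 2) := unit 112 Y YI (by decide +kernel) (by decide +kernel)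
/-- matrix of t -/
def tg : GL (Fin 112) (ZMod 2) := unit 112 T T (by decide +kernel) (by decide +kernel)

theorem cx : Codes 112 xg X := rfl
theorem cx' : Codes 112 xg⁻¹ X := rfl
theorem cy : Codes 112 yg Y := rfl
theorem cy' : Codes 112 yg⁻¹ YI := rfl
theorem ct : Codes 112 tg T := rfl
theorem ct' : Codes 112 tg⁻¹ T := rfl

attribute [irreducible] xg yg tg

/-- build the packed matrix of a product -/
macro "codes_tac" : tactic => `(tactic| repeat with_reducible first
  | exact cx | exact cy | exact cx' | exact cy' | exact ct | exact ct'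
  | apply Codes.mul | apply Codes.pow)

/-- images of the generators -/
def genMap : Cfsg.Spor.J4.Gen → GL (Fin 112) (ZMod 2)
  | .x => xg
  | .y => yg
  | .t => tg

theorem rel1 : xg ^ 2 = 1 := (Codes.pow cx 2).eq_one (by decide +kernel)
theorem rel2 : yg ^ 3 = 1 := (Codes.pow cy 3).eq_one (by decide +kernel)
theorem rel3 : (xg * yg) ^ 23 = 1 := by
  apply Codes.eq_one (n := 112)
  · codes_tac
  · decide +kernel
theorem rel4 : (xg⁻¹ * yg⁻¹ * xg * yg) ^ 12 = 1 := by
  apply Codes.eq_one (n := 112)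
  · codes_tac
  · decide +kernel
theorem rel5 : (xg⁻¹ * (yg * xg * yg)⁻¹ * xg * (yg * xg * yg)) ^ 5 = 1 := by
  rw [mul_inv_rev, mul_inv_rev]
  apply Codes.eq_one (n := 112)
  · codes_tac
  · decide +kernel
theorem rel6 : (xg * yg * ((xg * yg * xg * (yg⁻¹)) ^ 3)) ^ 4 = 1 := by
  apply Codes.eq_one (n := 112)
  · codes_tac
  · decide +kernel
theorem rel7 : ((xg * yg * xg * yg * xg * (yg⁻¹)) ^ 3) * ((xg * yg * xg * (yg⁻¹) * xg * (yg⁻¹)) ^ 3) = 1 := by
  apply Codes.eq_one (n := 112)
  · codes_tac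
  · decide +kernel
theorem rel8 : tg ^ 2 = 1 := (Codes.pow ct 2).eq_one (by decide +kernel)
theorem rel9 : tg⁻¹ * (yg * xg * yg * ((xg * (yg⁻¹)) ^ 2) * ((xg * yg) ^ 3))⁻¹ * tg *
    (yg * xg * yg * ((xg * (yg⁻¹)) ^ 2) * ((xg * yg) ^ 3)) = 1 := by
  have h : (yg * xg * yg * ((xg * (yg⁻¹)) ^ 2) * ((xg * yg) ^ 3)) * tg =
      tg * (yg * xg * yg * ((xg * (yg⁻¹)) ^ 2) * ((xg * yg) ^ 3)) := by
    apply Codes.eq (n := 112)
    · codes_tac
    · codes_tac
    · decide +kernel
  rw [mul_assoc, ← h, mul_assoc, inv_mul_cancel_left, inv_mul_cancel]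
theorem rel10 : tg⁻¹ * xg⁻¹ * tg * xg = 1 := by
  apply Codes.eq_one (n := 112)
  · codes_tac
  · decide +kernel
theorem rel11 : (yg * ((yg * xg * (yg⁻¹) * xg * yg * xg * (yg⁻¹) * xg)⁻¹ * tg *
    (yg * xg * (yg⁻¹) * xg * yg * xg * (yg⁻¹) * xg))) ^ 3 = 1 := by
  simp only [mul_inv_rev, inv_inv]
  apply Codes.eq_one (n := 112)
  · codes_tac
  · decide +kernel
theorem rel12 : (((yg * xg * yg * xg * yg * xg * yg) ^ 3) * tg *
    ((((xg * yg) ^ 3) * yg * ((xg * yg) ^ 6) * yg)⁻¹ * tg *
      (((xg * yg) ^ 3) * yg * ((xg * yg) ^ 6) * yg))) ^ 2 = 1 := by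
  simp only [mul_inv_rev, ← inv_pow]
  apply Codes.eq_one (n := 112)
  · codes_tac
  · decide +kernel

theorem lift_of (g : Cfsg.Spor.J4.Gen) : FreeGroup.lift genMap (FreeGroup.of g) = genMap g :=
  FreeGroup.lift_apply_of

theorem lift_relator (r : FreeGroup Cfsg.Spor.J4.Gen)
    (hr : r ∈ Cfsg.Spor.coxRelators Cfsg.Spor.J4.edges ∪ {r | r ∈ Cfsg.Spor.J4.extra}) :
    FreeGroup.lift genMap r = 1 := by
  rcases hr with ⟨g, hg, _⟩ | hr
  · exact absurd hg (by simp [Cfsg.Spor.coxNodes, Cfsg.Spor.J4.edges])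
  · have hr' : r ∈ Cfsg.Spor.J4.extra := hr
    unfold Cfsg.Spor.J4.extra at hr'
    simp only [List.mem_cons, List.not_mem_nil, or_false] at hr'
    rcases hr' with rfl | rfl | rfl | rfl | rfl | rfl | rfl | rfl | rfl | rfl | rfl | rfl <;>
      simp only [map_mul, map_pow, map_inv, lift_of, genMap]
    · exact rel1
    · exact rel2
    · exact rel3
    · exact rel4
    · exact rel5
    · exact rel6
    · exact rel7
    · exact rel8
    · exact rel9
    · exact rel10
    · exact rel11
    · exact rel12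

/-- The 112-dimensional representation of the presented group J4. -/
noncomputable def rho : Cfsg.Spor.J4 →* GL (Fin 112) (ZMod 2) :=
  PresentedGroup.toGroup (f := genMap) lift_relator

/-- the image of the generator x in J4 -/
def x : Cfsg.Spor.J4 := PresentedGroup.of Cfsg.Spor.J4.Gen.x
/-- the image of the generator y in J4 -/
def y : Cfsg.Spor.J4 := PresentedGroup.of Cfsg.Spor.J4.Gen.y
/-- the image of the generator t in J4 -/
def t : Cfsg.Spor.J4 := PresentedGroup.of Cfsg.Spor.J4.Gen.t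

theorem rho_x : rho x = xg := PresentedGroup.toGroup.of lift_relator
theorem rho_y : rho y = yg := PresentedGroup.toGroup.of lift_relator
theorem rho_t : rho t = tg := PresentedGroup.toGroup.of lift_relator

/-- The generators `x, y, y⁻¹, t` of J4; words are lists of indices in this list. -/
def gens : List Cfsg.Spor.J4 := [x, y, y⁻¹, t]

/-- The packed matrices of `x, y, y⁻¹, t`. -/
def codes : List ℕ := [X, Y, YI, T]

theorem codes_gens : List.Forall₂ (Codes 112) (gens.map rho) codes := by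
  unfold gens codes
  simp only [List.map_cons, List.map_nil, map_inv, rho_x, rho_y, rho_t]
  exact .cons cx (.cons cy (.cons cy' (.cons ct .nil)))

/-- J4 is generated by x, y, t. -/
theorem closure_eq_top : Subgroup.closure {x, y, t} = (⊤ : Subgroup Cfsg.Spor.J4) := by
  rw [eq_top_iff, ← PresentedGroup.closure_range_of]
  apply Subgroup.closure_mono
  rintro _ ⟨g, rfl⟩
  cases g
  · exact Or.inl rfl
  · exact Or.inr (Or.inl rfl)
  · exact Or.inr (Or.inr rfl)

end Cfsg.Agent.J4.Rep112
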