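import Cfsg.Agent.J4.M24Hom
import Cfsg.Agent.J4.Rep112

/-!
# Relations in the presented group J4 and the homomorphism from M24
-/

set_option autoImplicit false

open Cfsg

namespace Cfsg.Agent.J4.Pres

open Cfsg.Agent.J4.M24Pres Cfsg.Agent.J4.M24Hom Cfsg.Agent.J4.Rep112

/-- the quotient map onto the presented group -/
abbrev mk : FreeGroup Cfsg.Spor.J4.Gen →* Cfsg.Spor.J4 :=
  PresentedGroup.mk (Cfsg.Spor.coxRelators Cfsg.Spor.J4.edges ∪ {r | r ∈ Cfsg.Spor.J4.extra})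

theorem mk_eq_one {r : FreeGroup Cfsg.Spor.J4.Gen} (h : r ∈ Cfsg.Spor.J4.extra) : mk r = 1 :=
  PresentedGroup.one_of_mem (Or.inr h)

theorem mk_x : mk Cfsg.Spor.J4.x = x := rfl
theorem mk_y : mk Cfsg.Spor.J4.y = y := rfl
theorem mk_t : mk Cfsg.Spor.J4.t = t := rfl

/-- all twelve relations -/
theorem all_rels : x ^ 2 = 1 ∧ y ^ 3 = 1 ∧ (x * y) ^ 23 = 1 ∧ (x⁻¹ * y⁻¹ * x * y) ^ 12 = 1 ∧
    (x⁻¹ * (y * x * y)⁻¹ * x * (y * x * y)) ^ 5 = 1 ∧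
    (x * y * ((x * y * x * (y⁻¹)) ^ 3)) ^ 4 = 1 ∧
    ((x * y * x * y * x * (y⁻¹)) ^ 3) * ((x * y * x * (y⁻¹) * x * (y⁻¹)) ^ 3) = 1 ∧
    t ^ 2 = 1 ∧
    t⁻¹ * (y * x * y * ((x * (y⁻¹)) ^ 2) * ((x * y) ^ 3))⁻¹ * t *
      (y * x * y * ((x * (y⁻¹)) ^ 2) * ((x * y) ^ 3)) = 1 ∧
    t⁻¹ * x⁻¹ * t * x = 1 ∧
    (y * ((y * x * (y⁻¹) * x * y * x * (y⁻¹) * x)⁻¹ * t *
      (y * x * (y⁻¹) * x * y * x * (y⁻¹) * x))) ^ 3 = 1 ∧
    (((y * x * y * x * y * x * y) ^ 3) * t * ((((x * y) ^ 3) * y * ((x * y) ^ 6) * y)⁻¹ * t *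
      (((x * y) ^ 3) * y * ((x * y) ^ 6) * y))) ^ 2 = 1 := by
  have h := fun r hr => mk_eq_one (r := r) hr
  unfold Cfsg.Spor.J4.extra at h
  simp only [List.mem_cons, List.not_mem_nil, or_false, forall_eq_or_imp, forall_eq, map_mul,
    map_pow, map_inv] at h
  exact h

theorem rels_xy : Rels x y :=
  ⟨all_rels.1, all_rels.2.1, all_rels.2.2.1, all_rels.2.2.2.1, all_rels.2.2.2.2.1,
    all_rels.2.2.2.2.2.1, all_rels.2.2.2.2.2.2.1⟩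

theorem exists_phi : ∃ φ : M24 →* Cfsg.Spor.J4, φ XM = x ∧ φ YM = y := exists_hom rels_xy

/-- the homomorphism from M24 to the presented group J4 with `XM ↦ x`, `YM ↦ y` -/
noncomputable def phi : M24 →* Cfsg.Spor.J4 := exists_phi.choose

theorem phi_X : phi XM = x := exists_phi.choose_spec.1
theorem phi_Y : phi YM = y := exists_phi.choose_spec.2

theorem phi_range : phi.range = Subgroup.closure {x, y} := range_eq phi phi_X phi_Y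

end Cfsg.Agent.J4.Pres
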