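import Cfsg.Agent.J4.Dvd
import Cfsg.Agent.J4.Pres
import Cfsg.Agent.J4.ClassesAbs
import Cfsg.Agent.S1711

/-!
# The two classes of involutions of J4

In the image `rho.range` of the presented group J4 in GL(112, 2) (assuming that the order of the
image is not divisible by `2^22`) every involution is conjugate to `beta qs 1024` (sextet involution of the
elementary abelian group `Q` of order `2^11`) or to `beta qs 5` (duad involution of `Q`).
-/

set_option autoImplicit false

namespace Cfsg.Agent.J4.Classes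

open Cfsg Cfsg.Agent.Lib Cfsg.Agent.Lib.F2MatGroup Cfsg.Agent.J4.Rep112 Cfsg.Agent.J4.Lower
open Cfsg.Agent.J4.LowerData Cfsg.Agent.J4.GroupLemmas Cfsg.Agent.J4.Beta
open Cfsg.Agent.J4.ClassesData Cfsg.Agent.J4.M24Hom Cfsg.Agent.J4.ClassesAbs
open Cfsg.Agent.J4.M24InvolData Cfsg.Agent.SporadicStructure.M24El

/-! ### The environment -/

theorem runG_append {G : Type*} [Group G] (a b : List (List ℕ)) (L : List G) :
    runG (a ++ b) L = runG b (runG a L) := by
  induction a generalizing L with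
  | nil => rfl
  | cons w a ih => rw [List.cons_append, runG_cons, runG_cons, ih]

theorem getG_runG {G : Type*} [Group G] (ws : List (List ℕ)) (L : List G) (k : ℕ) :
    getG (runG ws L) (ws.length + k) = getG L k := by
  induction ws generalizing L k with
  | nil => rw [List.length_nil, Nat.zero_add, runG_nil]
  | cons w ws ih =>
    rw [List.length_cons, runG_cons, show ws.length + 1 + k = ws.length + (k + 1) by ring, ih]
    rfl

theorem getG_take {G : Type*} [Group G] (L : List G) (m k : ℕ) (hk : k < m) :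
    getG L k = (L.take m).getD k 1 := by
  unfold getG
  rw [List.getD_eq_getElem?_getD, List.getD_eq_getElem?_getD, List.getElem?_take_of_lt hk]

/-- the environment after all programs -/
noncomputable def LC : List (GL (Fin 112) (ZMod 2)) := runG slpC (runG slpQ mgens)

theorem checkC : check 112 codes (slpQ ++ slpC) eqsC [] = true := by decide +kernel

theorem eqC : ∀ p ∈ eqsC, evG LC p.1 = evG LC p.2 := by
  have h := (check_sound (n := 112) (by norm_num) codes_gens checkC).1
  rw [runG_append] at h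
  exact h

theorem LC_mem : ∀ g ∈ LC, g ∈ rho.range := runG_mem _ (runG_mem _ mgens_mem slpQ) slpC

theorem qs_length : qs.length = 11 := rfl

theorem slpC_length : slpC.length = 42 := by decide

theorem getG_LC (k : ℕ) (hk : k < 11) : getG LC (42 + k) = qs.getD k 1 := by
  have h := getG_runG slpC (runG slpQ mgens) k
  rw [slpC_length] at h
  exact h.trans (getG_take _ 11 k hk)

theorem getX : getG LC 55 = rho x := rfl
theorem getYI : getG LC 56 = rho y := rfl
theorem getY : getG LC 57 = rho y⁻¹ := rfl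

/-! ### Abstract consequences of the equations -/

section Abs

variable {G : Type*} [Group G] {L l : List G}

theorem abs_bw (hl : l.length = 11) (hL : ∀ k < 11, getG L (42 + k) = l.getD k 1) (v : ℕ) :
    evG L (bw 11 42 v) = beta l v := by
  have h := evG_bw L l 42 v (by rw [hl]; exact hL)
  rwa [hl] at h

theorem abs_act (hl : l.length = 11) (hL : ∀ k < 11, getG L (42 + k) = l.getD k 1)
    (hsq : ∀ q ∈ l, q * q = 1) (hcomm : ∀ a ∈ l, ∀ b ∈ l, a * b = b * a)
    {E : List (List ℕ × List ℕ)} (hE : ∀ p ∈ E, evG L p.1 = evG L p.2)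
    {g g' : G} {i j : ℕ} (hi : getG L i = g)
    (hj : getG L j = g') (hg : g' = g⁻¹) (A : List ℕ) (hA : A.length = 11)
    (h : ∀ k < 11, ([i, 42 + k, j], bw 11 42 (A.getD k 0)) ∈ E) (v : ℕ) :
    g * beta l v * g⁻¹ = beta l (lin A v) := by
  refine conj_beta l hsq hcomm g ?_ v
  rw [List.forall₂_iff_get]
  refine ⟨hl.trans hA.symm, ?_⟩
  intro k h1 h2
  have hk : k < 11 := Nat.lt_of_lt_of_eq h1 hl
  have h3 := hE ([i, 42 + k, j], bw 11 42 (A.getD k 0)) (h k hk)
  rw [abs_bw hl hL, evG_cons, evG_cons, evG_single, hi, hj, hg, hL k hk, ← mul_assoc] at h3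
  rw [List.getD_eq_getElem?_getD, List.getElem?_eq_getElem h1, Option.getD_some,
    List.getD_eq_getElem?_getD, List.getElem?_eq_getElem h2, Option.getD_some] at h3
  exact h3

/-- check of a representative -/
def repOk (E : List (List ℕ × List ℕ)) (im : ℕ) (v : ℕ)
    (r : ℕ × ℕ × ℕ × ℕ × List ℕ × List ℕ × ℕ) : Bool :=
  E.contains ([r.2.2.1], bw 11 42 v ++ [im]) &&
    E.contains ([r.2.2.1, r.2.2.2.1], [r.2.2.2.1] ++ r.2.2.2.2.1 ++ [r.2.2.2.2.2.2] ++
      r.2.2.2.2.2.1) && E.contains (r.2.2.2.2.1 ++ r.2.2.2.2.2.1, []) &&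
    (Nat.beq r.2.2.2.2.2.2 52 || Nat.beq r.2.2.2.2.2.2 40)

theorem abs_rep (hl : l.length = 11) (hL : ∀ k < 11, getG L (42 + k) = l.getD k 1)
    {R : Subgroup G} (hR : ∀ g ∈ L, g ∈ R)
    {E : List (List ℕ × List ℕ)} (hE : ∀ p ∈ E, evG L p.1 = evG L p.2)
    (hZ : getG L 52 = beta l 1024) (hD : getG L 40 = beta l 5)
    {im v : ℕ} {r : ℕ × ℕ × ℕ × ℕ × List ℕ × List ℕ × ℕ} (h : repOk E im v r = true) :
    Good l R (beta l v * getG L im) := by
  unfold repOk at h
  rw [Bool.and_eq_true, Bool.and_eq_true, Bool.and_eq_true, List.contains_iff_mem,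
    List.contains_iff_mem, List.contains_iff_mem, Bool.or_eq_true, Nat.beq_eq, Nat.beq_eq] at h
  obtain ⟨⟨⟨h1, h2⟩, h3⟩, h4⟩ := h
  have e1 := hE _ h1
  have e2 := hE _ h2
  have e3 := hE _ h3
  simp only [evG_append, evG_single, abs_bw hl hL] at e1
  simp only [evG_append, evG_single, evG_cons, evG_nil, mul_one] at e2
  simp only [evG_append, evG_nil] at e3
  rw [← e1]
  have hu : getG L r.2.2.1 ∈ R := getG_mem R hR _
  have hp : getG L r.2.2.2.1 ∈ R := getG_mem R hR _
  have hw : evG L r.2.2.2.2.2.1 ∈ R := evG_mem R hR _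
  have hw' : evG L r.2.2.2.2.1 = (evG L r.2.2.2.2.2.1)⁻¹ := eq_inv_of_mul_eq_one_left e3
  rw [hw'] at e2
  generalize getG L r.2.2.1 = u at *
  generalize getG L r.2.2.2.1 = p at *
  generalize evG L r.2.2.2.2.2.1 = w at *
  have hconj : w * p⁻¹ * u * (w * p⁻¹)⁻¹ = getG L r.2.2.2.2.2.2 := by
    have : w * p⁻¹ * u * (w * p⁻¹)⁻¹ = w * p⁻¹ * (u * p) * w⁻¹ := by group
    rw [this, e2]; group
  refine ⟨w * p⁻¹, R.mul_mem hw (R.inv_mem hp), ?_⟩
  rcases h4 with h4 | h4
  · left; rw [hconj, h4, hZ]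
  · right; rw [hconj, h4, hD]

end Abs

theorem repsOk1 : ([0, 34, 517, 551, 1047, 1077, 1554, 1584].all fun v =>
    reps.any fun r => repOk eqsC 41 v r) = true := by decide +kernel
theorem repsOk2 : ([0, 5].all fun v => reps.any fun r => repOk eqsC 55 v r) = true := by
  decide +kernel

/-- the homomorphism from M24 to GL(112, 2) -/
noncomputable def psi : M24 →* GL (Fin 112) (ZMod 2) := rho.comp Pres.phi

theorem psi_X : psi XM = rho x := congrArg rho Pres.phi_X
theorem psi_Y : psi YM = rho y := congrArg rho Pres.phi_Y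

theorem psi_injective : Function.Injective psi := by
  have : IsSimpleGroup M24 := Cfsg.Agent.S0365.result
  rw [← MonoidHom.ker_eq_bot_iff]
  rcases (inferInstance : psi.ker.Normal).eq_bot_or_eq_top with h | h
  · exact h
  · exfalso
    have hx : XM ∈ psi.ker := by rw [h]; trivial
    rw [MonoidHom.mem_ker, psi_X] at hx
    exact xg_ne hx

theorem psi_range : psi.range = Subgroup.closure {rho x, rho y} := range_eq psi psi_X psi_Y

theorem psi_norm : psi.range ≤ Subgroup.normalizer (Q : Set (GL (Fin 112) (ZMod 2))) := by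
  rw [psi_range]; exact xy_norm

theorem psi_le : psi.range ≤ rho.range := by
  rintro _ ⟨m, rfl⟩
  exact ⟨Pres.phi m, rfl⟩

theorem evG_shift {G : Type*} [Group G] {L L' : List G} {b : ℕ} {w : List ℕ}
    (h : ∀ i ∈ w, getG L (b + i) = getG L' i) : evG L (w.map (b + ·)) = evG L' w := by
  induction w with
  | nil => rfl
  | cons i w ih =>
    rw [List.map_cons, evG_cons, evG_cons, h i (List.mem_cons_self ..),
      ih fun j hj => h j (List.mem_cons_of_mem _ hj)]

/-- word for the involution of type `1^8 2^8` -/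
def w1 : List ℕ := [0, 1, 0, 1, 0, 1, 0, 2, 0, 1, 0, 1, 0, 1, 0, 2, 0, 1, 0, 1, 0, 1, 0, 2,
  0, 1, 0, 1, 0, 1, 0, 2]

theorem el_P1 : el P1 = evG [XM, YM, YM⁻¹] w1 := by
  apply Subtype.ext
  rw [coe_el Cfsg.Agent.J4.M24Invol.ok_P1]
  have e : ((evG [XM, YM, YM⁻¹] w1 : M24) : Equiv.Perm GolayPt) = evG [X, Y, Y⁻¹] w1 := rfl
  rw [e]
  ext1 p
  rw [Cfsg.Agent.SporadicA.GolayPerm.permOf_apply]
  revert p
  decide +kernel

theorem getG_41 : getG LC 41 = psi (el P1) := by
  have h1 := eqC ([41], w1.map (55 + ·)) (by decide +kernel)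
  have h2 : evG LC (w1.map (55 + ·)) = evG [rho x, rho y, rho y⁻¹] w1 := by
    apply evG_shift
    intro i hi
    have h3 : i = 0 ∨ i = 1 ∨ i = 2 := by
      have : ∀ i ∈ w1, i = 0 ∨ i = 1 ∨ i = 2 := by decide
      exact this i hi
    rcases h3 with rfl | rfl | rfl
    · exact getX
    · exact getYI
    · exact getY
  have h4 : evG [rho x, rho y, rho y⁻¹] w1 = psi (evG [XM, YM, YM⁻¹] w1) := by
    rw [← evG_map]
    have h5 : ([XM, YM, YM⁻¹].map psi : List (GL (Fin 112) (ZMod 2))) =
        [rho x, rho y, rho y⁻¹] := by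
      rw [List.map_cons, List.map_cons, List.map_cons, List.map_nil, map_inv, psi_X, psi_Y,
        map_inv]
    rw [h5]
  rw [el_P1, ← h4, ← h2]
  exact (evG_single LC 41).symm.trans h1

theorem getG_52 : getG LC 52 = beta qs 1024 := by
  have h := abs_bw (L := LC) qs_length getG_LC 1024
  exact (evG_single LC 52).symm.trans h

theorem getG_40 : getG LC 40 = beta qs 5 := by
  have h := abs_bw (L := LC) qs_length getG_LC 5
  have h2 := eqC ([40], bw 11 42 5) (by decide +kernel)
  exact ((evG_single LC 40).symm.trans h2).trans h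

theorem actX (v : ℕ) : rho x * beta qs v * (rho x)⁻¹ = beta qs (lin Ax v) := by
  have h := abs_act (L := LC) qs_length getG_LC qs_sq qs_comm eqC getX getX
  exact h (inv_eq_of_mul_eq_one_left (mul_self_aux (L := LC) getX (by rw [rho_x]; exact rel1))).symm
    Ax rfl (by decide +kernel) v

theorem actY (v : ℕ) : (rho y)⁻¹ * beta qs v * ((rho y)⁻¹)⁻¹ = beta qs (lin Ay v) := by
  have h := abs_act (L := LC) qs_length getG_LC qs_sq qs_comm eqC (getY.trans (map_inv rho y)) getYI
  exact h (inv_inv _).symm Ay rfl (by decide +kernel) v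

theorem eq_inv_of_words {G : Type*} [Group G] {L : List G} {i : ℕ} {g : G} (h : getG L i = g)
    (h2 : evG L [i, i] = evG L []) : g = g⁻¹ := by
  rw [evG_cons, evG_single, evG_nil, h] at h2
  exact eq_inv_of_mul_eq_one_left h2

theorem act1 (v : ℕ) :
    psi (el P1) * beta qs v * (psi (el P1))⁻¹ = beta qs (lin A1 v) := by
  have h := abs_act (L := LC) qs_length getG_LC qs_sq qs_comm eqC getG_41 getG_41
  have h2 := eqC ([41, 41], []) (by decide +kernel)
  exact h (eq_inv_of_words (L := LC) getG_41 h2) A1 rfl (by decide +kernel) v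

theorem reps1 : ∀ v ∈ [0, 34, 517, 551, 1047, 1077, 1554, 1584],
    Good qs rho.range (beta qs v * psi (el P1)) := by
  intro v hv
  have h := repsOk1
  rw [List.all_eq_true] at h
  have h1 := h v hv
  rw [List.any_eq_true] at h1
  obtain ⟨r, -, hr⟩ := h1
  rw [← getG_41]
  exact abs_rep (L := LC) qs_length getG_LC LC_mem eqC getG_52 getG_40 hr

theorem reps2 : ∀ v ∈ [0, 5], Good qs rho.range (beta qs v * psi XM) := by
  intro v hv
  have h := repsOk2
  rw [List.all_eq_true] at h
  have h1 := h v hv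
  rw [List.any_eq_true] at h1
  obtain ⟨r, -, hr⟩ := h1
  rw [psi_X, ← getX]
  exact abs_rep (L := LC) qs_length getG_LC LC_mem eqC getG_52 getG_40 hr

theorem hyp : Hyp rho.range qs psi where
  len := qs_length
  sq := qs_sq
  comm := qs_comm
  ind := qs_props.2
  mem := qs_mem
  le := psi_le
  inj := psi_injective
  norm := psi_norm
  actX := by rw [psi_X]; exact actX
  actY := by rw [psi_Y]; exact actY
  act1 := act1
  reps1 := reps1
  reps2 := reps2

theorem dvd_card_K : 2 ^ 21 ∣ Nat.card (Q ⊔ psi.range : Subgroup (GL (Fin 112) (ZMod 2))) := by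
  have hsimple : IsSimpleGroup M24 := Cfsg.Agent.S0365.result
  have h1 := card_mul_dvd_of_simple Q Q_props.1 psi ⟨XM, by rw [psi_X]; exact xg_ne⟩
    LowerBound.not_two_group_M24 psi_norm
  refine Dvd.dvd.trans ?_ h1
  rw [Cfsg.Agent.S0364.result, show 2 ^ 21 = 2 ^ 11 * 2 ^ 10 from rfl]
  exact Nat.mul_dvd_mul Q_props.2 (by norm_num)

theorem K_le : Q ⊔ psi.range ≤ rho.range := sup_le Q_le psi_le

/-- Every involution of the image of J4 is conjugate to the sextet involution or to the duad
involution of `Q` (if the order of the image is not divisible by `2^22`). -/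
theorem range_good (h22 : ¬ 2 ^ 22 ∣ Nat.card rho.range) (u : GL (Fin 112) (ZMod 2))
    (huR : u ∈ rho.range) (hu : u * u = 1) (hu1 : u ≠ 1) : Good qs rho.range u := by
  refine good_of_invol hyp ?_ u huR hu hu1
  intro h2
  apply h22
  have h3 := ((Q ⊔ psi.range).subgroupOf rho.range).card_mul_index
  have h4 : Nat.card ((Q ⊔ psi.range).subgroupOf rho.range) =
      Nat.card (Q ⊔ psi.range : Subgroup (GL (Fin 112) (ZMod 2))) :=
    Nat.card_congr (Subgroup.subgroupOfEquivOfLe K_le).toEquiv
  rw [← h3, h4, show 2 ^ 22 = 2 ^ 21 * 2 from rfl]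
  exact Nat.mul_dvd_mul dvd_card_K h2

end Cfsg.Agent.J4.Classes
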