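import Mathlib

/-!
# Double coset enumeration: the abstract closing argument

`K` is a group with a homomorphism `φ : K →* G`, `t` an involution of `G`, `C ≤ K` a subgroup
whose image commutes with `t`.  Points `p i` of a `G`-set with subgroups `S i ≤ K` fixing them
and edges `t • φ k • p i = φ m • p l` such that `K = C * E i * S i` cover the orbit.
-/

set_option autoImplicit false

namespace Cfsg.Agent.J4.DCosetThm

variable {G K X ι : Type*} [Group G] [Group K] [MulAction G X]
  (φ : K →* G) (t : G) (p : ι → X)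

theorem t_step (C : Subgroup K) (hC : ∀ c ∈ C, φ c * t = t * φ c)
    (S : ι → Subgroup K) (hS : ∀ i, ∀ s ∈ S i, φ s • p i = p i)
    (E : ι → Set K) (hE : ∀ i, ∀ k ∈ E i, ∃ l m, t • φ k • p i = φ m • p l)
    (hcov : ∀ i (a : K), ∃ c ∈ C, ∃ k ∈ E i, ∃ s ∈ S i, a = c * k * s) (i : ι) (a : K) :
    ∃ l m, t • φ a • p i = φ m • p l := by
  obtain ⟨c, hc, k, hk, s, hs, rfl⟩ := hcov i a
  obtain ⟨l, m, h⟩ := hE i k hk
  refine ⟨l, c * m, ?_⟩
  rw [map_mul, map_mul, mul_smul, mul_smul, hS i s hs, smul_smul, ← hC c hc, mul_smul, h,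
    map_mul, mul_smul]

/-- Everything reachable from `p i₀` lies in the union of the `K`-orbits of the `p i`. -/
theorem orbit_cover (C : Subgroup K) (hC : ∀ c ∈ C, φ c * t = t * φ c) (ht : t * t = 1)
    (S : ι → Subgroup K) (hS : ∀ i, ∀ s ∈ S i, φ s • p i = p i)
    (E : ι → Set K) (hE : ∀ i, ∀ k ∈ E i, ∃ l m, t • φ k • p i = φ m • p l)
    (hcov : ∀ i (a : K), ∃ c ∈ C, ∃ k ∈ E i, ∃ s ∈ S i, a = c * k * s) (i₀ : ι) :
    ∀ g ∈ Subgroup.closure ((φ.range : Set G) ∪ {t}), ∃ l m, g • p i₀ = φ m • p l := by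
  have ht' : t⁻¹ = t := inv_eq_of_mul_eq_one_left ht
  have step := t_step φ t p C hC S hS E hE hcov
  have key : ∀ g ∈ Subgroup.closure ((φ.range : Set G) ∪ {t}), ∀ i a, ∃ l m,
      g • φ a • p i = φ m • p l := by
    intro g hg
    induction hg using Subgroup.closure_induction'' with
    | mem x hx =>
      intro i a
      rcases hx with ⟨b, rfl⟩ | hx
      · exact ⟨i, b * a, by rw [map_mul, mul_smul]⟩
      · rw [Set.mem_singleton_iff] at hx
        subst hx
        exact step i a
    | inv_mem x hx =>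
      intro i a
      rcases hx with ⟨b, rfl⟩ | hx
      · exact ⟨i, b⁻¹ * a, by rw [map_mul, mul_smul, map_inv]⟩
      · rw [Set.mem_singleton_iff] at hx
        subst hx
        rw [ht']
        exact step i a
    | one => intro i a; exact ⟨i, a, by rw [one_smul]⟩
    | mul x y _ _ hx hy =>
      intro i a
      obtain ⟨l, m, h⟩ := hy i a
      obtain ⟨l', m', h'⟩ := hx l m
      exact ⟨l', m', by rw [mul_smul, h, h']⟩
  intro g hg
  obtain ⟨l, m, h⟩ := key g hg i₀ 1
  exact ⟨l, m, by rw [← h, map_one, one_smul]⟩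

section index
variable [Fintype ι] [Finite K] (H : Subgroup G)

/-- If every point of `G ⧸ H` is of the form `φ m • p l`, then the index of `H` is at most the
sum of the indices of the `S i`. -/
theorem index_le (q : ι → G ⧸ H) (S : ι → Subgroup K) (hS : ∀ i, ∀ s ∈ S i, φ s • q i = q i)
    (h : ∀ x : G ⧸ H, ∃ l m, x = φ m • q l) :
    H.index ≠ 0 ∧ H.index ≤ ∑ i, (S i).index := by
  classical
  let f : (Σ i, K ⧸ S i) → G ⧸ H := fun z =>
    Quotient.liftOn' z.2 (fun b => φ b • q z.1) (by
      intro a b hab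
      rw [QuotientGroup.leftRel_apply] at hab
      have := hS z.1 _ hab
      rw [map_mul, map_inv, mul_smul] at this
      exact (eq_inv_smul_iff.mp this.symm))
  have hf : Function.Surjective f := by
    intro x
    obtain ⟨l, m, rfl⟩ := h x
    exact ⟨⟨l, QuotientGroup.mk m⟩, rfl⟩
  have hfin : Finite (Σ i, K ⧸ S i) := inferInstance
  have hfin' : Finite (G ⧸ H) := Finite.of_surjective f hf
  refine ⟨?_, ?_⟩
  · rw [Subgroup.index]
    exact Nat.card_ne_zero.mpr ⟨inferInstance, hfin'⟩
  · calc H.index = Nat.card (G ⧸ H) := rfl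
      _ ≤ Nat.card (Σ i, K ⧸ S i) := Nat.card_le_card_of_surjective f hf
      _ = ∑ i, (S i).index := by rw [Nat.card_sigma]; rfl

end index

/-- Lower bound for the order of a subgroup from a table of elements: `u j a` (level `j`) fixes
the base points before level `j` and moves base point `j` to pairwise different points. -/
theorem card_ge_of_levels {Ω : Type*} (S : Subgroup (Equiv.Perm Ω)) [Finite S] :
    ∀ (r : ℕ) (b : Fin r → Ω) (n : Fin r → ℕ) (u : ∀ j : Fin r, Fin (n j) → Equiv.Perm Ω)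
      (_ : ∀ j a, u j a ∈ S) (_ : ∀ j a, ∀ i < j, u j a (b i) = b i)
      (_ : ∀ j a a', u j a (b j) = u j a' (b j) → a = a'), ∏ j, n j ≤ Nat.card S := by
  intro r b n u hmem hfix hinj
  classical
  -- the product map is injective
  have key : ∀ k : ℕ, ∀ hk : k ≤ r, ∏ j ∈ Finset.univ.filter (fun j : Fin r => k ≤ j), n j ≤
      Nat.card {g : S // ∀ i : Fin r, (i : ℕ) < k → (g : Equiv.Perm Ω) (b i) = b i} := by
    intro k hk
    induction hd : r - k generalizing k with
    | zero =>
      have hkr : k = r := by omega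
      subst hkr
      have : Finset.univ.filter (fun j : Fin k => k ≤ (j : ℕ)) = ∅ := by
        ext j; simp
      rw [this, Finset.prod_empty]
      refine Nat.one_le_iff_ne_zero.mpr (Nat.card_ne_zero.mpr ⟨⟨⟨1, by simp⟩⟩, inferInstance⟩)
    | succ d ih =>
      have hkr : k < r := by omega
      have h1 := ih (k+1) (by omega) (by omega)
      have hsplit : Finset.univ.filter (fun j : Fin r => k ≤ (j : ℕ)) =
          insert ⟨k, hkr⟩ (Finset.univ.filter (fun j : Fin r => k + 1 ≤ (j : ℕ))) := by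
        ext j
        simp only [Finset.mem_filter, Finset.mem_univ, true_and, Finset.mem_insert, Fin.ext_iff]
        omega
      rw [hsplit, Finset.prod_insert (by simp)]
      let F : Fin (n ⟨k, hkr⟩) ×
          {g : S // ∀ i : Fin r, (i : ℕ) < k + 1 → (g : Equiv.Perm Ω) (b i) = b i} →
          {g : S // ∀ i : Fin r, (i : ℕ) < k → (g : Equiv.Perm Ω) (b i) = b i} :=
        fun z => ⟨⟨u ⟨k, hkr⟩ z.1, hmem _ _⟩ * z.2.1, by
          intro i hi
          have e1 : ((z.2.1 : S) : Equiv.Perm Ω) (b i) = b i := z.2.2 i (by omega)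
          simp only [Subgroup.coe_mul, Equiv.Perm.mul_apply, e1]
          exact hfix _ _ i hi⟩
      have hF : Function.Injective F := by
        rintro ⟨a, g, hg⟩ ⟨a', g', hg'⟩ h
        simp only [F, Subtype.mk.injEq] at h
        have h2 := congrArg (fun z : S => (z : Equiv.Perm Ω) (b ⟨k, hkr⟩)) h
        simp only [Subgroup.coe_mul, Equiv.Perm.mul_apply] at h2
        rw [hg ⟨k, hkr⟩ (Nat.lt_succ_self k), hg' ⟨k, hkr⟩ (Nat.lt_succ_self k)] at h2
        have ha := hinj _ _ _ h2
        subst ha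
        have := mul_left_cancel h
        subst this
        rfl
      calc n ⟨k, hkr⟩ * ∏ j ∈ Finset.univ.filter (fun j : Fin r => k + 1 ≤ (j : ℕ)), n j
          ≤ n ⟨k, hkr⟩ * Nat.card
            {g : S // ∀ i : Fin r, (i : ℕ) < k + 1 → (g : Equiv.Perm Ω) (b i) = b i} :=
            Nat.mul_le_mul_left _ h1
        _ = Nat.card (Fin (n ⟨k, hkr⟩) ×
            {g : S // ∀ i : Fin r, (i : ℕ) < k + 1 → (g : Equiv.Perm Ω) (b i) = b i}) := by
            rw [Nat.card_prod, Nat.card_fin]
        _ ≤ _ := Nat.card_le_card_of_injective F hF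
  have h0 := key 0 (Nat.zero_le r)
  have e1 : Finset.univ.filter (fun j : Fin r => 0 ≤ (j : ℕ)) = Finset.univ := by ext j; simp
  rw [e1] at h0
  refine h0.trans ?_
  exact Nat.card_le_card_of_injective (fun g => g.1) Subtype.val_injective

end Cfsg.Agent.J4.DCosetThm
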