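import Cfsg.Agent.J4.LowerBound
import Cfsg.Agent.J4.M24Hom

/-!
# The order of J4 divides the order of the image of the presented group in GL(112, 2)
-/

set_option autoImplicit false

namespace Cfsg.Agent.J4.Dvd

open Cfsg.Agent.J4.Rep112 Cfsg.Agent.J4.M24Pres Cfsg.Agent.J4.M24Hom

theorem rels_g : Rels xg yg where
  r1 := rel1
  r2 := rel2
  r3 := rel3
  r4 := rel4
  r5 := rel5
  r6 := rel6
  r7 := rel7

theorem rels_rho : Rels (rho x) (rho y) := by
  rw [rho_x, rho_y]; exact rels_g

theorem dvd : 86775571046077562880 ∣ Nat.card rho.range := by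
  obtain ⟨phi, hx, hy⟩ := exists_hom rels_rho
  exact LowerBound.dvd_of_hom phi (range_eq phi hx hy)

end Cfsg.Agent.J4.Dvd
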