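import Cfsg.Agent.J4.Packed

/-!
# A checker for coset facts in groups generated by an image of M24 and an involution

Facts have the form `B c_i φ(p) τ = B c_k φ(q)` (kind 0) or `B c_i = B c_k φ(p)` (kind 1), with `p`,
`q` packed permutations.  A fact is verified by following a word, equal to `τ` or to `1` in the
group, through earlier facts.
-/

set_option autoImplicit false

open Cfsg

noncomputable section

namespace Cfsg.Agent.J4.Engine

open Cfsg.Agent.J4.M24Hom Cfsg.Agent.J4.Packed

/-! ### Booleans and tables -/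

/-- conjunction -/
def band (b c : Bool) : Bool := @Bool.rec (fun _ => Bool) false c b

theorem band_iff {b c : Bool} : band b c = true ↔ b = true ∧ c = true := by
  cases b <;> simp [band]

/-- case distinction on a natural number -/
def nsel {α : Type} (n : ℕ) (z : α) (s : ℕ → α) : α :=
  @Nat.rec (fun _ => α) z (fun m _ => s m) n

@[simp] theorem nsel_zero {α : Type} (z : α) (s : ℕ → α) : nsel 0 z s = z := rfl

@[simp] theorem nsel_succ {α : Type} (n : ℕ) (z : α) (s : ℕ → α) : nsel (n + 1) z s = s n := rfl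

/-- tables of facts -/
inductive Tab where
  | nil : Tab
  | leaf (kd i k a ai b bi : ℕ) : Tab
  | node (l r : Tab) : Tab

/-- look up by the binary digits of the index, lowest digit first -/
def Tab.get (t : Tab) : ℕ → Tab :=
  @Tab.rec (fun _ => ℕ → Tab) (fun _ => .nil)
    (fun kd i k a ai b bi _ => .leaf kd i k a ai b bi)
    (fun _ _ ihl ihr idx => nsel (Nat.land idx (nat_lit 1))
      (force (Nat.shiftRight idx (nat_lit 1)) ihl)
      (fun _ => force (Nat.shiftRight idx (nat_lit 1)) ihr)) t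

/-- continue with the data of a leaf -/
def onLeaf (e : Tab) (k : ℕ → ℕ → ℕ → ℕ → ℕ → ℕ → ℕ → Bool) : Bool :=
  @Tab.rec (fun _ => Bool) false (fun kd i j a ai b bi => k kd i j a ai b bi)
    (fun _ _ _ _ => false) e

theorem onLeaf_iff {e : Tab} {k : ℕ → ℕ → ℕ → ℕ → ℕ → ℕ → ℕ → Bool} (h : onLeaf e k = true) :
    ∃ kd i j a ai b bi, e = .leaf kd i j a ai b bi ∧ k kd i j a ai b bi = true := by
  cases e with
  | nil => simp [onLeaf] at h
  | leaf kd i j a ai b bi => exact ⟨kd, i, j, a, ai, b, bi, rfl, h⟩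
  | node l r => simp [onLeaf] at h

/-- tables of pairs of packed permutations -/
inductive PT where
  | nil : PT
  | leaf (a b : ℕ) : PT
  | node (l r : PT) : PT

/-- first component of an entry -/
def PT.get1 (t : PT) : ℕ → ℕ :=
  @PT.rec (fun _ => ℕ → ℕ) (fun _ => nat_lit 0) (fun a _ _ => a)
    (fun _ _ ihl ihr idx => nsel (Nat.land idx (nat_lit 1))
      (force (Nat.shiftRight idx (nat_lit 1)) ihl)
      (fun _ => force (Nat.shiftRight idx (nat_lit 1)) ihr)) t

/-- second component of an entry -/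
def PT.get2 (t : PT) : ℕ → ℕ :=
  @PT.rec (fun _ => ℕ → ℕ) (fun _ => nat_lit 0) (fun _ b _ => b)
    (fun _ _ ihl ihr idx => nsel (Nat.land idx (nat_lit 1))
      (force (Nat.shiftRight idx (nat_lit 1)) ihl)
      (fun _ => force (Nat.shiftRight idx (nat_lit 1)) ihr)) t

/-- entry `m` is an element of `S` with its inverse -/
def Good (T : PT) (S : Subgroup M24) (m : ℕ) : Prop :=
  ∃ g ∈ S, Rep (T.get1 m) g ∧ Rep (T.get2 m) g⁻¹

/-- multiply up a product of table entries: each 10-bit digit is `2 * id + dir` -/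
def ploop (T : PT) (bd n : ℕ) : ℕ → ℕ → (ℕ → Bool) → Bool :=
  @Nat.rec (fun _ => ℕ → ℕ → (ℕ → Bool) → Bool) (fun _ acc k => k acc)
    (fun _ ih d acc k =>
      force (Nat.land (Nat.shiftRight d (nat_lit 1)) (nat_lit 511)) fun id =>
      band (Nat.ble (Nat.succ id) bd)
        (force (nsel (Nat.land d (nat_lit 1)) (pmul (T.get1 id) acc)
          (fun _ => pmul (T.get2 id) acc)) fun acc' =>
          force (Nat.shiftRight d (nat_lit 10)) fun d' => ih d' acc' k)) n

theorem ploop_sound (T : PT) (bd : ℕ) (S : Subgroup M24) (hT : ∀ m < bd, Good T S m) (n : ℕ) :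
    ∀ (d acc : ℕ) (k : ℕ → Bool), (∃ g ∈ S, Rep acc g) → ploop T bd n d acc k = true →
      ∃ acc', (∃ g ∈ S, Rep acc' g) ∧ k acc' = true := by
  induction n with
  | zero =>
    intro d acc k h hk
    exact ⟨acc, h, hk⟩
  | succ n ih =>
    intro d acc k h hk
    have h1 : ploop T bd (n + 1) d acc k =
      force (Nat.land (Nat.shiftRight d (nat_lit 1)) (nat_lit 511)) fun id =>
      band (Nat.ble (Nat.succ id) bd)
        (force (nsel (Nat.land d (nat_lit 1)) (pmul (T.get1 id) acc)
          (fun _ => pmul (T.get2 id) acc)) fun acc' =>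
          force (Nat.shiftRight d (nat_lit 10)) fun d' => ploop T bd n d' acc' k) := rfl
    rw [h1] at hk
    simp only [force_eq, band_iff] at hk
    obtain ⟨h2, h3⟩ := hk
    refine ih _ _ _ ?_ h3
    have h4 := hT _ (Nat.le_of_ble_eq_true h2)
    obtain ⟨g, hg, r1, r2⟩ := h4
    obtain ⟨a, ha, ra⟩ := h
    cases Nat.land d 1 with
    | zero => exact ⟨g * a, S.mul_mem hg ha, rep_mul r1 ra⟩
    | succ => exact ⟨g⁻¹ * a, S.mul_mem (S.inv_mem hg) ha, rep_mul r2 ra⟩

/-- derivations of a table of products -/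
inductive DL where
  | nil : DL
  | cons (n d : ℕ) (rest : DL) : DL

/-- length -/
def DL.len : DL → ℕ
  | .nil => 0
  | .cons _ _ r => r.len + 1

/-- check the entries `m`, `m+1`, ... of a product table -/
def chkProd (T : PT) (L : DL) : ℕ → Bool :=
  @DL.rec (fun _ => ℕ → Bool) (fun _ => true)
    (fun n d _ ih m => band (Nat.beq (pmul (T.get1 m) (T.get2 m)) ID)
      (band (ploop T m n d ID (fun acc => Nat.beq acc (T.get1 m)))
        (force (Nat.succ m) ih))) L

theorem chkProd_sound (T : PT) (S : Subgroup M24) (L : DL) :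
    ∀ m, (∀ m' < m, Good T S m') → chkProd T L m = true → ∀ m' < m + L.len, Good T S m' := by
  induction L with
  | nil => intro m h _ m' hm'; exact h m' (by simpa [DL.len] using hm')
  | cons n d r ih =>
    intro m h hc m' hm'
    have h1 : chkProd T (.cons n d r) m = band (Nat.beq (pmul (T.get1 m) (T.get2 m)) ID)
      (band (ploop T m n d ID (fun acc => Nat.beq acc (T.get1 m)))
        (force (Nat.succ m) (chkProd T r))) := rfl
    rw [h1] at hc
    simp only [force_eq, band_iff] at hc
    obtain ⟨h2, h3, h4⟩ := hc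
    obtain ⟨acc, ⟨g, hg, hr⟩, hk⟩ := ploop_sound T m S h n d ID _ ⟨1, S.one_mem, rep_one⟩ h3
    have h5 : acc = T.get1 m := Nat.eq_of_beq_eq_true hk
    subst h5
    refine ih (m + 1) ?_ h4 m' (by simp only [DL.len] at hm'; omega)
    intro m'' hm''
    by_cases he : m'' = m
    · subst he
      exact ⟨g, hg, hr, rep_inv hr (Nat.eq_of_beq_eq_true h2)⟩
    · exact h m'' (by omega)

/-! ### The stabiliser test -/

/-- the test that a packed permutation preserves a partition into blocks of consecutive points -/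
def kchk (mask w : ℕ) : Bool :=
  Nat.beq (Nat.land (Nat.xor w (Nat.shiftRight w (nat_lit 8))) mask) (nat_lit 0)

/-! ### Running words -/

/-- process the moves at the head of the instruction stream -/
def movL (TB : Tab) (m n : ℕ) : ℕ → ℕ → ℕ → (ℕ → ℕ → ℕ → Bool) → Bool :=
  @Nat.rec (fun _ => ℕ → ℕ → ℕ → (ℕ → ℕ → ℕ → Bool) → Bool) (fun _ _ _ _ => false)
    (fun _ ih code i a k =>
      nsel (Nat.land code (nat_lit 7))
        (force (Nat.land (Nat.shiftRight code (nat_lit 3)) (nat_lit 8191)) fun id =>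
          band (Nat.ble (Nat.succ id) m) (onLeaf (TB.get id) fun kd i' k' p _ _ _ =>
            band (Nat.beq kd (nat_lit 1)) (band (Nat.beq i i')
              (force (pmul p a) fun a' => force (Nat.shiftRight code (nat_lit 16)) fun code' =>
                ih code' k' a' k))))
        (fun op1 => nsel op1
          (force (Nat.land (Nat.shiftRight code (nat_lit 3)) (nat_lit 8191)) fun id =>
            band (Nat.ble (Nat.succ id) m) (onLeaf (TB.get id) fun kd i' k' _ pi _ _ =>
              band (Nat.beq kd (nat_lit 1)) (band (Nat.beq i k')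
                (force (pmul pi a) fun a' => force (Nat.shiftRight code (nat_lit 16)) fun code' =>
                  ih code' i' a' k))))
          (fun _ => k code i a))) n

/-- one step along a fact of kind 0 -/
def stepI (TB : Tab) (mask : ℕ) (absorb : Bool) (m code i a : ℕ) (k : ℕ → ℕ → ℕ → Bool) : Bool :=
  force (Nat.land (Nat.shiftRight code (nat_lit 3)) (nat_lit 8191)) fun id =>
  force (Nat.land code (nat_lit 7)) fun op =>
  force (Nat.shiftRight code (nat_lit 16)) fun code' =>
    band (Nat.ble (Nat.succ id) m) (onLeaf (TB.get id) fun kd i' k' p pi q qi =>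
      band (Nat.beq kd (nat_lit 0))
        (nsel op false (fun op1 => nsel op1 false (fun op2 => nsel op2
          -- op = 2
          (band (Nat.beq i i') (force (pmul pi a) fun w => band (kchk mask w)
            (force (pmul q w) fun a' => k code' k' a')))
          (fun op3 => nsel op3
            -- op = 3
            (band (Nat.beq i k') (force (pmul qi a) fun w => band (kchk mask w)
              (force (pmul p w) fun a' => k code' i' a')))
            (fun op4 => nsel op4
              -- op = 4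
              (band absorb (band (Nat.beq i (nat_lit 0)) (band (Nat.beq i' (nat_lit 0))
                (k code' k' q))))
              (fun _ =>
                band absorb (band (Nat.beq i (nat_lit 0)) (band (Nat.beq k' (nat_lit 0))
                  (k code' i' p))))))))))

/-- multiply, skipping the identity -/
def mulC (a w : ℕ) : ℕ := @Bool.rec (fun _ => ℕ) (pmul a w) a (Nat.beq w ID)

/-- run a word -/
def runW (TB : Tab) (mask : ℕ) (absorb : Bool) (m : ℕ) (ws : List ℕ) :
    ℕ → ℕ → ℕ → (ℕ → ℕ → Bool) → Bool :=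
  @List.rec ℕ (fun _ => ℕ → ℕ → ℕ → (ℕ → ℕ → Bool) → Bool) (fun _ _ _ _ => false)
    (fun w ws ih code i a k => force (mulC a w) fun a =>
      movL TB m (nat_lit 64) code i a fun code i a =>
        @List.rec ℕ (fun _ => Bool) (k i a)
          (fun _ _ _ => stepI TB mask absorb m code i a fun code i a => ih code i a k) ws) ws

/-! ### Semantics -/

section sem

variable {G : Type*} [Group G] (φ : M24 →* G) (τ : G) (B : Subgroup G) (c : ℕ → G)

/-- `x` lies in the coset `B c_i φ(a)` -/
def SInv (x : G) (i a : ℕ) : Prop := ∃ A : M24, Rep a A ∧ x * (c i * φ A)⁻¹ ∈ B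

/-- the meaning of a table entry -/
def Holds (N : ℕ) (e : Tab) : Prop :=
  ∀ kd i k a ai b bi, e = .leaf kd i k a ai b bi → i < N ∧ k < N ∧
    ∃ P : M24, Rep a P ∧ Rep ai P⁻¹ ∧
      (kd = 1 → c i * (c k * φ P)⁻¹ ∈ B) ∧
      (kd = 0 → ∃ Q : M24, Rep b Q ∧ Rep bi Q⁻¹ ∧ c i * φ P * τ * (c k * φ Q)⁻¹ ∈ B)

variable {φ τ B c}

theorem SInv.trans_aux {x u v : G} (h1 : x * u⁻¹ ∈ B) (h2 : u * v⁻¹ ∈ B) : x * v⁻¹ ∈ B := by
  have := B.mul_mem h1 h2
  rwa [mul_assoc, inv_mul_cancel_left] at this

theorem movL_sound {TB : Tab} {N m : ℕ} (hT : ∀ m' < m, Holds φ τ B c N (TB.get m')) (x : G)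
    (n : ℕ) : ∀ (code i a : ℕ) (k : ℕ → ℕ → ℕ → Bool), SInv φ B c x i a →
      movL TB m n code i a k = true → ∃ code' i' a', SInv φ B c x i' a' ∧ k code' i' a' = true := by
  induction n with
  | zero => intro code i a k _ h; exact absurd h (by simp [movL])
  | succ n ih =>
    intro code i a k hx h
    have h1 : movL TB m (n + 1) code i a k =
      nsel (Nat.land code (nat_lit 7))
        (force (Nat.land (Nat.shiftRight code (nat_lit 3)) (nat_lit 8191)) fun id =>
          band (Nat.ble (Nat.succ id) m) (onLeaf (TB.get id) fun kd i' k' p _ _ _ =>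
            band (Nat.beq kd (nat_lit 1)) (band (Nat.beq i i')
              (force (pmul p a) fun a' => force (Nat.shiftRight code (nat_lit 16)) fun code' =>
                movL TB m n code' k' a' k))))
        (fun op1 => nsel op1
          (force (Nat.land (Nat.shiftRight code (nat_lit 3)) (nat_lit 8191)) fun id =>
            band (Nat.ble (Nat.succ id) m) (onLeaf (TB.get id) fun kd i' k' _ pi _ _ =>
              band (Nat.beq kd (nat_lit 1)) (band (Nat.beq i k')
                (force (pmul pi a) fun a' => force (Nat.shiftRight code (nat_lit 16)) fun code' =>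
                  movL TB m n code' i' a' k))))
          (fun _ => k code i a)) := rfl
    rw [h1] at h
    generalize Nat.land code (nat_lit 7) = op at h
    match op with
    | 0 =>
      rw [nsel_zero] at h
      simp only [force_eq, band_iff] at h
      obtain ⟨h2, h3⟩ := h
      obtain ⟨kd, i', k', p, pi, q, qi, he, h4, h5, h6⟩ : ∃ kd i' k' p pi q qi,
        TB.get (Nat.land (Nat.shiftRight code 3) 8191) = .leaf kd i' k' p pi q qi ∧
          Nat.beq kd 1 = true ∧ Nat.beq i i' = true ∧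
          movL TB m n (Nat.shiftRight code 16) k' (pmul p a) k = true := by
        obtain ⟨kd, i', k', p, pi, q, qi, he, hh⟩ := onLeaf_iff h3
        simp only [band_iff] at hh
        exact ⟨kd, i', k', p, pi, q, qi, he, hh⟩
      refine ih _ _ _ _ ?_ h6
      obtain ⟨_, _, P, rP, _, hP, _⟩ := hT _ (Nat.le_of_ble_eq_true h2) _ _ _ _ _ _ _ he
      have h7 : kd = 1 := Nat.eq_of_beq_eq_true h4
      have h8 : i = i' := Nat.eq_of_beq_eq_true h5
      subst h8
      obtain ⟨A, rA, hA⟩ := hx
      refine ⟨P * A, rep_mul rP rA, SInv.trans_aux hA ?_⟩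
      have h9 := hP h7
      have h10 : c i * φ A * (c k' * φ (P * A))⁻¹ = c i * (c k' * φ P)⁻¹ := by
        rw [map_mul]; group
      rwa [h10]
    | 1 =>
      rw [show (1 : ℕ) = 0 + 1 from rfl, nsel_succ, nsel_zero] at h
      simp only [force_eq, band_iff] at h
      obtain ⟨h2, h3⟩ := h
      obtain ⟨kd, i', k', p, pi, q, qi, he, h4, h5, h6⟩ : ∃ kd i' k' p pi q qi,
        TB.get (Nat.land (Nat.shiftRight code 3) 8191) = .leaf kd i' k' p pi q qi ∧
          Nat.beq kd 1 = true ∧ Nat.beq i k' = true ∧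
          movL TB m n (Nat.shiftRight code 16) i' (pmul pi a) k = true := by
        obtain ⟨kd, i', k', p, pi, q, qi, he, hh⟩ := onLeaf_iff h3
        simp only [band_iff] at hh
        exact ⟨kd, i', k', p, pi, q, qi, he, hh⟩
      refine ih _ _ _ _ ?_ h6
      obtain ⟨_, _, P, rP, rPi, hP, _⟩ := hT _ (Nat.le_of_ble_eq_true h2) _ _ _ _ _ _ _ he
      have h7 : kd = 1 := Nat.eq_of_beq_eq_true h4
      have h8 : i = k' := Nat.eq_of_beq_eq_true h5
      subst h8
      obtain ⟨A, rA, hA⟩ := hx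
      refine ⟨P⁻¹ * A, rep_mul rPi rA, SInv.trans_aux hA ?_⟩
      have h9 := B.inv_mem (hP h7)
      have h10 : c i * φ A * (c i' * φ (P⁻¹ * A))⁻¹ = (c i' * (c i * φ P)⁻¹)⁻¹ := by
        rw [map_mul, map_inv]; group
      rwa [h10]
    | (op + 2) =>
      exact ⟨code, i, a, hx, h⟩

/-- the hypothesis on the stabiliser test -/
def KOK (φ : M24 →* G) (τ : G) (mask : ℕ) : Prop :=
  ∀ (w : ℕ) (W : M24), Rep w W → kchk mask w = true → Commute τ (φ W)

theorem stepI_sound {TB : Tab} {N m mask : ℕ} {absorb : Bool}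
    (hT : ∀ m' < m, Holds φ τ B c N (TB.get m')) (hτ : τ * τ = 1) (hK : KOK φ τ mask)
    (hab : absorb = true → c 0 = 1 ∧ φ.range ≤ B) (x : G) (code i a : ℕ)
    (k : ℕ → ℕ → ℕ → Bool) (hx : SInv φ B c x i a)
    (h : stepI TB mask absorb m code i a k = true) :
    ∃ code' i' a', SInv φ B c (x * τ) i' a' ∧ k code' i' a' = true := by
  unfold stepI at h
  simp only [force_eq, band_iff] at h
  obtain ⟨h2, h3⟩ := h
  obtain ⟨kd, i', k', p, pi, q, qi, he, hh⟩ := onLeaf_iff h3
  simp only [band_iff] at hh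
  obtain ⟨h4, h5⟩ := hh
  obtain ⟨_, _, P, rP, rPi, _, hPQ⟩ := hT _ (Nat.le_of_ble_eq_true h2) _ _ _ _ _ _ _ he
  obtain ⟨Q, rQ, rQi, hE⟩ := hPQ (Nat.eq_of_beq_eq_true h4)
  obtain ⟨A, rA, hA⟩ := hx
  generalize Nat.land code (nat_lit 7) = op at h5
  match op with
  | 0 => exact absurd h5 (by simp)
  | 1 => exact absurd h5 (by rw [show (1 : ℕ) = 0 + 1 from rfl, nsel_succ, nsel_zero]; simp)
  | 2 =>
    rw [show (2 : ℕ) = 0 + 1 + 1 from rfl, nsel_succ, nsel_succ, nsel_zero] at h5
    simp only [band_iff] at h5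
    obtain ⟨h6, h7, h8⟩ := h5
    have h9 : i = i' := Nat.eq_of_beq_eq_true h6
    subst h9
    have rW : Rep (pmul pi a) (P⁻¹ * A) := rep_mul rPi rA
    have hc := hK _ _ rW h7
    refine ⟨_, _, _, ⟨Q * (P⁻¹ * A), rep_mul rQ rW, ?_⟩, h8⟩
    have h10 : x * τ * (c i * φ A * τ)⁻¹ ∈ B := by
      have : x * τ * (c i * φ A * τ)⁻¹ = x * (c i * φ A)⁻¹ := by group
      rwa [this]
    refine SInv.trans_aux h10 ?_
    have h11 : c i * φ A * τ = c i * φ P * τ * φ (P⁻¹ * A) := by
      have : φ A = φ P * φ (P⁻¹ * A) := by rw [← map_mul]; simp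
      rw [this, mul_assoc, mul_assoc, mul_assoc, mul_assoc, hc.eq]
    rw [h11, map_mul φ Q]
    have h12 : c i * φ P * τ * φ (P⁻¹ * A) * (c k' * (φ Q * φ (P⁻¹ * A)))⁻¹ =
        c i * φ P * τ * (c k' * φ Q)⁻¹ := by group
    rwa [h12]
  | 3 =>
    rw [show (3 : ℕ) = 0 + 1 + 1 + 1 from rfl, nsel_succ, nsel_succ, nsel_succ, nsel_zero] at h5
    simp only [band_iff] at h5
    obtain ⟨h6, h7, h8⟩ := h5
    have h9 : i = k' := Nat.eq_of_beq_eq_true h6
    subst h9
    have rW : Rep (pmul qi a) (Q⁻¹ * A) := rep_mul rQi rA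
    have hc := hK _ _ rW h7
    refine ⟨_, _, _, ⟨P * (Q⁻¹ * A), rep_mul rP rW, ?_⟩, h8⟩
    have h10 : x * τ * (c i * φ A * τ)⁻¹ ∈ B := by
      have : x * τ * (c i * φ A * τ)⁻¹ = x * (c i * φ A)⁻¹ := by group
      rwa [this]
    refine SInv.trans_aux h10 ?_
    have h11 : c i * φ A * τ = c i * φ Q * τ * φ (Q⁻¹ * A) := by
      have : φ A = φ Q * φ (Q⁻¹ * A) := by rw [← map_mul]; simp
      rw [this, mul_assoc, mul_assoc, mul_assoc, mul_assoc, hc.eq]
    rw [h11, map_mul φ P]
    have hti : τ⁻¹ = τ := inv_eq_of_mul_eq_one_right hτ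
    have h12 : c i * φ Q * τ * φ (Q⁻¹ * A) * (c i' * (φ P * φ (Q⁻¹ * A)))⁻¹ =
        (c i' * φ P * τ * (c i * φ Q)⁻¹)⁻¹ := by
      rw [mul_inv_rev, mul_inv_rev, mul_inv_rev, mul_inv_rev, mul_inv_rev, mul_inv_rev, inv_inv,
        hti]
      group
    rw [h12]
    exact B.inv_mem hE
  | 4 =>
    rw [show (4 : ℕ) = 0 + 1 + 1 + 1 + 1 from rfl, nsel_succ, nsel_succ, nsel_succ, nsel_succ,
      nsel_zero] at h5
    simp only [band_iff] at h5
    obtain ⟨h6, h7, h8, h9⟩ := h5
    obtain ⟨hc0, hB⟩ := hab h6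
    have h10 : i = 0 := Nat.eq_of_beq_eq_true h7
    have h11 : i' = 0 := Nat.eq_of_beq_eq_true h8
    subst h10 h11
    refine ⟨_, _, _, ⟨Q, rQ, ?_⟩, h9⟩
    refine SInv.trans_aux ?_ hE
    rw [hc0, one_mul] at *
    have hx' : x ∈ B := by
      have h12 := B.mul_mem hA (hB ⟨A, rfl⟩)
      rwa [inv_mul_cancel_right] at h12
    have h13 : x * τ * (φ P * τ)⁻¹ = x * φ P⁻¹ := by rw [map_inv]; group
    rw [h13]
    exact B.mul_mem hx' (hB ⟨_, rfl⟩)
  | (op + 5) =>
    rw [show op + 5 = op + 1 + 1 + 1 + 1 + 1 from rfl, nsel_succ, nsel_succ, nsel_succ, nsel_succ,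
      nsel_succ] at h5
    simp only [band_iff] at h5
    obtain ⟨h6, h7, h8, h9⟩ := h5
    obtain ⟨hc0, hB⟩ := hab h6
    have h10 : i = 0 := Nat.eq_of_beq_eq_true h7
    have h11 : k' = 0 := Nat.eq_of_beq_eq_true h8
    subst h10 h11
    have hti : τ⁻¹ = τ := inv_eq_of_mul_eq_one_right hτ
    refine ⟨_, _, _, ⟨P, rP, ?_⟩, h9⟩
    rw [hc0, one_mul] at *
    have hx' : x ∈ B := by
      have h12 := B.mul_mem hA (hB ⟨A, rfl⟩)
      rwa [inv_mul_cancel_right] at h12
    have h13 : x * τ * (c i' * φ P)⁻¹ = x * φ Q⁻¹ * (c i' * φ P * τ * (φ Q)⁻¹)⁻¹ := by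
      rw [mul_inv_rev (c i' * φ P * τ), mul_inv_rev (c i' * φ P) τ, inv_inv, hti, map_inv]
      group
    rw [h13]
    exact B.mul_mem (B.mul_mem hx' (hB ⟨_, rfl⟩)) (B.inv_mem hE)

variable (φ τ) in
/-- the value of a word with multipliers `gs`: `g₀ τ g₁ τ ⋯ τ g_r` -/
def wval : List M24 → G
  | [] => 1
  | [g] => φ g
  | g :: h :: gs => φ g * τ * wval (h :: gs)

theorem mulC_rep {a w : ℕ} {A W : M24} (ha : Rep a A) (hw : Rep w W) : Rep (mulC a w) (A * W) := by
  unfold mulC
  cases h : Nat.beq w ID with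
  | false => exact rep_mul ha hw
  | true =>
    have : w = ID := Nat.eq_of_beq_eq_true h
    subst this
    have : W = 1 := rep_inj hw rep_one
    subst this
    simpa using ha

theorem runW_sound {TB : Tab} {N m mask : ℕ} {absorb : Bool}
    (hT : ∀ m' < m, Holds φ τ B c N (TB.get m')) (hτ : τ * τ = 1) (hK : KOK φ τ mask)
    (hab : absorb = true → c 0 = 1 ∧ φ.range ≤ B) (ws : List ℕ) :
    ∀ (gs : List M24) (_ : List.Forall₂ Rep ws gs) (x : G) (code i a : ℕ) (k : ℕ → ℕ → Bool)
      (_ : SInv φ B c x i a) (_ : runW TB mask absorb m ws code i a k = true),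
    ∃ i' a', SInv φ B c (x * wval φ τ gs) i' a' ∧ k i' a' = true := by
  induction ws with
  | nil => intro gs _ x code i a k _ h; exact absurd h (by simp [runW])
  | cons w ws ih =>
    intro gs hgs x code i a k hx h
    cases hgs with
    | cons hw hws =>
    rename_i g gs
    have h1 : runW TB mask absorb m (w :: ws) code i a k = force (mulC a w) fun a =>
      movL TB m (nat_lit 64) code i a fun code i a =>
        @List.rec ℕ (fun _ => Bool) (k i a)
          (fun _ _ _ => stepI TB mask absorb m code i a fun code i a =>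
            runW TB mask absorb m ws code i a k) ws := rfl
    rw [h1, force_eq] at h
    have hx1 : SInv φ B c (x * φ g) i (mulC a w) := by
      obtain ⟨A, rA, hA⟩ := hx
      refine ⟨A * g, mulC_rep rA hw, ?_⟩
      have : x * φ g * (c i * φ (A * g))⁻¹ = x * (c i * φ A)⁻¹ := by rw [map_mul]; group
      rwa [this]
    obtain ⟨code1, i1, a1, hx2, h2⟩ := movL_sound hT _ _ _ _ _ _ hx1 h
    cases hws with
    | nil => exact ⟨i1, a1, hx2, h2⟩
    | cons hw2 hws2 =>
      obtain ⟨code3, i3, a3, hx3, h3⟩ := stepI_sound hT hτ hK hab _ _ _ _ _ hx2 h2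
      obtain ⟨i4, a4, hx4, h4⟩ := ih _ (List.Forall₂.cons hw2 hws2) _ _ _ _ _ hx3 h3
      refine ⟨i4, a4, ?_, h4⟩
      simpa [wval, mul_assoc] using hx4

end sem

end Cfsg.Agent.J4.Engine
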