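import Cfsg.Agent.J4.Check

/-!
# Node representatives, words and their inverses
-/

set_option autoImplicit false

open Cfsg

noncomputable section

namespace Cfsg.Agent.J4.Nodes

open Cfsg.Agent.J4.M24Hom Cfsg.Agent.J4.Packed Cfsg.Agent.J4.Engine Cfsg.Agent.J4.Check

/-- mask of the stabiliser test for trios -/
def maskT : ℕ := nat_lit 18462063927607884344305252524612818318346796501668249792

/-- mask of the stabiliser test for sextets -/
def maskS : ℕ := nat_lit 21539073303395265737149407781166083878008991654896263392

open Classical in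
/-- the element with a given packed form -/
def el (p : ℕ) : M24 := if h : ∃ g, Rep p g then h.choose else 1

theorem el_spec {p : ℕ} (h : ∃ g, Rep p g) : Rep p (el p) := by
  unfold el; rw [dif_pos h]; exact h.choose_spec

theorem el_eq {p : ℕ} {g : M24} (h : Rep p g) : el p = g := rep_inj (el_spec ⟨g, h⟩) h

/-- test of a node definition -/
def defOKof (DT : PT) (k i p : ℕ) : Bool :=
  band (Nat.ble (Nat.succ i) k) (band (Nat.beq i (DT.get1 k)) (Nat.beq p (DT.get2 k)))

/-- no special facts -/
def noAx (_ _ _ _ : ℕ) : Bool := false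

/-- node representatives -/
def cN {G : Type*} [Group G] (φ : M24 →* G) (τ : G) (DT : PT) (k : ℕ) : G :=
  if DT.get1 k < k then cN φ τ DT (DT.get1 k) * φ (el (DT.get2 k)) * τ else 1
termination_by k

theorem cN_zero {G : Type*} [Group G] (φ : M24 →* G) (τ : G) (DT : PT) : cN φ τ DT 0 = 1 := by
  rw [cN]; simp

theorem cN_def {G : Type*} [Group G] {φ : M24 →* G} {τ : G} {DT : PT} {k i p : ℕ} {P : M24}
    (h : defOKof DT k i p = true) (hP : Rep p P) :
    cN φ τ DT k = cN φ τ DT i * φ P * τ := by
  unfold defOKof at h
  simp only [band_iff] at h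
  obtain ⟨h1, h2, h3⟩ := h
  have h4 : i < k := Nat.le_of_ble_eq_true h1
  have h5 : i = DT.get1 k := Nat.eq_of_beq_eq_true h2
  have h6 : p = DT.get2 k := Nat.eq_of_beq_eq_true h3
  rw [cN, ← h5, if_pos h4, ← h6, el_eq hP]

/-- concatenation of words -/
def catP : List ℕ → List ℕ → List ℕ
  | [], b => b
  | [a], [] => [a]
  | [a], b :: bs => pmul a b :: bs
  | a :: a' :: as, b => a :: catP (a' :: as) b

/-- concatenation of words -/
def catG : List M24 → List M24 → List M24
  | [], b => b
  | [a], [] => [a]
  | [a], b :: bs => (a * b) :: bs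
  | a :: a' :: as, b => a :: catG (a' :: as) b

theorem catG_ne_nil (a : List M24) (b : List M24) (ha : a ≠ []) : catG a b ≠ [] := by
  match a, b with
  | [], _ => exact absurd rfl ha
  | [a], [] => simp [catG]
  | [a], b :: bs => simp [catG]
  | a :: a' :: as, b => simp [catG]

theorem rep_cat {a b : List ℕ} {a' b' : List M24} (ha : List.Forall₂ Rep a a')
    (hb : List.Forall₂ Rep b b') : List.Forall₂ Rep (catP a b) (catG a' b') := by
  induction ha with
  | nil => simpa [catP, catG] using hb
  | cons h1 h2 ih =>
    cases h2 with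
    | nil =>
      cases hb with
      | nil => simpa [catP, catG] using h1
      | cons h3 h4 => exact List.Forall₂.cons (rep_mul h1 h3) h4
    | cons h3 h4 => exact List.Forall₂.cons h1 ih

theorem wval_cat {G : Type*} [Group G] (φ : M24 →* G) (τ : G) (a b : List M24) (ha : a ≠ [])
    (hb : b ≠ []) : wval φ τ (catG a b) = wval φ τ a * wval φ τ b := by
  induction a with
  | nil => exact absurd rfl ha
  | cons x xs ih =>
    cases xs with
    | nil =>
      cases b with
      | nil => exact absurd rfl hb
      | cons y ys =>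
        cases ys with
        | nil => simp [catG, wval]
        | cons z zs => simp [catG, wval, mul_assoc]
    | cons y ys =>
      have h1 : catG (x :: y :: ys) b = x :: catG (y :: ys) b := rfl
      have h2 := ih (by simp)
      obtain ⟨z, zs, hz⟩ := List.exists_cons_of_ne_nil (catG_ne_nil (y :: ys) b (by simp))
      rw [h1, hz]
      rw [hz] at h2
      simp only [wval]
      rw [h2]
      simp [mul_assoc]

theorem wval_one {G : Type*} [Group G] (φ : M24 →* G) (τ : G) (g : M24) :
    wval φ τ [g] = φ g := rfl

theorem wval_four {G : Type*} [Group G] (φ : M24 →* G) (τ : G) (a b c d : M24) :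
    wval φ τ [a, b, c, d] = φ a * τ * φ b * τ * φ c * τ * φ d := by
  simp [wval, mul_assoc]

/-- existence of an element from a table product -/
theorem ex_of_ploop {T : PT} {bd n d p : ℕ} (hT : ∀ m < bd, Good T ⊤ m)
    (h : ploop T bd n d ID (fun acc => Nat.beq acc p) = true) : Rep p (el p) := by
  obtain ⟨acc, ⟨g, _, hg⟩, hk⟩ := ploop_sound T bd ⊤ hT n d ID _ ⟨1, Subgroup.mem_top _, rep_one⟩ h
  have : acc = p := Nat.eq_of_beq_eq_true hk
  subst this
  exact el_spec ⟨g, hg⟩

/-- letters: 0, 1, 2 stand for `X`, `Y`, `Y⁻¹` -/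
def letG (n : ℕ) : M24 := nsel n XM (fun m => nsel m YM (fun _ => YM⁻¹))

/-- packed `Y⁻¹` -/
def PYi : ℕ := nat_lit 4130111635209052196403155761944125918409855510790392004608

/-- packed letters -/
def letP (n : ℕ) : ℕ := nsel n PX (fun m => nsel m PY (fun _ => PYi))

theorem rep_Yi : Rep PYi YM⁻¹ := rep_inv rep_Y (by decide +kernel)

theorem rep_let (n : ℕ) : Rep (letP n) (letG n) := by
  match n with
  | 0 => exact rep_X
  | 1 => exact rep_Y
  | (n + 2) => exact rep_Yi

/-- packed product of letters -/
def wordP : List ℕ → ℕ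
  | [] => ID
  | a :: as => pmul (letP a) (wordP as)

/-- product of letters -/
def wordG : List ℕ → M24
  | [] => 1
  | a :: as => letG a * wordG as

theorem rep_word (l : List ℕ) : Rep (wordP l) (wordG l) := by
  induction l with
  | nil => exact rep_one
  | cons a as ih => exact rep_mul (rep_let a) ih

theorem letG0 : letG 0 = XM := rfl

theorem letG1 : letG 1 = YM := rfl

theorem letG2 : letG 2 = YM⁻¹ := rfl

theorem rep_of_word {p : ℕ} (l : List ℕ) (h : wordP l = p) : Rep p (wordG l) := by
  subst h; exact rep_word l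

end Cfsg.Agent.J4.Nodes
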