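import Cfsg.Agent.J4.MTab
import Cfsg.Agent.J4.Nodes
import Cfsg.Agent.J4.Blocks

/-!
# The table of elements is good
-/

set_option autoImplicit false

open Cfsg

noncomputable section

namespace Cfsg.Agent.J4.FetchK

open Cfsg.Agent.J4.M24Hom Cfsg.Agent.J4.Packed Cfsg.Agent.J4.Engine Cfsg.Agent.J4.Blocks
  Cfsg.Agent.J4.MTab Cfsg.Agent.J4.Nodes

/-- fetch from a table -/
def fetchK (T : PT) (m id : ℕ) (k : ℕ → Bool) : Bool :=
  band (Nat.ble (Nat.succ id) m) (force (T.get1 id) k)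

theorem fetchK_sound {T : PT} {m : ℕ} {S : Subgroup M24} (h : ∀ m' < m, Good T S m') :
    ∀ id kk, fetchK T m id kk = true → ∃ p g, g ∈ S ∧ Rep p g ∧ kk p = true := by
  intro id kk hk
  unfold fetchK at hk
  rw [band_iff, force_eq] at hk
  obtain ⟨g, hg, rg, _⟩ := h _ (Nat.le_of_ble_eq_true hk.1)
  exact ⟨_, g, hg, rg, hk.2⟩

theorem seedsM : ∀ m < 3, Good MT ⊤ m := by
  intro m hm
  have h0 : MT.get1 0 = ID := by decide +kernel
  have h0' : MT.get2 0 = ID := by decide +kernel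
  have h1 : MT.get1 1 = PX := by decide +kernel
  have h1' : pmul PX (MT.get2 1) = ID := by decide +kernel
  have h2 : MT.get1 2 = PY := by decide +kernel
  have h2' : pmul PY (MT.get2 2) = ID := by decide +kernel
  rcases (by omega : m = 0 ∨ m = 1 ∨ m = 2) with rfl | rfl | rfl
  · refine ⟨1, Subgroup.mem_top _, ?_, ?_⟩
    · rw [h0]; exact rep_one
    · rw [h0', inv_one]; exact rep_one
  · refine ⟨XM, Subgroup.mem_top _, ?_, ?_⟩
    · rw [h1]; exact rep_X
    · exact rep_inv rep_X h1'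
  · refine ⟨YM, Subgroup.mem_top _, ?_, ?_⟩
    · rw [h2]; exact rep_Y
    · exact rep_inv rep_Y h2'

theorem goodM : ∀ m < 131, Good MT ⊤ m := by
  have h := chkProd_sound MT ⊤ MD 3 seedsM chk
  have hl : MD.len = 128 := by decide +kernel
  intro m hm
  exact h m (by omega)

end Cfsg.Agent.J4.FetchK
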