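import Cfsg.Agent.J4.Upper
import Cfsg.Agent.J4.Simple
import Cfsg.Agent.J4.Dvd

/-!
# The order and the simplicity of the presented group J4

Everything unconditional: the presented group has order `86775571046077562880`, is simple, and its
112-dimensional representation over `F2` is faithful.
-/

set_option autoImplicit false

namespace Cfsg.Agent.J4.Final

open Cfsg.Agent.J4 Cfsg.Agent.J4.Rep112

theorem isSimple_card : IsSimpleGroup Cfsg.Spor.J4 ∧ Nat.card Cfsg.Spor.J4 = 86775571046077562880 :=
  Cfsg.Agent.J4.Simple.isJ4_of_le Cfsg.Agent.J4.Upper.card_J4_le.1 Cfsg.Agent.J4.Dvd.dvd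

instance isSimpleGroup_J4 : IsSimpleGroup Cfsg.Spor.J4 := isSimple_card.1

theorem card_J4 : Nat.card Cfsg.Spor.J4 = 86775571046077562880 := isSimple_card.2

theorem rho_injective : Function.Injective rho := by
  have h1 : Nat.card rho.range ≤ Nat.card Cfsg.Spor.J4 :=
    Nat.card_le_card_of_surjective rho.rangeRestrict rho.rangeRestrict_surjective
  have : Finite rho.range := Finite.of_surjective rho.rangeRestrict rho.rangeRestrict_surjective
  have h2 : 86775571046077562880 ≤ Nat.card rho.range := Nat.le_of_dvd Nat.card_pos
    Cfsg.Agent.J4.Dvd.dvd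
  have h4 : Nat.card rho.range = Nat.card Cfsg.Spor.J4 := by
    have := card_J4
    omega
  have h5 : Function.Bijective rho.rangeRestrict :=
    (Nat.bijective_iff_surjective_and_card _).mpr ⟨rho.rangeRestrict_surjective, h4.symm⟩
  intro a b hab
  apply h5.1
  exact Subtype.ext hab

/-- The presented group is isomorphic to its image in `GL(112, 2)`. -/
noncomputable def equivRange : Cfsg.Spor.J4 ≃* rho.range := MonoidHom.ofInjective rho_injective

theorem card_range : Nat.card rho.range = 86775571046077562880 := by
  rw [← Nat.card_congr equivRange.toEquiv, card_J4]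

theorem isSimpleGroup_range : IsSimpleGroup rho.range := by
  have : Nontrivial rho.range := equivRange.symm.toEquiv.nontrivial
  exact IsSimpleGroup.isSimpleGroup_of_surjective equivRange.toMonoidHom equivRange.surjective

end Cfsg.Agent.J4.Final
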