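import Mathlib
import Cfsg.Agent.Lib.F2MatGroup

/-!
# Small lemmas giving lower bounds for the order of a finite group
-/

set_option autoImplicit false

namespace Cfsg.Agent.J4.GroupLemmas

open Subgroup Cfsg.Agent.Lib.F2MatGroup

theorem isPGroup_zpowers {G : Type*} [Group G] {p : ℕ} {c : G} (hc : c ^ p = 1) :
    IsPGroup p (zpowers c) := by
  rintro ⟨g, hg⟩
  obtain ⟨m, rfl⟩ := mem_zpowers_iff.mp hg
  refine ⟨1, Subtype.ext ?_⟩
  simp only [pow_one, SubmonoidClass.mk_pow, OneMemClass.coe_one]
  rw [← zpow_natCast, ← zpow_mul, mul_comm, zpow_mul, zpow_natCast, hc, one_zpow]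

/-- A strictly larger `p`-subgroup has order divisible by one more power of `p`. -/
theorem pow_succ_dvd_of_lt {G : Type*} [Group G] [Finite G] {p k : ℕ} [Fact p.Prime]
    {H K : Subgroup G} (hK : IsPGroup p K) (hlt : H < K) (h : p ^ k ∣ Nat.card H) :
    p ^ (k + 1) ∣ Nat.card K := by
  have hH : IsPGroup p H := hK.to_le hlt.le
  obtain ⟨i, hi⟩ := IsPGroup.iff_card.mp hH
  obtain ⟨j, hj⟩ := IsPGroup.iff_card.mp hK
  have h1 : Nat.card H < Nat.card K := by
    refine lt_of_le_of_ne (Nat.le_of_dvd Nat.card_pos (card_dvd_of_le hlt.le)) fun heq => ?_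
    exact hlt.ne (eq_of_le_of_card_ge hlt.le heq.ge)
  have hp : 1 < p := (Fact.out : p.Prime).one_lt
  rw [hi, hj] at h1
  have hij : i < j := (Nat.pow_lt_pow_iff_right hp).mp h1
  rw [hi] at h
  have hki : k ≤ i := (Nat.pow_dvd_pow_iff_le_right hp).mp h
  rw [hj]
  exact pow_dvd_pow p (by omega)

theorem prime_cube_dvd_card {G : Type*} [Group G] [Finite G] {p : ℕ} [Fact p.Prime] {a b c : G}
    (ha : a ^ p = 1) (hb : b ^ p = 1) (hc : c ^ p = 1) (hc1 : c ≠ 1) (hac : a * c = c * a)
    (hbc : b * c = c * b) (hab : a * (b * c) = b * a) : p ^ 3 ∣ Nat.card G := by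
  have hnab : a * b ≠ b * a := by
    intro h
    apply hc1
    have : a * b * c = a * b := by rw [mul_assoc, hab, h]
    exact mul_eq_left.mp this
  -- C = <c>, A = <a>, B = <b>
  have hC : IsPGroup p (zpowers c) := isPGroup_zpowers hc
  have hA : IsPGroup p (zpowers a) := isPGroup_zpowers ha
  have hB : IsPGroup p (zpowers b) := isPGroup_zpowers hb
  have hAC : zpowers a ≤ normalizer ((zpowers c : Subgroup G) : Set G) := by
    rw [zpowers_le]
    refine centralizer_le_normalizer _ ?_
    rw [mem_centralizer_iff]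
    intro g hg
    obtain ⟨m, rfl⟩ := mem_zpowers_iff.mp hg
    exact ((Commute.zpow_left (show Commute c a from hac.symm) m)).eq
  have hCA : IsPGroup p (zpowers c ⊔ zpowers a : Subgroup G) := IsPGroup.to_sup_of_normal_left' hC hA hAC
  have hbn : b ∈ normalizer ((zpowers c ⊔ zpowers a : Subgroup G) : Set G) := by
    have key : ∀ g : G, (g * c * g⁻¹ ∈ (zpowers c ⊔ zpowers a : Subgroup G)) →
        (g * a * g⁻¹ ∈ (zpowers c ⊔ zpowers a : Subgroup G)) →
        ∀ h ∈ (zpowers c ⊔ zpowers a : Subgroup G), g * h * g⁻¹ ∈ (zpowers c ⊔ zpowers a : Subgroup G) := by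
      intro g h1 h2 h hh
      have hle : (zpowers c ⊔ zpowers a : Subgroup G) ≤
          (zpowers c ⊔ zpowers a : Subgroup G).comap (MulAut.conj g).toMonoidHom := by
        rw [sup_le_iff, zpowers_le, zpowers_le]
        exact ⟨h1, h2⟩
      exact hle hh
    have hcm : c ∈ (zpowers c ⊔ zpowers a : Subgroup G) := mem_sup_left (mem_zpowers c)
    have ham : a ∈ (zpowers c ⊔ zpowers a : Subgroup G) := mem_sup_right (mem_zpowers a)
    have e1 : b * c * b⁻¹ = c := by rw [hbc, mul_inv_cancel_right]
    have e2 : b * a * b⁻¹ = a * c := by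
      rw [← hab, hbc, ← mul_assoc, mul_inv_cancel_right]
    have e3 : b⁻¹ * c * b⁻¹⁻¹ = c := by rw [inv_inv, mul_assoc, ← hbc, inv_mul_cancel_left]
    have e4 : b⁻¹ * a * b⁻¹⁻¹ = a * c⁻¹ := by
      rw [inv_inv, eq_mul_inv_iff_mul_eq, mul_assoc, mul_assoc, hab, inv_mul_cancel_left]
    rw [mem_normalizer_iff]
    intro h
    constructor
    · intro hh
      exact key b (by rw [e1]; exact hcm) (by rw [e2]; exact mul_mem ham hcm) h hh
    · intro hh
      have := key b⁻¹ (by rw [e3]; exact hcm) (by rw [e4]; exact mul_mem ham (inv_mem hcm)) _ hh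
      have e5 : b⁻¹ * (b * h * b⁻¹) * b⁻¹⁻¹ = h := by group
      rwa [e5] at this
  have hP : IsPGroup p ((zpowers c ⊔ zpowers a) ⊔ zpowers b : Subgroup G) := by
    refine IsPGroup.to_sup_of_normal_left' hCA hB ?_
    rwa [zpowers_le]
  have hlt1 : (⊥ : Subgroup G) < zpowers c := by
    rw [bot_lt_iff_ne_bot, Ne, zpowers_eq_bot]
    exact hc1
  have hlt2 : zpowers c < (zpowers c ⊔ zpowers a : Subgroup G) := by
    refine lt_of_le_of_ne le_sup_left fun heq => hnab ?_
    have : a ∈ zpowers c := by
      rw [heq]; exact mem_sup_right (mem_zpowers a)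
    obtain ⟨m, hm⟩ := mem_zpowers_iff.mp this
    rw [← hm]
    exact (Commute.zpow_left (show Commute c b from hbc.symm) m).eq
  have hlt3 : (zpowers c ⊔ zpowers a : Subgroup G) < (zpowers c ⊔ zpowers a) ⊔ zpowers b := by
    refine lt_of_le_of_ne le_sup_left fun heq => hnab ?_
    have hb' : b ∈ (zpowers c ⊔ zpowers a : Subgroup G) := by
      rw [heq]; exact mem_sup_right (mem_zpowers b)
    have hle : (zpowers c ⊔ zpowers a : Subgroup G) ≤ centralizer {a} := by
      rw [sup_le_iff, zpowers_le, zpowers_le, mem_centralizer_singleton_iff,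
        mem_centralizer_singleton_iff]
      exact ⟨hac.symm, rfl⟩
    exact (mem_centralizer_singleton_iff.mp (hle hb')).symm
  have d1 : p ^ (0 + 1) ∣ Nat.card (zpowers c) := pow_succ_dvd_of_lt hC hlt1 (by simp)
  have d2 := pow_succ_dvd_of_lt hCA hlt2 d1
  have d3 := pow_succ_dvd_of_lt hP hlt3 d2
  exact d3.trans (card_subgroup_dvd_card _)

/-- every element of the list lies outside a subgroup containing all later elements. -/
def Ind {G : Type*} [Group G] : List G → Prop
  | [] => True
  | q :: l => (∃ S : Subgroup G, (∀ a ∈ l, a ∈ S) ∧ q ∉ S) ∧ Ind l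

theorem two_group {G : Type*} [Group G] [Finite G] (l : List G) (hsq : ∀ q ∈ l, q * q = 1)
    (hcomm : ∀ a ∈ l, ∀ b ∈ l, a * b = b * a) (hind : Ind l) :
    IsPGroup 2 (closure {q | q ∈ l}) ∧ 2 ^ l.length ∣ Nat.card (closure {q | q ∈ l}) := by
  induction l with
  | nil =>
    have : closure {q : G | q ∈ ([] : List G)} = ⊥ := by
      rw [closure_eq_bot_iff]; intro q hq; simp at hq
    rw [this]
    exact ⟨IsPGroup.of_bot, by simp⟩
  | cons q l ih =>
    obtain ⟨ih1, ih2⟩ := ih (fun a ha => hsq a (List.mem_cons_of_mem _ ha))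
      (fun a ha b hb => hcomm a (List.mem_cons_of_mem _ ha) b (List.mem_cons_of_mem _ hb)) hind.2
    have heq : closure {a : G | a ∈ q :: l} = closure {a | a ∈ l} ⊔ zpowers q := by
      rw [zpowers_eq_closure, ← Subgroup.closure_union]
      congr 1
      ext a
      simp
    have hq2 : q ^ 2 = 1 := by rw [pow_two]; exact hsq q (List.mem_cons_self ..)
    have hqn : zpowers q ≤ normalizer ((closure {a | a ∈ l} : Subgroup G) : Set G) := by
      rw [zpowers_le]
      refine centralizer_le_normalizer _ ?_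
      have : q ∈ centralizer {a | a ∈ l} := by
        rw [mem_centralizer_iff]
        intro a ha
        exact hcomm a (List.mem_cons_of_mem _ ha) q (List.mem_cons_self ..)
      have hle : closure {a | a ∈ l} ≤ centralizer {q} := by
        rw [closure_le]
        intro a ha
        exact mem_centralizer_singleton_iff.mpr
          (hcomm a (List.mem_cons_of_mem _ ha) q (List.mem_cons_self ..))
      rw [mem_centralizer_iff]
      intro a ha
      exact mem_centralizer_singleton_iff.mp (hle ha)
    have hP : IsPGroup 2 (closure {a : G | a ∈ q :: l}) := by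
      rw [heq]
      exact IsPGroup.to_sup_of_normal_left' ih1 (isPGroup_zpowers hq2) hqn
    have hlt : closure {a : G | a ∈ l} < closure {a | a ∈ q :: l} := by
      refine lt_of_le_of_ne (closure_mono fun a ha => List.mem_cons_of_mem _ ha) fun he => ?_
      obtain ⟨S, hS, hqS⟩ := hind.1
      apply hqS
      have h1 : q ∈ closure {a | a ∈ l} := by
        rw [he]; exact subset_closure (List.mem_cons_self ..)
      exact (closure_le S).mpr hS h1
    exact ⟨hP, pow_succ_dvd_of_lt hP hlt ih2⟩

/-- Order of the product of two subgroups meeting trivially, one normalizing the other. -/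
theorem card_mul_dvd {G : Type*} [Group G] [Finite G] (Q M : Subgroup G)
    (hn : M ≤ normalizer (Q : Set G)) (hi : Q ⊓ M = ⊥) :
    Nat.card Q * Nat.card M ∣ Nat.card (Q ⊔ M : Subgroup G) := by
  have : (Q.subgroupOf (Q ⊔ M)).Normal := by
    rw [normal_subgroupOf_iff_le_normalizer le_sup_left]
    exact sup_le le_normalizer hn
  have h1 : Nat.card (Q ⊔ M : Subgroup G) = Nat.card Q * Q.relIndex (Q ⊔ M) := by
    have := (Q.subgroupOf (Q ⊔ M)).card_mul_index
    rw [← this]
    congr 1
    exact Nat.card_congr (subgroupOfEquivOfLe (le_sup_left : Q ≤ Q ⊔ M)).toEquiv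
  rw [h1]
  refine Nat.mul_dvd_mul dvd_rfl ?_
  have h2 : Q.relIndex M ∣ Q.relIndex (Q ⊔ M) := by
    have h3 : (Q.subgroupOf (Q ⊔ M)).relIndex (M.subgroupOf (Q ⊔ M)) ∣
        (Q.subgroupOf (Q ⊔ M)).index := relIndex_dvd_index_of_normal _ _
    rwa [relIndex_subgroupOf le_sup_right] at h3
  have h4 : Q.relIndex M = Nat.card M := by
    rw [← inf_relIndex_right, hi, relIndex_bot_left]
  rwa [h4] at h2

theorem evG_mem_of {G : Type*} [Group G] (K : Subgroup G) {L : List G} {w : List ℕ}
    (h : ∀ i ∈ w, getG L i ∈ K) : evG L w ∈ K := by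
  induction w with
  | nil => exact K.one_mem
  | cons i w ih =>
    rw [evG_cons]
    exact K.mul_mem (h i (List.mem_cons_self ..)) (ih fun j hj => h j (List.mem_cons_of_mem _ hj))

theorem getG_mem_take {G : Type*} [Group G] {L : List G} {m k : ℕ} (hm : m ≤ L.length)
    (hk : k < m) : getG L k ∈ L.take m := by
  have h1 : k < L.length := hk.trans_le hm
  have h2 : getG L k = L[k] := by
    unfold getG
    rw [List.getD_eq_getElem?_getD, List.getElem?_eq_getElem h1, Option.getD_some]
  rw [h2, List.mem_take_iff_getElem]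
  exact ⟨k, by rw [lt_min_iff]; exact ⟨hk, h1⟩, rfl⟩

/-- an element normalizes a subgroup generated by the first `m` elements of a list, if its conjugates
are given by words. -/
theorem mem_normalizer_of_words {G : Type*} [Group G] [Finite G] (L : List G) {m : ℕ}
    (hm : m ≤ L.length) (i j : ℕ) (hij : getG L i * getG L j = 1) (W : List (List ℕ))
    (hW : ∀ k < m, evG L [i, k, j] = evG L (W.getD k []))
    (hW' : ∀ k < m, ∀ a ∈ W.getD k [], a < m) :
    getG L i ∈ normalizer ((closure {q | q ∈ L.take m} : Subgroup G) : Set G) := by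
  have hj : (getG L i)⁻¹ = getG L j := inv_eq_of_mul_eq_one_right hij
  have hgen : ∀ k < m, getG L k ∈ closure {q | q ∈ L.take m} := fun k hk =>
    subset_closure (getG_mem_take hm hk)
  apply Subgroup.mem_normalizer_fintype
  intro n hn
  have hle : closure {q | q ∈ L.take m} ≤
      (closure {q | q ∈ L.take m}).comap (MulAut.conj (getG L i)).toMonoidHom := by
    rw [closure_le]
    intro q hq
    obtain ⟨k, hk, rfl⟩ := List.mem_take_iff_getElem.mp (show q ∈ L.take m from hq)
    rw [lt_min_iff] at hk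
    have h2 : getG L k = L[k]'hk.2 := by
      unfold getG
      rw [List.getD_eq_getElem?_getD, List.getElem?_eq_getElem hk.2, Option.getD_some]
    change getG L i * L[k] * (getG L i)⁻¹ ∈ closure {q | q ∈ L.take m}
    rw [hj, ← h2]
    have e := hW k hk.1
    rw [evG_cons, evG_cons, evG_cons, evG_nil, mul_one, ← mul_assoc] at e
    rw [e]
    exact evG_mem_of _ fun a ha => hgen a (hW' k hk.1 a ha)
  exact hle hn

theorem closure_pair_le {G : Type*} [Group G] {K : Subgroup G} {a b : G} (ha : a ∈ K)
    (hb : b ∈ K) : closure {a, b} ≤ K := by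
  rw [closure_le]
  rintro c (rfl | rfl)
  · exact ha
  · exact hb

/-- A 2-subgroup of order divisible by `2^k` normalized by a nontrivial image of a simple group
whose order is not a power of 2. -/
theorem card_mul_dvd_of_simple {G M : Type*} [Group G] [Finite G] [Group M] [IsSimpleGroup M]
    (Q : Subgroup G) (hQ : IsPGroup 2 Q) (phi : M →* G) (hne : ∃ a, phi a ≠ 1)
    (hM : ¬ IsPGroup 2 M) (hn : phi.range ≤ normalizer (Q : Set G)) :
    Nat.card Q * Nat.card M ∣ Nat.card (Q ⊔ phi.range : Subgroup G) := by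
  have hker : phi.ker = ⊥ := by
    rcases (inferInstance : phi.ker.Normal).eq_bot_or_eq_top with h | h
    · exact h
    · exfalso
      obtain ⟨a, ha⟩ := hne
      apply ha
      have : a ∈ phi.ker := by rw [h]; trivial
      exact this
  have hinj : Function.Injective phi := (MonoidHom.ker_eq_bot_iff phi).mp hker
  have hcard : Nat.card M = Nat.card phi.range :=
    Nat.card_congr (MonoidHom.ofInjective hinj).toEquiv
  rw [hcard]
  refine card_mul_dvd Q phi.range hn ?_
  have hnorm : (Q.comap phi).Normal := by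
    constructor
    intro a ha g
    have h1 : phi g ∈ normalizer (Q : Set G) := hn ⟨g, rfl⟩
    change phi (g * a * g⁻¹) ∈ Q
    rw [map_mul, map_mul, map_inv]
    exact (mem_normalizer_iff.mp h1 (phi a)).mp ha
  rcases hnorm.eq_bot_or_eq_top with h | h
  · rw [eq_bot_iff]
    rintro q ⟨hq1, a, rfl⟩
    have : a ∈ Q.comap phi := hq1
    rw [h, mem_bot] at this
    rw [this, map_one]; exact one_mem _
  · exfalso
    apply hM
    have hle : phi.range ≤ Q := by
      rintro _ ⟨a, rfl⟩
      have : a ∈ Q.comap phi := by rw [h]; trivial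
      exact this
    have h2 : IsPGroup 2 phi.range := hQ.to_le hle
    exact h2.of_equiv (MonoidHom.ofInjective hinj).symm

end Cfsg.Agent.J4.GroupLemmas
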