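import Cfsg.Agent.J4.Blocks

/-!
# Coverage checks and the index bound
-/

set_option autoImplicit false

open Cfsg

noncomputable section

namespace Cfsg.Agent.J4.Index

open Cfsg.Agent.J4.M24Hom Cfsg.Agent.J4.Packed Cfsg.Agent.J4.Engine Cfsg.Agent.J4.Check
  Cfsg.Agent.J4.Blocks

/-- fetch an element of the stabiliser of node `j` -/
def fetchN (TB : Tab) (m j id : ℕ) (k : ℕ → Bool) : Bool :=
  band (Nat.ble (Nat.succ id) m) (onLeaf (TB.get id) fun kd i k' p _ _ _ =>
    band (Nat.beq kd (nat_lit 1)) (band (Nat.beq i j) (band (Nat.beq k' j) (force p k))))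

/-- fetch from a table -/
def fetchT (T : PT) (m id : ℕ) (k : ℕ → Bool) : Bool :=
  band (Nat.ble (Nat.succ id) m) (force (T.get1 id) k)

theorem fetchT_sound {T : PT} {m : ℕ} {S : Subgroup M24} (h : ∀ m' < m, Good T S m') :
    ∀ id kk, fetchT T m id kk = true → ∃ p g, g ∈ S ∧ Rep p g ∧ kk p = true := by
  intro id kk hk
  unfold fetchT at hk
  rw [band_iff, force_eq] at hk
  obtain ⟨g, hg, rg, _⟩ := h _ (Nat.le_of_ble_eq_true hk.1)
  exact ⟨_, g, hg, rg, hk.2⟩

/-- one chunk of a coverage check: 28-bit digits `t + 2^12 t' + 2^24 mode` -/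
def covL (TB : Tab) (RT : PT) (mask NP NA m j u0 u1 u2 : ℕ) (n : ℕ) : ℕ → ℕ → (ℕ → Bool) → Bool :=
  @Nat.rec (fun _ => ℕ → ℕ → (ℕ → Bool) → Bool) (fun _ done k => k done)
    (fun _ ih s done k =>
      force (Nat.land s (nat_lit 4095)) fun t =>
      force (Nat.land (Nat.shiftRight s (nat_lit 12)) (nat_lit 4095)) fun t' =>
      band (Nat.ble (Nat.succ t) NP)
      (band (nsel (Nat.land (Nat.shiftRight s (nat_lit 24)) (nat_lit 7))
        (band (Nat.beq (Nat.land (Nat.shiftRight done t') (nat_lit 1)) (nat_lit 1))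
          (kchk mask (pmul (pmul (RT.get1 t') u0) (RT.get2 t))))
        (fun m1 => nsel m1
          (band (Nat.beq (Nat.land (Nat.shiftRight done t') (nat_lit 1)) (nat_lit 1))
            (kchk mask (pmul (pmul (RT.get1 t') u1) (RT.get2 t))))
          (fun m2 => nsel m2
            (band (Nat.beq (Nat.land (Nat.shiftRight done t') (nat_lit 1)) (nat_lit 1))
              (kchk mask (pmul (pmul (RT.get1 t') u2) (RT.get2 t))))
            (fun m3 => nsel m3
              (band (Nat.ble (Nat.succ t') m) (onLeaf (TB.get t') fun kd i k' p _ _ _ =>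
                band (Nat.beq kd (nat_lit 0)) (band (Nat.beq i j) (band (Nat.ble (Nat.succ k') NA)
                  (kchk mask (pmul (RT.get1 t) p))))))
              (fun _ =>
                (band (Nat.ble (Nat.succ t') m) (onLeaf (TB.get t') fun kd i k' _ _ q _ =>
                  band (Nat.beq kd (nat_lit 0)) (band (Nat.beq k' j)
                    (band (Nat.ble (Nat.succ i) NA)
                      (kchk mask (pmul (RT.get1 t) q)))))))))))
        (force (Nat.lor done (Nat.shiftLeft (nat_lit 1) t)) fun done' =>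
          force (Nat.shiftRight s (nat_lit 28)) fun s' => ih s' done' k))) n

/-- all chunks -/
def covC (TB : Tab) (RT : PT) (mask NP NA m j u0 u1 u2 : ℕ) (L : DL) : ℕ → (ℕ → Bool) → Bool :=
  @DL.rec (fun _ => ℕ → (ℕ → Bool) → Bool) (fun done k => k done)
    (fun n s _ ih done k => covL TB RT mask NP NA m j u0 u1 u2 n s done fun done' => ih done' k) L

/-- coverage check of a node -/
def covN (TB : Tab) (RT : PT) (mask NP NA m j g0 g1 g2 : ℕ) (L : DL) : Bool :=
  fetchN TB m j g0 fun u0 => fetchN TB m j g1 fun u1 => fetchN TB m j g2 fun u2 =>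
    covC TB RT mask NP NA m j u0 u1 u2 L (nat_lit 0) fun done =>
      Nat.beq done (Nat.sub (Nat.shiftLeft (nat_lit 1) NP) (nat_lit 1))

section sem

variable {G : Type*} [Group G] {φ : M24 →* G} {τ : G} {B : Subgroup G} {c : ℕ → G}

/-- the stabiliser of a coset in M24 -/
def Stb (φ : M24 →* G) (B : Subgroup G) (x : G) : Subgroup M24 :=
  B.comap ((MulAut.conj x).toMonoidHom.comp φ)

theorem mem_Stb {x : G} {u : M24} : u ∈ Stb φ B x ↔ x * φ u * x⁻¹ ∈ B := Iff.rfl

theorem fetchN_sound {TB : Tab} {N m : ℕ} (hT : ∀ m' < m, Holds φ τ B c N (TB.get m')) (j : ℕ) :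
    ∀ id kk, fetchN TB m j id kk = true →
      ∃ p g, g ∈ Stb φ B (c j) ∧ Rep p g ∧ kk p = true := by
  intro id kk h
  unfold fetchN at h
  rw [band_iff] at h
  obtain ⟨h1, h2⟩ := h
  obtain ⟨kd, i, k, p, pi, q, qi, he, hh⟩ := onLeaf_iff h2
  simp only [band_iff, force_eq] at hh
  obtain ⟨h3, h4, h5, h6⟩ := hh
  obtain ⟨_, _, P, rP, _, hP, _⟩ := hT _ (Nat.le_of_ble_eq_true h1) _ _ _ _ _ _ _ he
  have h7 := hP (Nat.eq_of_beq_eq_true h3)
  have h8 : i = j := Nat.eq_of_beq_eq_true h4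
  have h9 : k = j := Nat.eq_of_beq_eq_true h5
  subst h8 h9
  refine ⟨p, P, ?_, rP, h6⟩
  rw [mem_Stb]
  have := B.inv_mem h7
  have h10 : (c k * (c k * φ P)⁻¹)⁻¹ = c k * φ P * (c k)⁻¹ := by group
  rwa [h10] at this

/-- the images under `τ` of the cosets over the `t`-th partition are known -/
def Cov (φ : M24 →* G) (τ : G) (B : Subgroup G) (c : ℕ → G) (N : ℕ) (RT : PT) (j t : ℕ) : Prop :=
  ∀ A, Rep (RT.get2 t) A → ∃ k < N, ∃ b : M24, c j * φ A * τ * (c k * φ b)⁻¹ ∈ B

theorem cov_child {N mask : ℕ} {RT : PT} {NP j t t' u : ℕ} (hK : KOK φ τ mask)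
    (hRT : ∀ t < NP, Good RT ⊤ t) (ht' : t' < NP)
    (hu : ∃ U ∈ Stb φ B (c j), Rep u U) (hc : Cov φ τ B c N RT j t')
    (h : kchk mask (pmul (pmul (RT.get1 t') u) (RT.get2 t)) = true) : Cov φ τ B c N RT j t := by
  intro A hA
  obtain ⟨U, hU, rU⟩ := hu
  obtain ⟨g', _, rg, rgi⟩ := hRT t' ht'
  have rw1 := rep_mul (rep_mul rg rU) hA
  have h1 := hK _ _ rw1 h
  obtain ⟨k, hk, b, hb⟩ := hc _ rgi
  refine ⟨k, hk, b * (g' * U * A), ?_⟩
  have h2 : c j * φ A * τ * (c k * φ (b * (g' * U * A)))⁻¹ =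
      (c j * φ U * (c j)⁻¹)⁻¹ * (c j * φ g'⁻¹ * τ * (c k * φ b)⁻¹) := by
    have h3 : c j * φ A * τ = (c j * φ U * (c j)⁻¹)⁻¹ * (c j * φ g'⁻¹ * τ * φ (g' * U * A)) := by
      have h4 : c j * φ g'⁻¹ * τ * φ (g' * U * A) = c j * φ g'⁻¹ * φ (g' * U * A) * τ := by
        rw [mul_assoc (c j * φ g'⁻¹), h1.eq, ← mul_assoc]
      rw [h4, map_mul, map_mul, map_inv]
      group
    rw [h3, map_mul φ b]
    group
  rw [h2]
  exact B.mul_mem (B.inv_mem hU) hb

theorem cov_root {N mask : ℕ} {RT : PT} {NP j k t p : ℕ} (hK : KOK φ τ mask)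
    (hRT : ∀ t < NP, Good RT ⊤ t) (ht : t < NP) (hk : k < N) {P Q : M24} (rP : Rep p P)
    (hE : c j * φ P * τ * (c k * φ Q)⁻¹ ∈ B)
    (h : kchk mask (pmul (RT.get1 t) p) = true) : Cov φ τ B c N RT j t := by
  intro A hA
  obtain ⟨g, _, rg, rgi⟩ := hRT t ht
  have h0 : A = g⁻¹ := rep_inj hA rgi
  subst h0
  have h1 := hK _ _ (rep_mul rg rP) h
  refine ⟨k, hk, Q * (g * P)⁻¹, ?_⟩
  have h2 : c j * φ g⁻¹ * τ * (c k * φ (Q * (g * P)⁻¹))⁻¹ = c j * φ P * τ * (c k * φ Q)⁻¹ := by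
    have h3 : c j * φ g⁻¹ * τ = c j * φ P * τ * (φ (g * P))⁻¹ := by
      have h4 : τ * (φ (g * P))⁻¹ = (φ (g * P))⁻¹ * τ := (h1.inv_right).eq
      rw [mul_assoc (c j * φ P), h4, map_mul, map_inv]
      group
    rw [h3, map_mul φ Q, map_inv φ (g * P)]
    group
  rwa [h2]

theorem testBit_set {done t u : ℕ} (h : (Nat.lor done (Nat.shiftLeft 1 t)).testBit u = true) :
    u = t ∨ done.testBit u = true := by
  have h1 : Nat.lor done (Nat.shiftLeft 1 t) = done ||| 1 <<< t := rfl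
  rw [h1, Nat.one_shiftLeft, Nat.testBit_or, Nat.testBit_two_pow, Bool.or_eq_true] at h
  rcases h with h | h
  · exact Or.inr h
  · left; simpa using (of_decide_eq_true h).symm

theorem covL_sound {TB : Tab} {N NA m mask : ℕ} {RT : PT} {NP j u0 u1 u2 : ℕ}
    (hT : ∀ m' < m, Holds φ τ B c N (TB.get m')) (hτ : τ * τ = 1) (hK : KOK φ τ mask)
    (hRT : ∀ t < NP, Good RT ⊤ t) (h0 : ∃ U ∈ Stb φ B (c j), Rep u0 U)
    (h1 : ∃ U ∈ Stb φ B (c j), Rep u1 U) (h2 : ∃ U ∈ Stb φ B (c j), Rep u2 U) (n : ℕ) :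
    ∀ s done k, (∀ t, done.testBit t = true → t < NP ∧ Cov φ τ B c NA RT j t) →
      covL TB RT mask NP NA m j u0 u1 u2 n s done k = true →
      ∃ done', (∀ t, done'.testBit t = true → t < NP ∧ Cov φ τ B c NA RT j t) ∧ k done' = true := by
  induction n with
  | zero => intro s done k h hk; exact ⟨done, h, hk⟩
  | succ n ih =>
    intro s done k hd h
    have e1 : covL TB RT mask NP NA m j u0 u1 u2 (n + 1) s done k =
      (force (Nat.land s (nat_lit 4095)) fun t =>
      force (Nat.land (Nat.shiftRight s (nat_lit 12)) (nat_lit 4095)) fun t' =>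
      band (Nat.ble (Nat.succ t) NP)
      (band (nsel (Nat.land (Nat.shiftRight s (nat_lit 24)) (nat_lit 7))
        (band (Nat.beq (Nat.land (Nat.shiftRight done t') (nat_lit 1)) (nat_lit 1))
          (kchk mask (pmul (pmul (RT.get1 t') u0) (RT.get2 t))))
        (fun m1 => nsel m1
          (band (Nat.beq (Nat.land (Nat.shiftRight done t') (nat_lit 1)) (nat_lit 1))
            (kchk mask (pmul (pmul (RT.get1 t') u1) (RT.get2 t))))
          (fun m2 => nsel m2
            (band (Nat.beq (Nat.land (Nat.shiftRight done t') (nat_lit 1)) (nat_lit 1))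
              (kchk mask (pmul (pmul (RT.get1 t') u2) (RT.get2 t))))
            (fun m3 => nsel m3
              (band (Nat.ble (Nat.succ t') m) (onLeaf (TB.get t') fun kd i k' p _ _ _ =>
                band (Nat.beq kd (nat_lit 0)) (band (Nat.beq i j) (band (Nat.ble (Nat.succ k') NA)
                  (kchk mask (pmul (RT.get1 t) p))))))
              (fun _ =>
                (band (Nat.ble (Nat.succ t') m) (onLeaf (TB.get t') fun kd i k' _ _ q _ =>
                  band (Nat.beq kd (nat_lit 0)) (band (Nat.beq k' j)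
                    (band (Nat.ble (Nat.succ i) NA)
                      (kchk mask (pmul (RT.get1 t) q)))))))))))
        (force (Nat.lor done (Nat.shiftLeft (nat_lit 1) t)) fun done' =>
          force (Nat.shiftRight s (nat_lit 28)) fun s' =>
            covL TB RT mask NP NA m j u0 u1 u2 n s' done' k))) := rfl
    rw [e1] at h
    simp only [force_eq, band_iff] at h
    obtain ⟨h3, h4, h5⟩ := h
    have ht : (Nat.land s 4095) < NP := Nat.le_of_ble_eq_true h3
    have hcov : Cov φ τ B c NA RT j (Nat.land s 4095) := by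
      generalize Nat.land (Nat.shiftRight s (nat_lit 24)) (nat_lit 7) = md at h4
      match md with
      | 0 =>
        rw [nsel_zero, band_iff] at h4
        obtain ⟨h6, h7⟩ := hd _ (testBit_of_land_one' h4.1)
        exact cov_child hK hRT h6 h0 h7 h4.2
      | 1 =>
        rw [show (1 : ℕ) = 0 + 1 from rfl, nsel_succ, nsel_zero, band_iff] at h4
        obtain ⟨h6, h7⟩ := hd _ (testBit_of_land_one' h4.1)
        exact cov_child hK hRT h6 h1 h7 h4.2
      | 2 =>
        rw [show (2 : ℕ) = 0 + 1 + 1 from rfl, nsel_succ, nsel_succ, nsel_zero, band_iff] at h4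
        obtain ⟨h6, h7⟩ := hd _ (testBit_of_land_one' h4.1)
        exact cov_child hK hRT h6 h2 h7 h4.2
      | 3 =>
        rw [show (3 : ℕ) = 0 + 1 + 1 + 1 from rfl, nsel_succ, nsel_succ, nsel_succ, nsel_zero,
          band_iff] at h4
        obtain ⟨h6, h7⟩ := h4
        obtain ⟨kd, i, k', p, pi, q, qi, he, hh⟩ := onLeaf_iff h7
        simp only [band_iff] at hh
        obtain ⟨h8, h9, hna, h10⟩ := hh
        obtain ⟨_, _, P, rP, _, _, hP⟩ := hT _ (Nat.le_of_ble_eq_true h6) _ _ _ _ _ _ _ he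
        obtain ⟨Q, rQ, _, hE⟩ := hP (Nat.eq_of_beq_eq_true h8)
        have h11 : i = j := Nat.eq_of_beq_eq_true h9
        subst h11
        exact cov_root hK hRT ht (Nat.le_of_ble_eq_true hna) rP hE h10
      | (md + 4) =>
        rw [show md + 4 = md + 1 + 1 + 1 + 1 from rfl, nsel_succ, nsel_succ, nsel_succ, nsel_succ,
          band_iff] at h4
        obtain ⟨h6, h7⟩ := h4
        obtain ⟨kd, i, k', p, pi, q, qi, he, hh⟩ := onLeaf_iff h7
        simp only [band_iff] at hh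
        obtain ⟨h8, h9, hna, h10⟩ := hh
        obtain ⟨_, _, P, rP, _, _, hP⟩ := hT _ (Nat.le_of_ble_eq_true h6) _ _ _ _ _ _ _ he
        obtain ⟨Q, rQ, _, hE⟩ := hP (Nat.eq_of_beq_eq_true h8)
        have h11 : k' = j := Nat.eq_of_beq_eq_true h9
        subst h11
        have hti : τ⁻¹ = τ := inv_eq_of_mul_eq_one_right hτ
        have hE' : c k' * φ Q * τ * (c i * φ P)⁻¹ ∈ B := by
          have h12 := B.inv_mem hE
          have h13 : (c i * φ P * τ * (c k' * φ Q)⁻¹)⁻¹ = c k' * φ Q * τ * (c i * φ P)⁻¹ := by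
            rw [mul_inv_rev, inv_inv, mul_inv_rev, hti]
            group
          rwa [h13] at h12
        exact cov_root hK hRT ht (Nat.le_of_ble_eq_true hna) rQ hE' h10
    refine ih _ _ _ ?_ h5
    intro t hbt
    rcases testBit_set hbt with rfl | hbt
    · exact ⟨ht, hcov⟩
    · exact hd t hbt

theorem covC_sound {TB : Tab} {N NA m mask : ℕ} {RT : PT} {NP j u0 u1 u2 : ℕ}
    (hT : ∀ m' < m, Holds φ τ B c N (TB.get m')) (hτ : τ * τ = 1) (hK : KOK φ τ mask)
    (hRT : ∀ t < NP, Good RT ⊤ t) (h0 : ∃ U ∈ Stb φ B (c j), Rep u0 U)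
    (h1 : ∃ U ∈ Stb φ B (c j), Rep u1 U) (h2 : ∃ U ∈ Stb φ B (c j), Rep u2 U) (L : DL) :
    ∀ done k, (∀ t, done.testBit t = true → t < NP ∧ Cov φ τ B c NA RT j t) →
      covC TB RT mask NP NA m j u0 u1 u2 L done k = true →
      ∃ done', (∀ t, done'.testBit t = true → t < NP ∧ Cov φ τ B c NA RT j t) ∧ k done' = true := by
  induction L with
  | nil => intro done k h hk; exact ⟨done, h, hk⟩
  | cons n s r ih =>
    intro done k hd h
    have e1 : covC TB RT mask NP NA m j u0 u1 u2 (.cons n s r) done k =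
      covL TB RT mask NP NA m j u0 u1 u2 n s done fun done' =>
        covC TB RT mask NP NA m j u0 u1 u2 r done' k := rfl
    rw [e1] at h
    obtain ⟨done', hd', h'⟩ := covL_sound hT hτ hK hRT h0 h1 h2 n _ _ _ hd h
    exact ih _ _ hd' h'

theorem covN_sound {TB : Tab} {N NA m mask : ℕ} {RT : PT} {NP j g0 g1 g2 : ℕ}
    (hT : ∀ m' < m, Holds φ τ B c N (TB.get m')) (hτ : τ * τ = 1) (hK : KOK φ τ mask)
    (hRT : ∀ t < NP, Good RT ⊤ t) (L : DL) (h : covN TB RT mask NP NA m j g0 g1 g2 L = true) :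
    ∀ t < NP, Cov φ τ B c NA RT j t := by
  unfold covN at h
  obtain ⟨u0, U0, hU0, r0, ha⟩ := fetchN_sound hT j _ _ h
  obtain ⟨u1, U1, hU1, r1, hb⟩ := fetchN_sound hT j _ _ ha
  obtain ⟨u2, U2, hU2, r2, hc⟩ := fetchN_sound hT j _ _ hb
  obtain ⟨done', hd', h'⟩ := covC_sound hT hτ hK hRT ⟨U0, hU0, r0⟩ ⟨U1, hU1, r1⟩ ⟨U2, hU2, r2⟩
    L 0 _ (by intro t ht; simp at ht) hc
  intro t ht
  have h1 : done' = 1 <<< NP - 1 := Nat.eq_of_beq_eq_true h'
  refine (hd' t ?_).2
  rw [h1, Nat.one_shiftLeft, Nat.testBit_two_pow_sub_one]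
  simpa using ht

/-- the index bound -/
theorem index_le {N NP : ℕ} {RT : PT} {K : Subgroup M24} (hτ : τ * τ = 1) (hN : 0 < N)
    (hc0 : c 0 = 1) (hB : φ.range ≤ B)
    (hgen : Subgroup.closure (insert τ (Set.range φ)) = ⊤)
    (hcov : ∀ j < N, j ≠ 0 → ∀ t < NP, Cov φ τ B c N RT j t)
    (h01 : ∃ k < N, ∃ b : M24, τ * (c k * φ b)⁻¹ ∈ B)
    (hcos : ∀ g : M24, ∃ t < NP, ∃ A w : M24, Rep (RT.get2 t) A ∧ w ∈ K ∧ g = A * w)
    (hKc : ∀ w ∈ K, Commute τ (φ w)) (ib : ℕ → ℕ)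
    (hib : ∀ j < N, (Stb φ B (c j)).index ≤ ib j) :
    B.index ≤ ∑ j ∈ Finset.range N, ib j ∧ B.index ≠ 0 := by
  classical
  have hti : τ⁻¹ = τ := inv_eq_of_mul_eq_one_right hτ
  -- closure
  have hstep : ∀ x : G, (∃ j < N, ∃ g : M24, x * (c j * φ g)⁻¹ ∈ B) →
      ∃ j < N, ∃ g : M24, x * τ * (c j * φ g)⁻¹ ∈ B := by
    rintro x ⟨j, hj, g, hx⟩
    by_cases hj0 : j = 0
    · subst hj0
      obtain ⟨k, hk, b, hb⟩ := h01
      rw [hc0, one_mul] at hx
      have hx' : x ∈ B := by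
        have h12 := B.mul_mem hx (hB ⟨g, rfl⟩)
        rwa [inv_mul_cancel_right] at h12
      refine ⟨k, hk, b, ?_⟩
      rw [mul_assoc]
      exact B.mul_mem hx' hb
    · obtain ⟨t, ht, A, w, rA, hw, rfl⟩ := hcos g
      obtain ⟨k, hk, b, hb⟩ := hcov j hj hj0 t ht A rA
      refine ⟨k, hk, b * w, ?_⟩
      have h1 : x * τ * (c j * φ (A * w) * τ)⁻¹ ∈ B := by
        have : x * τ * (c j * φ (A * w) * τ)⁻¹ = x * (c j * φ (A * w))⁻¹ := by group
        rwa [this]
      refine SInv.trans_aux h1 ?_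
      have h2 : c j * φ (A * w) * τ = c j * φ A * τ * φ w := by
        rw [map_mul, mul_assoc (c j * φ A), (hKc w hw).eq]; group
      rw [h2, map_mul]
      have h3 : c j * φ A * τ * φ w * (c k * (φ b * φ w))⁻¹ = c j * φ A * τ * (c k * φ b)⁻¹ := by
        group
      rwa [h3]
  have hmul : ∀ (h : M24) (x : G), (∃ j < N, ∃ g : M24, x * (c j * φ g)⁻¹ ∈ B) →
      ∃ j < N, ∃ g : M24, x * φ h * (c j * φ g)⁻¹ ∈ B := by
    rintro h x ⟨j, hj, g, hx⟩
    refine ⟨j, hj, g * h, ?_⟩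
    have : x * φ h * (c j * φ (g * h))⁻¹ = x * (c j * φ g)⁻¹ := by rw [map_mul]; group
    rwa [this]
  have hall : ∀ x : G, ∃ j < N, ∃ g : M24, x * (c j * φ g)⁻¹ ∈ B := by
    intro x
    have hx : x ∈ Subgroup.closure (insert τ (Set.range φ)) := by rw [hgen]; exact Subgroup.mem_top _
    induction hx using Subgroup.closure_induction_right with
    | one => exact ⟨0, hN, 1, by simp [hc0, B.one_mem]⟩
    | mul_right x hx y hy ih =>
      rcases hy with rfl | ⟨h, rfl⟩
      · exact hstep _ ih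
      · exact hmul h _ ih
    | mul_inv_cancel x hx y hy ih =>
      rcases hy with rfl | ⟨h, rfl⟩
      · rw [hti]; exact hstep _ ih
      · rw [← map_inv]; exact hmul _ _ ih
  -- the surjection
  let F : (Σ j : Fin N, M24 ⧸ Stb φ B (c j)) → G ⧸ B := fun x =>
    Quotient.liftOn' x.2 (fun g => ((φ g * (c x.1)⁻¹ : G) : G ⧸ B)) (by
      intro g g' hgg
      rw [QuotientGroup.leftRel_apply, mem_Stb] at hgg
      rw [QuotientGroup.eq]
      have : (φ g * (c x.1)⁻¹)⁻¹ * (φ g' * (c x.1)⁻¹) = c x.1 * φ (g⁻¹ * g') * (c x.1)⁻¹ := by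
        rw [map_mul, map_inv]; group
      rwa [this])
  have hF : Function.Surjective F := by
    intro y
    obtain ⟨x, rfl⟩ := QuotientGroup.mk_surjective y
    obtain ⟨j, hj, g, hx⟩ := hall x⁻¹
    refine ⟨⟨⟨j, hj⟩, ((g⁻¹ : M24) : M24 ⧸ Stb φ B (c j))⟩, ?_⟩
    change ((φ g⁻¹ * (c j)⁻¹ : G) : G ⧸ B) = (x : G ⧸ B)
    rw [QuotientGroup.eq]
    have := B.inv_mem hx
    have h1 : (x⁻¹ * (c j * φ g)⁻¹)⁻¹ = (φ g⁻¹ * (c j)⁻¹)⁻¹ * x := by rw [map_inv]; group
    rwa [h1] at this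
  have hfin : Finite (G ⧸ B) := Finite.of_surjective F hF
  constructor
  · calc B.index = Nat.card (G ⧸ B) := rfl
      _ ≤ Nat.card (Σ j : Fin N, M24 ⧸ Stb φ B (c j)) := Nat.card_le_card_of_surjective F hF
      _ = ∑ j : Fin N, Nat.card (M24 ⧸ Stb φ B (c j)) := Nat.card_sigma
      _ ≤ ∑ j : Fin N, ib j := Finset.sum_le_sum fun j _ => hib j j.2
      _ = ∑ j ∈ Finset.range N, ib j := (Finset.sum_range ib).symm
  · exact Nat.card_pos.ne'

/-- index bound from an order bound -/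
theorem index_le_of_card {S : Subgroup M24} {s n : ℕ} (hs : s ≤ Nat.card S)
    (hn : 244823040 ≤ n * s) : S.index ≤ n := by
  have hM : Nat.card M24 = 244823040 := Cfsg.Agent.SporadicA.M24Trans.card_M24
  have h1 := S.card_mul_index
  rw [hM] at h1
  by_contra hlt
  push Not at hlt
  have hs0 : 0 < s := by
    rcases Nat.eq_zero_or_pos s with h | h
    · subst h; simp at hn
    · exact h
  have h2 : n * s < S.index * Nat.card S :=
    calc n * s < S.index * s := Nat.mul_lt_mul_of_pos_right hlt hs0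
      _ ≤ S.index * Nat.card S := Nat.mul_le_mul_left _ hs
  rw [mul_comm S.index] at h2
  omega

end sem

end Cfsg.Agent.J4.Index
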