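import Cfsg.Agent.J4.Dvd

/-!
# Order of the presented group J4 and index of a subgroup from the two upper bounds
-/

set_option autoImplicit false

namespace Cfsg.Agent.J4.IndexOf

open Cfsg.Agent.J4.Rep112

theorem arith {a b n A B N : ℕ} (hab : a * b = n) (hAB : A * B = N) (hA : a ≤ A) (hB : b ≤ B)
    (hN : N ≤ n) (hA0 : 0 < A) (hB0 : 0 < B) : a = A ∧ b = B ∧ n = N := by
  have h1 : a * b ≤ A * B := Nat.mul_le_mul hA hB
  have h2 : a * b = A * B := by omega
  have h3 : a = A := by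
    by_contra hne
    have h4 : a < A := lt_of_le_of_ne hA hne
    have h5 : a * b ≤ a * B := Nat.mul_le_mul_left _ hB
    have h6 : a * B < A * B := Nat.mul_lt_mul_of_pos_right h4 hB0
    omega
  subst h3
  exact ⟨rfl, Nat.eq_of_mul_eq_mul_left hA0 h2, by omega⟩

/-- The two upper bounds `|G : H| ≤ 173067389`, `|H| ≤ 2 ^ 11 * |M24|` and the lower bound from the
representation give the exact values. -/
theorem exact_of_bounds (H : Subgroup Cfsg.Spor.J4) (hi0 : H.index ≠ 0)
    (hi : H.index ≤ 173067389) (hf : Finite H) (hc : Nat.card H ≤ 2 ^ 11 * 244823040) :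
    Finite Cfsg.Spor.J4 ∧ Nat.card Cfsg.Spor.J4 = 86775571046077562880 ∧
      H.index = 173067389 ∧ Nat.card H = 2 ^ 11 * 244823040 := by
  have hH : Nat.card H ≠ 0 := Nat.card_ne_zero.mpr ⟨⟨1⟩, hf⟩
  have hmul : Nat.card H * H.index = Nat.card Cfsg.Spor.J4 := Subgroup.card_mul_index H
  have hG0 : Nat.card Cfsg.Spor.J4 ≠ 0 := by
    rw [← hmul]; exact Nat.mul_ne_zero hH hi0
  have hfin : Finite Cfsg.Spor.J4 := Nat.finite_of_card_ne_zero hG0
  have hdvd : 86775571046077562880 ∣ Nat.card Cfsg.Spor.J4 :=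
    Cfsg.Agent.J4.Dvd.dvd.trans (Subgroup.card_range_dvd rho)
  have hle : 86775571046077562880 ≤ Nat.card Cfsg.Spor.J4 :=
    Nat.le_of_dvd (Nat.pos_of_ne_zero hG0) hdvd
  have h := arith hmul (show (2 ^ 11 * 244823040) * 173067389 = 86775571046077562880 by norm_num)
    hc hi hle (by norm_num) (by norm_num)
  exact ⟨hfin, h.2.2, h.2.1, h.1⟩

end Cfsg.Agent.J4.IndexOf
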