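import Cfsg.Agent.J4.NonConj

/-!
# The two classes of involutions of the presented group J4

`s` is the third generator `(y * w⁻¹ * t * w) ^ 3`, `w = (y * x) ^ 4 * y⁻¹ * x`, of the subgroup
`2^11 : M24` of the presented group `Spor.J4`; `EJ` is the subgroup generated by its conjugates under
`M24 = ⟨x, y⟩`.  The theorems assume that the representation `rho` is faithful (`inj`) and that the
order of the image is not divisible by `2^22`.
-/

set_option autoImplicit false

namespace Cfsg.Agent.J4.Invol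

open Cfsg Cfsg.Agent.Lib Cfsg.Agent.Lib.F2MatGroup Cfsg.Agent.J4.Rep112 Cfsg.Agent.J4.Lower
open Cfsg.Agent.J4.LowerData Cfsg.Agent.J4.GroupLemmas Cfsg.Agent.J4.Beta
open Cfsg.Agent.J4.ClassesData Cfsg.Agent.J4.M24Hom Cfsg.Agent.J4.ClassesAbs
open Cfsg.Agent.J4.Classes Cfsg.Agent.J4.NonConj Cfsg.Agent.J4.NonConjData

/-- the word `w` -/
def wJ : Cfsg.Spor.J4 := (y * x) ^ 4 * y⁻¹ * x

/-- the sextet involution -/
def s : Cfsg.Spor.J4 := (y * wJ⁻¹ * t * wJ) ^ 3

theorem rho_s : rho s = beta qs 1024 := by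
  have h : rho s = (yg * ((yg * xg) ^ 4 * yg⁻¹ * xg)⁻¹ * tg * ((yg * xg) ^ 4 * yg⁻¹ * xg)) ^ 3 := by
    simp only [s, wJ, map_pow, map_mul, map_inv, rho_x, rho_y, rho_t]
  rw [h]
  simp only [mul_inv_rev, inv_inv, ← inv_pow]
  apply Codes.eq (n := 112)
  · codes_tac
  · exact codes_ZD.1
  · decide +kernel

/-- the duad involution -/
def d : Cfsg.Spor.J4 := getG (runG slpC (runG slpQ gens)) 40

theorem rho_d : rho d = beta qs 5 := by
  have h := getG_map rho (runG slpC (runG slpQ gens)) 40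
  rw [← runG_map, ← runG_map] at h
  rw [← getG_40]
  exact h.symm

/-- the elementary abelian subgroup of order `2^11`: generated by the conjugates of `s` under M24 -/
def EJ : Subgroup Cfsg.Spor.J4 :=
  Subgroup.closure {e | ∃ g : M24, e = Pres.phi g * s * (Pres.phi g)⁻¹}

theorem psi_eq (g : M24) : psi g = rho (Pres.phi g) := rfl

section Abs

variable {G : Type*} [Group G] [Finite G] {R : Subgroup G} {l : List G} {phi : M24 →* G}

/-- the nonzero vectors are M24-conjugate to 1024 or to 5 -/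
theorem conj_arr (h : Hyp R l phi) (i : ℕ) (hi : i < 2047) :
    ∃ m : M24, beta l (tget arr 11 i) = phi m * beta l (if i < 1771 then 1024 else 5) * (phi m)⁻¹ := by
  have par_ok : ((List.range 2047).all fun i => Nat.beq i 0 || Nat.beq i 1771 ||
      (Nat.blt i 1771 == Nat.blt (tget par 11 i) 1771)) = true := by decide +kernel
  induction i using Nat.strong_induction_on with
  | _ i ih =>
    have h0 := orb_ok
    unfold orbOk at h0
    rw [Bool.and_eq_true, Bool.and_eq_true, List.all_eq_true] at h0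
    obtain ⟨⟨h1, -⟩, h2⟩ := h0
    rw [Bool.and_eq_true, Nat.beq_eq, Nat.beq_eq] at h2
    have h3 := h1 i (List.mem_range.mpr hi)
    rw [Bool.or_eq_true, Bool.or_eq_true, Nat.beq_eq, Nat.beq_eq, Bool.and_eq_true, Nat.blt_eq,
      Nat.beq_eq] at h3
    rw [List.all_eq_true] at par_ok
    have h4 := par_ok i (List.mem_range.mpr hi)
    rw [Bool.or_eq_true, Bool.or_eq_true, Nat.beq_eq, Nat.beq_eq, beq_iff_eq] at h4
    rcases h3 with (rfl | rfl) | ⟨h5, h6⟩
    · rw [h2.1]
      exact ⟨1, by simp⟩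
    · rw [h2.2]
      exact ⟨1, by simp⟩
    · rcases h4 with (rfl | rfl) | h4
      · omega
      · rw [h2.2]
        exact ⟨1, by simp⟩
      · have h7 : i < 1771 ↔ tget par 11 i < 1771 := by
          rw [← Nat.blt_eq, ← Nat.blt_eq, h4]
        obtain ⟨m, hm⟩ := ih _ h5 (by omega)
        have h8 : (if tget par 11 i < 1771 then 1024 else 5) = if i < 1771 then 1024 else 5 := by
          simp only [h7]
        rw [h8] at hm
        rw [h6]
        rcases hb : Nat.beq (tget lets 1 i) 0 with _ | _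
        · rw [cond_false, ← h.actY, hm]
          refine ⟨YM⁻¹ * m, ?_⟩
          rw [map_mul, map_inv]; group
        · rw [cond_true, ← h.actX, hm]
          refine ⟨XM * m, ?_⟩
          rw [map_mul]; group

theorem conj_beta_cases (h : Hyp R l phi) (v : ℕ) (hv : v < 2048) (h0 : v ≠ 0) :
    ∃ m : M24, beta l v = phi m * beta l 1024 * (phi m)⁻¹ ∨
      beta l v = phi m * beta l 5 * (phi m)⁻¹ := by
  have h1 := orb_ok
  unfold orbOk at h1
  rw [Bool.and_eq_true, Bool.and_eq_true, List.all_eq_true, List.all_eq_true] at h1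
  have h2 := h1.1.2 v (List.mem_range.mpr hv)
  rw [Bool.or_eq_true, Nat.beq_eq, Bool.and_eq_true, Nat.blt_eq, Nat.beq_eq] at h2
  rcases h2 with h2 | ⟨h2, h3⟩
  · exact absurd h2 h0
  · obtain ⟨m, hm⟩ := conj_arr h _ h2
    rw [h3] at hm
    refine ⟨m, ?_⟩
    split_ifs at hm
    · exact Or.inl hm
    · exact Or.inr hm

theorem mem_of_conj (h : Hyp R l phi) (S : Subgroup G)
    (hS : ∀ m : M24, phi m * beta l 1024 * (phi m)⁻¹ ∈ S) : ∀ q ∈ l, q ∈ S := by
  have hpos : ∀ k < 11, tget pos 11 (2 ^ k) < 1771 := by decide +kernel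
  have key : ∀ k < 11, beta l (2 ^ k) ∈ S := by
    intro k hk
    have h1 := orb_ok
    unfold orbOk at h1
    rw [Bool.and_eq_true, Bool.and_eq_true, List.all_eq_true, List.all_eq_true] at h1
    have hk2 : 2 ^ k < 2048 := Nat.pow_lt_pow_right (by norm_num) hk
    have h2 := h1.1.2 (2 ^ k) (List.mem_range.mpr hk2)
    rw [Bool.or_eq_true, Nat.beq_eq, Bool.and_eq_true, Nat.blt_eq, Nat.beq_eq] at h2
    rcases h2 with h2 | ⟨h2, h3⟩
    · exact absurd h2 (by positivity)
    · obtain ⟨m, hm⟩ := conj_arr h _ h2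
      rw [h3, if_pos (hpos k hk)] at hm
      rw [hm]
      exact hS m
  have aux : ∀ (l' : List G) (n : ℕ), (∀ k < l'.length, beta l' (2 ^ k) ∈ S) → ∀ q ∈ l', q ∈ S := by
    intro l' n hl q hq
    induction l' with
    | nil => simp at hq
    | cons a l' ih =>
      rcases List.mem_cons.mp hq with rfl | hq
      · have := hl 0 (by simp)
        rw [beta_cons] at this
        simpa [beta_zero] using this
      · refine ih (fun k hk => ?_) hq
        have := hl (k + 1) (by simpa using hk)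
        rw [beta_cons, pow_succ] at this
        have e1 : ¬ (2 ^ k * 2) % 2 = 1 := by omega
        have e2 : 2 ^ k * 2 / 2 = 2 ^ k := by omega
        rwa [if_neg e1, e2, one_mul] at this
  exact aux l 11 (by rw [h.len]; exact key)

end Abs

theorem map_EJ : EJ.map rho = Q := by
  apply le_antisymm
  · rw [Subgroup.map_le_iff_le_comap, EJ, Subgroup.closure_le]
    rintro _ ⟨g, rfl⟩
    change rho (Pres.phi g * s * (Pres.phi g)⁻¹) ∈ Q
    rw [map_mul, map_mul, map_inv, rho_s]
    have h1 : beta qs 1024 ∈ Q := beta_mem Q qs (fun a ha => Subgroup.subset_closure ha) _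
    exact (Subgroup.mem_normalizer_iff.mp (psi_norm ⟨g, rfl⟩) _).mp h1
  · refine (Subgroup.closure_le _).mpr ?_
    refine mem_of_conj hyp _ ?_
    intro m
    refine ⟨Pres.phi m * s * (Pres.phi m)⁻¹, Subgroup.subset_closure ⟨m, rfl⟩, ?_⟩
    rw [map_mul, map_mul, map_inv, rho_s]
    rfl

section Faithful

variable (inj : Function.Injective rho)

include inj

theorem mem_EJ_iff (e : Cfsg.Spor.J4) : e ∈ EJ ↔ rho e ∈ Q := by
  rw [← map_EJ]
  constructor
  · exact fun h => ⟨e, h, rfl⟩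
  · rintro ⟨e', h, he⟩
    rwa [← inj he]

theorem card_EJ : Nat.card EJ = 2 ^ 11 := by
  have h1 : Nat.card EJ = Nat.card Q := by
    rw [← map_EJ]
    exact Nat.card_congr (EJ.equivMapOfInjective rho inj).toEquiv
  rw [h1]
  have h2 : ∀ q : Q, ∃ v : Fin 2048, (q : GL (Fin 112) (ZMod 2)) = beta qs v := by
    intro q
    obtain ⟨v, hv, h⟩ := exists_beta hyp.sq hyp.comm q.2
    rw [qs_length] at hv
    exact ⟨⟨v, hv⟩, h⟩
  choose f hf using h2
  have hinj : Function.Injective f := fun a b h => Subtype.ext (by rw [hf, hf, h])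
  have h3 := Nat.card_le_card_of_injective f hinj
  rw [Nat.card_eq_fintype_card (α := Fin 2048), Fintype.card_fin] at h3
  exact le_antisymm h3 (Nat.le_of_dvd Nat.card_pos Q_props.2)

theorem EJ_sq (e : Cfsg.Spor.J4) (he : e ∈ EJ) : e * e = 1 := by
  have h1 := (mem_EJ_iff inj e).mp he
  obtain ⟨v, -, h⟩ := exists_beta hyp.sq hyp.comm h1
  apply inj
  rw [map_mul, map_one, h]
  exact beta_sq qs hyp.sq hyp.comm v

theorem EJ_comm (a b : Cfsg.Spor.J4) (ha : a ∈ EJ) (hb : b ∈ EJ) : a * b = b * a := by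
  obtain ⟨v, -, h⟩ := exists_beta hyp.sq hyp.comm ((mem_EJ_iff inj a).mp ha)
  obtain ⟨w, -, h'⟩ := exists_beta hyp.sq hyp.comm ((mem_EJ_iff inj b).mp hb)
  apply inj
  rw [map_mul, map_mul, h, h']
  have e1 := beta_xor qs hyp.sq hyp.comm v w
  have e2 := beta_xor qs hyp.sq hyp.comm w v
  rw [Nat.xor_comm] at e2
  exact e1.symm.trans e2

/-- the nontrivial elements of `EJ` are conjugate under M24 to `s` or to `d` -/
theorem EJ_cases (e : Cfsg.Spor.J4) (he : e ∈ EJ) (he1 : e ≠ 1) :
    ∃ m : M24, e = Pres.phi m * s * (Pres.phi m)⁻¹ ∨ e = Pres.phi m * d * (Pres.phi m)⁻¹ := by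
  obtain ⟨v, hv, h⟩ := exists_beta hyp.sq hyp.comm ((mem_EJ_iff inj e).mp he)
  rw [qs_length] at hv
  have h0 : v ≠ 0 := by
    rintro rfl
    apply he1
    apply inj
    rw [h, map_one]
    exact beta_zero qs
  obtain ⟨m, hm⟩ := conj_beta_cases hyp v hv h0
  refine ⟨m, hm.imp (fun hm => ?_) fun hm => ?_⟩
  · apply inj
    rw [map_mul, map_mul, map_inv, rho_s, h]
    exact hm
  · apply inj
    rw [map_mul, map_mul, map_inv, rho_d, h]
    exact hm

theorem d_mem : d ∈ EJ := by
  rw [mem_EJ_iff inj, rho_d]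
  exact beta_mem Q qs (fun a ha => Subgroup.subset_closure ha) _

theorem s_mem : s ∈ EJ := by
  rw [mem_EJ_iff inj, rho_s]
  exact beta_mem Q qs (fun a ha => Subgroup.subset_closure ha) _

omit inj in
theorem not_isConj_s_d : ¬ IsConj s d := by
  intro h
  obtain ⟨g, hg⟩ := isConj_iff.mp h
  have h1 := congrArg rho hg
  rw [map_mul, map_mul, map_inv, rho_s, rho_d] at h1
  exact not_conj (rho g) h1

/-- Every involution of J4 is conjugate to `s` or to `d`. -/
theorem invol (h22 : ¬ 2 ^ 22 ∣ Nat.card rho.range) (u : Cfsg.Spor.J4) (hu : u * u = 1)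
    (hu1 : u ≠ 1) : IsConj u s ∨ IsConj u d := by
  have h1 : rho u * rho u = 1 := by rw [← map_mul, hu, map_one]
  have h2 : rho u ≠ 1 := by
    intro h
    exact hu1 (inj (h.trans (map_one rho).symm))
  obtain ⟨_, ⟨g, rfl⟩, h3⟩ := range_good h22 (rho u) ⟨u, rfl⟩ h1 h2
  rcases h3 with h3 | h3
  · left
    rw [isConj_iff]
    refine ⟨g, inj ?_⟩
    rw [map_mul, map_mul, map_inv, rho_s, h3]
  · right
    rw [isConj_iff]
    refine ⟨g, inj ?_⟩
    rw [map_mul, map_mul, map_inv, rho_d, h3]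

end Faithful

end Cfsg.Agent.J4.Invol
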