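import Cfsg.Agent.J4.Rep112

/-!
# Straight line programs for the lower bound of the order of J4 (data)
-/

set_option autoImplicit false

namespace Cfsg.Agent.J4.LowerData

/-- program computing (newest first) b, ei, e, s3i, s3, s2i, s2, s1i, s1, i5, i4, i3, i2, i1, k5, k4, k3, k2, k1, e1, r, k0, z, c, a, q, u from x, y, y⁻¹, t -/
def slp : List (List ℕ) := [
  [1, 0, 1, 0, 2, 0, 2, 0, 2, 0, 2, 3, 1, 0, 1, 0, 1, 0, 1, 0, 2, 0],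
  [0, 0, 0],
  [2, 4, 2, 4, 2, 4, 2, 3, 2, 3, 2, 3],
  [5, 3, 1, 5, 3, 5, 3, 5, 3, 5, 3, 4, 3, 1, 3, 5, 3, 4, 3, 4, 3, 4, 3, 4, 3, 4, 6, 1, 3, 5, 3, 5, 3, 4, 3, 5, 3, 5, 3, 5, 3, 5, 3, 4, 3, 5, 3, 5, 6, 4, 3, 5, 3, 5, 3, 5, 3, 5, 3, 1, 5, 3, 4, 6, 4, 3, 4, 3, 1, 4, 3, 5, 3, 5, 3, 1, 3, 4, 3, 4, 3, 5, 3, 5, 3, 5, 6, 5, 3, 4, 1, 3, 4, 3, 4, 3, 4, 3, 4, 3, 5, 6, 4, 3, 4, 3, 5, 3, 4, 3, 4, 3, 4, 3, 4, 3, 5, 3, 4, 3, 4, 3, 1, 6],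
  [4, 6, 4, 2, 6, 4, 6, 4, 6, 4, 6, 4, 5, 4, 2, 4, 6, 4, 5, 4, 5, 4, 5, 4, 5, 4, 5],
  [0, 7, 8, 7, 8, 6, 5, 0, 5, 7, 8, 6, 8, 6],
  [6, 8, 9, 7, 9, 7, 0, 0, 0, 0, 0],
  [0, 0, 0, 0, 0, 0, 0, 0, 0, 0, 0],
  [3, 9, 8, 3, 8, 10],
  [4, 10, 9, 10, 12, 9, 11, 12, 9, 4, 9, 12, 10, 9, 12, 11, 9, 11],
  [5, 11, 13, 5, 13, 12],
  [6, 13, 14, 6, 14, 12],
  [7, 14, 15, 12, 14, 12, 7, 12, 13, 12, 15, 13],
  [4, 4, 4, 4, 4, 4],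
  [4, 4, 4, 4],
  [4, 4],
  [4, 4, 4],
  [4, 4, 4, 4, 4, 4],
  [4, 3],
  [4, 5],
  [4, 3],
  [4, 5],
  [4, 8],
  [9, 5],
  [4, 16, 5, 2, 16, 3, 0, 16, 1],
  [0, 0, 0],
  [0, 23, 1]]

/-- word equations for a, b, c -/
def eqs11 : List (List ℕ × List ℕ) := [
  (List.replicate 11 24, []),
  (List.replicate 11 0, []),
  (List.replicate 11 23, []),
  ([24, 23], [23, 24]),
  ([0, 23], [23, 0]),
  ([24, 0, 23], [0, 24])]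

/-- c is not 1 -/
def neqs11 : List (List ℕ × List ℕ) := [([23], [])]

/-- words of orders 29, 31, 37, 43 -/
def slpOrd : List (List ℕ) := [
  [0, 1, 0, 1, 3, 1, 0, 2],
  [1, 2, 4, 3, 4, 2],
  [2, 3, 5, 3, 5, 3, 5, 3],
  [3, 4, 3, 4, 6, 5, 6, 5]]

/-- orders -/
def eqsOrd : List (List ℕ × List ℕ) := [
  (List.replicate 29 0, []),
  (List.replicate 31 1, []),
  (List.replicate 37 2, []),
  (List.replicate 43 3, [])]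

/-- not 1 -/
def neqsOrd : List (List ℕ × List ℕ) := [
  ([0], []), ([1], []), ([2], []), ([3], [])]

/-- program computing q10, …, q0 (newest first), q, u -/
def slpQ : List (List ℕ) := [
  [1, 0, 1, 0, 2, 0, 2, 0, 2, 0, 2, 3, 1, 0, 1, 0, 1, 0, 1, 0, 2, 0],
  [0, 0, 0],
  [0],
  [3, 1, 3],
  [6, 4, 2, 4, 5],
  [6, 5, 3, 5, 7],
  [6, 8, 6, 4, 6, 7, 6],
  [7, 8, 7, 5, 7, 9, 7],
  [10, 8, 10, 8, 6, 8, 9, 8, 9],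
  [10, 9, 11, 9, 7, 9, 10, 9, 11],
  [10, 12, 10, 12, 10, 8, 10, 11, 10, 11, 10],
  [11, 12, 11, 13, 11, 9, 11, 12, 11, 13, 11],
  [14, 12, 13, 12, 14, 12, 10, 12, 13, 12, 14, 12, 13]]

/-- relations of q0, …, q10 -/
def eqsQ : List (List ℕ × List ℕ) := [
  ([10, 10], []),
  ([9, 9], []),
  ([8, 8], []),
  ([7, 7], []),
  ([6, 6], []),
  ([5, 5], []),
  ([4, 4], []),
  ([3, 3], []),
  ([2, 2], []),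
  ([1, 1], []),
  ([0, 0], []),
  ([9, 10], [10, 9]),
  ([8, 10], [10, 8]),
  ([8, 9], [9, 8]),
  ([7, 10], [10, 7]),
  ([7, 9], [9, 7]),
  ([7, 8], [8, 7]),
  ([6, 10], [10, 6]),
  ([6, 9], [9, 6]),
  ([6, 8], [8, 6]),
  ([6, 7], [7, 6]),
  ([5, 10], [10, 5]),
  ([5, 9], [9, 5]),
  ([5, 8], [8, 5]),
  ([5, 7], [7, 5]),
  ([5, 6], [6, 5]),
  ([4, 10], [10, 4]),
  ([4, 9], [9, 4]),
  ([4, 8], [8, 4]),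
  ([4, 7], [7, 4]),
  ([4, 6], [6, 4]),
  ([4, 5], [5, 4]),
  ([3, 10], [10, 3]),
  ([3, 9], [9, 3]),
  ([3, 8], [8, 3]),
  ([3, 7], [7, 3]),
  ([3, 6], [6, 3]),
  ([3, 5], [5, 3]),
  ([3, 4], [4, 3]),
  ([2, 10], [10, 2]),
  ([2, 9], [9, 2]),
  ([2, 8], [8, 2]),
  ([2, 7], [7, 2]),
  ([2, 6], [6, 2]),
  ([2, 5], [5, 2]),
  ([2, 4], [4, 2]),
  ([2, 3], [3, 2]),
  ([1, 10], [10, 1]),
  ([1, 9], [9, 1]),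
  ([1, 8], [8, 1]),
  ([1, 7], [7, 1]),
  ([1, 6], [6, 1]),
  ([1, 5], [5, 1]),
  ([1, 4], [4, 1]),
  ([1, 3], [3, 1]),
  ([1, 2], [2, 1]),
  ([0, 10], [10, 0]),
  ([0, 9], [9, 0]),
  ([0, 8], [8, 0]),
  ([0, 7], [7, 0]),
  ([0, 6], [6, 0]),
  ([0, 5], [5, 0]),
  ([0, 4], [4, 0]),
  ([0, 3], [3, 0]),
  ([0, 2], [2, 0]),
  ([0, 1], [1, 0]),
  ([13, 10, 13], [9]),
  ([13, 9, 13], [10]),
  ([13, 8, 13], [6]),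
  ([13, 7, 13], [5]),
  ([13, 6, 13], [8]),
  ([13, 5, 13], [7]),
  ([13, 4, 13], [2]),
  ([13, 3, 13], [1]),
  ([13, 2, 13], [4]),
  ([13, 1, 13], [3]),
  ([13, 0, 13], [4, 2, 0]),
  ([15, 10, 14], [10]),
  ([15, 9, 14], [8]),
  ([15, 8, 14], [7]),
  ([15, 7, 14], [9]),
  ([15, 6, 14], [4]),
  ([15, 5, 14], [9, 8, 6, 5, 3]),
  ([15, 4, 14], [3]),
  ([15, 3, 14], [6]),
  ([15, 2, 14], [8, 7, 2]),
  ([15, 1, 14], [0]),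
  ([15, 0, 14], [8, 7, 5, 3, 1, 0])]

/-- witness vectors: the k-th one is fixed by q0, …, q(k-1) and moved by qk (listed for q10, …, q0) -/
def witness : List ℕ := [
  0xcc33cc33cc372cc72dcc59f140a4,
  0x5aa55aa5a55e85b57aa4b4ed296a,
  0x5555aaaaaaad454abbab68aa3509,
  0x96966969696a568e58970cdbba30,
  0x7fc1f,
  0x4141141441404830a84080a20800,
  0x3c00e,
  0xe3d10000380000,
  0xb803,
  0x10c04,
  0x1]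

end Cfsg.Agent.J4.LowerData
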