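import Cfsg.Agent.J4.Rep112
import Cfsg.Agent.J4.LowerData
import Cfsg.Agent.J4.GroupLemmas

/-!
# Lower bound for the order of the image of J4 in GL(112, 2)
-/

set_option autoImplicit false

namespace Cfsg.Agent.J4.Lower

open Cfsg.Agent.Lib.F2MatGroup Cfsg.Agent.J4.RepData Cfsg.Agent.J4.Rep112
open Cfsg.Agent.J4.LowerData Cfsg.Agent.J4.GroupLemmas Cfsg.Agent.Lib

/-- images of x, y, y⁻¹, t in the matrix group -/
noncomputable def mgens : List (GL (Fin 112) (ZMod 2)) := gens.map rho

theorem mgens_mem : ∀ g ∈ mgens, g ∈ rho.range := by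
  intro g hg
  obtain ⟨h, -, rfl⟩ := List.mem_map.mp hg
  exact ⟨h, rfl⟩

theorem checkOrd : check 112 codes slpOrd eqsOrd neqsOrd = true := by decide +kernel

theorem check11 : check 112 codes slp eqs11 neqs11 = true := by decide +kernel

theorem dvd_of_order {p : ℕ} [Fact p.Prime] {g : GL (Fin 112) (ZMod 2)} (hg : g ∈ rho.range)
    (h1 : g ^ p = 1) (h2 : g ≠ 1) : p ∣ Nat.card rho.range := by
  have h3 : orderOf g = p := orderOf_eq_prime h1 h2
  have h4 : orderOf (⟨g, hg⟩ : rho.range) = p := by rw [← h3]; exact Subgroup.orderOf_mk g hg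
  rw [← h4]
  exact orderOf_dvd_natCard _

theorem evG_replicate {G : Type*} [Group G] (L : List G) (i k : ℕ) :
    evG L (List.replicate k i) = getG L i ^ k := by
  induction k with
  | zero => rw [List.replicate_zero, evG_nil, pow_zero]
  | succ k ih => rw [List.replicate_succ, evG_cons, ih, pow_succ']

theorem evG_single {G : Type*} [Group G] (L : List G) (i : ℕ) : evG L [i] = getG L i := by
  rw [evG_cons, evG_nil, mul_one]

instance fact29 : Fact (Nat.Prime 29) := ⟨by norm_num⟩
instance fact31 : Fact (Nat.Prime 31) := ⟨by norm_num⟩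
instance fact37 : Fact (Nat.Prime 37) := ⟨by norm_num⟩
instance fact43 : Fact (Nat.Prime 43) := ⟨by norm_num⟩
instance fact11 : Fact (Nat.Prime 11) := ⟨by norm_num⟩

theorem dvd_aux {p i : ℕ} [Fact p.Prime] (h1 : (List.replicate p i, ([] : List ℕ)) ∈ eqsOrd)
    (h2 : ([i], ([] : List ℕ)) ∈ neqsOrd) : p ∣ Nat.card rho.range := by
  obtain ⟨h3, h4⟩ := check_sound (by norm_num) codes_gens checkOrd
  have h5 := h3 _ h1
  have h6 := h4 _ h2
  simp only [evG_replicate, evG_nil, evG_single] at h5 h6
  exact dvd_of_order (getG_mem _ (runG_mem _ mgens_mem _) _) h5 h6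

theorem dvd29 : 29 ∣ Nat.card rho.range := dvd_aux (i := 0) (by decide) (by decide)
theorem dvd31 : 31 ∣ Nat.card rho.range := dvd_aux (i := 1) (by decide) (by decide)
theorem dvd37 : 37 ∣ Nat.card rho.range := dvd_aux (i := 2) (by decide) (by decide)
theorem dvd43 : 43 ∣ Nat.card rho.range := dvd_aux (i := 3) (by decide) (by decide)

/-- A subgroup containing an extraspecial group of order `p^3`, from word equations. -/
theorem cube_dvd {G : Type*} [Group G] (K : Subgroup G) [Finite K] {p : ℕ} [Fact p.Prime]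
    (L : List G) (hL : ∀ g ∈ L, g ∈ K) (i j k : ℕ)
    (e1 : evG L (List.replicate p i) = evG L [])
    (e2 : evG L (List.replicate p j) = evG L [])
    (e3 : evG L (List.replicate p k) = evG L [])
    (e4 : evG L [i, k] = evG L [k, i])
    (e5 : evG L [j, k] = evG L [k, j])
    (e6 : evG L [i, j, k] = evG L [j, i])
    (e7 : evG L [k] ≠ evG L []) : p ^ 3 ∣ Nat.card K := by
  simp only [evG_replicate, evG_nil, evG_cons, mul_one] at e1 e2 e3 e4 e5 e6 e7
  exact prime_cube_dvd_card (a := (⟨getG L i, getG_mem K hL i⟩ : K))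
    (b := ⟨getG L j, getG_mem K hL j⟩) (c := ⟨getG L k, getG_mem K hL k⟩)
    (Subtype.ext e1) (Subtype.ext e2) (Subtype.ext e3) (fun h => e7 (congrArg Subtype.val h))
    (Subtype.ext e4) (Subtype.ext e5) (Subtype.ext e6)

theorem dvd11 : 11 ^ 3 ∣ Nat.card rho.range := by
  obtain ⟨h3, h4⟩ := check_sound (by norm_num) codes_gens check11
  exact cube_dvd rho.range (runG slp mgens) (runG_mem _ mgens_mem slp) 24 0 23
    (h3 (List.replicate 11 24, []) (by decide)) (h3 (List.replicate 11 0, []) (by decide))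
    (h3 (List.replicate 11 23, []) (by decide)) (h3 ([24, 23], [23, 24]) (by decide))
    (h3 ([0, 23], [23, 0]) (by decide)) (h3 ([24, 0, 23], [0, 24]) (by decide))
    (h4 ([23], []) (by decide))

/-! ### The elementary abelian group of order 2^11 -/

/-- the stabilizer of a row vector -/
def fixer (n : ℕ) (v : Fin n → ZMod 2) : Subgroup (GL (Fin n) (ZMod 2)) where
  carrier := {g | Matrix.vecMul v (g : Matrix (Fin n) (Fin n) (ZMod 2)) = v}
  one_mem' := by simp
  mul_mem' := by
    intro a b ha hb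
    have ha' : Matrix.vecMul v (a : Matrix (Fin n) (Fin n) (ZMod 2)) = v := ha
    have hb' : Matrix.vecMul v (b : Matrix (Fin n) (Fin n) (ZMod 2)) = v := hb
    change Matrix.vecMul v ((a * b : GL (Fin n) (ZMod 2)) : Matrix (Fin n) (Fin n) (ZMod 2)) = v
    rw [Units.val_mul, ← Matrix.vecMul_vecMul, ha', hb']
  inv_mem' := by
    intro a ha
    have ha' : Matrix.vecMul v (a : Matrix (Fin n) (Fin n) (ZMod 2)) = v := ha
    change Matrix.vecMul v ((a⁻¹ : GL (Fin n) (ZMod 2)) : Matrix (Fin n) (Fin n) (ZMod 2)) = v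
    conv_lhs => rw [← ha']
    rw [Matrix.vecMul_vecMul, ← Units.val_mul, mul_inv_cancel, Units.val_one, Matrix.vecMul_one]

theorem mem_fixer {n : ℕ} {v : Fin n → ZMod 2} {g : GL (Fin n) (ZMod 2)} :
    g ∈ fixer n v ↔ Matrix.vecMul v (g : Matrix (Fin n) (Fin n) (ZMod 2)) = v := Iff.rfl

/-- `w` is fixed by all coded matrices in the list -/
def fixAll (n w : ℕ) (L : List ℕ) : Bool :=
  List.rec true (fun A _ ih => cond (Nat.beq (F2Mat.vmul n w A) w) ih false) L

theorem fixAll_sound {n w : ℕ} {LG : List (GL (Fin n) (ZMod 2))} {L : List ℕ}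
    (h : List.Forall₂ (Codes n) LG L) (hf : fixAll n w L = true) :
    ∀ g ∈ LG, g ∈ fixer n (F2Mat.toVec n w) := by
  induction h with
  | nil => intro g hg; simp at hg
  | @cons g A LG L h1 _ ih =>
    have hf' : cond (Nat.beq (F2Mat.vmul n w A) w) (fixAll n w L) false = true := hf
    rcases hb : Nat.beq (F2Mat.vmul n w A) w with _ | _
    · rw [hb] at hf'; exact absurd hf' Bool.false_ne_true
    · rw [hb] at hf'
      intro g' hg'
      rcases List.mem_cons.mp hg' with rfl | hg'
      · rw [mem_fixer]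
        have h1' : (g' : Matrix (Fin n) (Fin n) (ZMod 2)) = F2Mat.toMat n A := h1
        rw [h1', ← F2Mat.toVec_vmul, Nat.eq_of_beq_eq_true hb]
      · exact ih hf' g' hg'

/-- triangular independence check -/
def wchk (n : ℕ) (ws : List ℕ) : List ℕ → Bool :=
  List.rec (motive := fun _ => List ℕ → Bool) (fun _ => true)
    (fun w _ ih L => List.rec true (fun A L _ =>
      cond (Nat.beq (Nat.mod w (Nat.pow 2 n)) w)
        (cond (Nat.beq (F2Mat.vmul n w A) w) false (cond (fixAll n w L) (ih L) false)) false) L) ws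

theorem wchk_sound {n : ℕ} {ws : List ℕ} {LG : List (GL (Fin n) (ZMod 2))} {L : List ℕ}
    (h : List.Forall₂ (Codes n) LG L) (hf : wchk n ws L = true) (hlen : ws.length = L.length) :
    Ind LG := by
  induction ws generalizing LG L with
  | nil =>
    rcases h with _ | ⟨_, _⟩
    · trivial
    · simp at hlen
  | cons w ws ih =>
    rcases h with _ | @⟨g, A, LG, L, h1, h2⟩
    · trivial
    · have hf' : cond (Nat.beq (Nat.mod w (Nat.pow 2 n)) w)
        (cond (Nat.beq (F2Mat.vmul n w A) w) false
          (cond (fixAll n w L) (wchk n ws L) false)) false = true := hf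
      rcases hb : Nat.beq (Nat.mod w (Nat.pow 2 n)) w with _ | _
      · rw [hb] at hf'; exact absurd hf' Bool.false_ne_true
      rcases hb2 : Nat.beq (F2Mat.vmul n w A) w with _ | _
      swap
      · rw [hb, hb2] at hf'; exact absurd hf' Bool.false_ne_true
      rcases hb3 : fixAll n w L with _ | _
      · rw [hb, hb2, hb3] at hf'; exact absurd hf' Bool.false_ne_true
      rw [hb, hb2, hb3] at hf'
      refine ⟨⟨fixer n (F2Mat.toVec n w), fixAll_sound h2 hb3, ?_⟩, ih h2 hf' (by simpa using hlen)⟩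
      intro hmem
      rw [mem_fixer] at hmem
      have h1' : (g : Matrix (Fin n) (Fin n) (ZMod 2)) = F2Mat.toMat n A := h1
      rw [h1', ← F2Mat.toVec_vmul] at hmem
      have hw : w < 2 ^ n := by
        have e := Nat.eq_of_beq_eq_true hb
        rw [← e]
        exact Nat.mod_lt _ (Nat.two_pow_pos n)
      have := F2Mat.toVec_inj (F2Mat.vmul_lt w A) hw hmem
      rw [this, Nat.beq_refl] at hb2
      exact absurd hb2 (by decide)

theorem checkQ : run 112 slpQ codes
    (fun L => cond (eqs 112 eqsQ L) (wchk 112 witness (List.take 11 L)) false) = true := by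
  decide +kernel

theorem checkQ_len : (runG slpQ mgens).length = 17 := rfl

/-- the eleven involutions q10, …, q0 -/
noncomputable def qs : List (GL (Fin 112) (ZMod 2)) := (runG slpQ mgens).take 11

theorem qs_props : (∀ p ∈ eqsQ, evG (runG slpQ mgens) p.1 = evG (runG slpQ mgens) p.2) ∧
    Ind qs := by
  obtain ⟨L', h', hk⟩ := run_sound codes_gens checkQ
  rcases hb : eqs 112 eqsQ L' with _ | _
  · rw [hb] at hk; exact absurd hk Bool.false_ne_true
  · rw [hb] at hk
    refine ⟨eqs_sound h' hb, ?_⟩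
    have hlen : L'.length = 17 := by rw [← h'.length_eq]; exact checkQ_len
    have h2 : List.Forall₂ (Codes 112) ((runG slpQ mgens).take 11) (L'.take 11) :=
      List.forall₂_take 11 h'
    have hk' : wchk 112 witness (List.take 11 L') = true := hk
    exact wchk_sound h2 hk' (by rw [List.length_take, hlen]; rfl)

theorem qs_mem : ∀ q ∈ qs, q ∈ rho.range := fun q hq =>
  runG_mem _ mgens_mem slpQ q (List.mem_of_mem_take hq)

theorem qs_sq : ∀ q ∈ qs, q * q = 1 := by
  intro q hq
  obtain ⟨k, hk, rfl⟩ := List.mem_take_iff_getElem.mp hq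
  rw [lt_min_iff] at hk
  have h2 : getG (runG slpQ mgens) k = (runG slpQ mgens)[k]'hk.2 := by
    unfold getG
    rw [List.getD_eq_getElem?_getD, List.getElem?_eq_getElem hk.2, Option.getD_some]
  rw [← h2]
  have h3 : ∀ k < 11, (([k, k], []) : List ℕ × List ℕ) ∈ eqsQ := by decide
  have h4 := qs_props.1 _ (h3 k hk.1)
  rw [evG_cons, evG_single, evG_nil] at h4
  exact h4

theorem comm_aux' : (List.range 11).all (fun j => (List.range 11).all fun k => decide (j = k) ||
    eqsQ.contains ([j, k], [k, j]) || eqsQ.contains ([k, j], [j, k])) = true := by decide +kernel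

theorem comm_aux (j : ℕ) (hj : j < 11) (k : ℕ) (hk : k < 11) :
    j = k ∨ (([j, k], [k, j]) : List ℕ × List ℕ) ∈ eqsQ ∨
    (([k, j], [j, k]) : List ℕ × List ℕ) ∈ eqsQ := by
  have h := comm_aux'
  rw [List.all_eq_true] at h
  have h1 := h j (List.mem_range.mpr hj)
  rw [List.all_eq_true] at h1
  have h2 := h1 k (List.mem_range.mpr hk)
  rw [Bool.or_eq_true, Bool.or_eq_true, decide_eq_true_iff, List.contains_iff_mem,
    List.contains_iff_mem] at h2
  tauto

theorem mul_self_aux {G : Type*} [Group G] {L : List G} {i : ℕ} {g : G} (h : getG L i = g)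
    (h2 : g ^ 2 = 1) : getG L i * getG L i = 1 := by
  rw [h, ← pow_two, h2]

theorem mul_inv_aux {G : Type*} [Group G] {L : List G} {i j : ℕ} {g : G} (h : getG L i = g)
    (h2 : getG L j = g⁻¹) : getG L j * getG L i = 1 := by
  rw [h, h2, inv_mul_cancel]

theorem qs_comm : ∀ a ∈ qs, ∀ b ∈ qs, a * b = b * a := by
  intro a ha b hb
  obtain ⟨j, hj, rfl⟩ := List.mem_take_iff_getElem.mp ha
  obtain ⟨k, hk, rfl⟩ := List.mem_take_iff_getElem.mp hb
  rw [lt_min_iff] at hj hk
  have h1 : getG (runG slpQ mgens) j = (runG slpQ mgens)[j]'hj.2 := by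
    unfold getG
    rw [List.getD_eq_getElem?_getD, List.getElem?_eq_getElem hj.2, Option.getD_some]
  have h2 : getG (runG slpQ mgens) k = (runG slpQ mgens)[k]'hk.2 := by
    unfold getG
    rw [List.getD_eq_getElem?_getD, List.getElem?_eq_getElem hk.2, Option.getD_some]
  rw [← h1, ← h2]
  rcases comm_aux j hj.1 k hk.1 with h | h | h
  · subst h; rfl
  · have h4 := qs_props.1 _ h
    rw [evG_cons, evG_single, evG_cons, evG_single] at h4
    exact h4
  · have h4 := qs_props.1 _ h
    rw [evG_cons, evG_single, evG_cons, evG_single] at h4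
    exact h4.symm

/-- the elementary abelian group of order `2^11` -/
noncomputable def Q : Subgroup (GL (Fin 112) (ZMod 2)) := Subgroup.closure {q | q ∈ qs}

theorem Q_props : IsPGroup 2 Q ∧ 2 ^ 11 ∣ Nat.card Q := by
  have h := two_group qs qs_sq qs_comm qs_props.2
  have hlen : qs.length = 11 := rfl
  rw [hlen] at h
  exact h

theorem Q_le : Q ≤ rho.range := (Subgroup.closure_le _).mpr qs_mem

/-- words for the conjugates of the `q` under x -/
def Wx : List (List ℕ) := [[4, 2, 0], [3], [4], [1], [2], [7], [8], [5], [6], [10], [9]]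
/-- words for the conjugates of the `q` under y⁻¹ -/
def Wy : List (List ℕ) := [[8, 7, 5, 3, 1, 0], [0], [8, 7, 2], [6], [3], [9, 8, 6, 5, 3], [4], [9],
  [7], [8], [10]]

theorem x_norm : rho x ∈ Subgroup.normalizer (Q : Set (GL (Fin 112) (ZMod 2))) := by
  have hlen : 11 ≤ (runG slpQ mgens).length := by rw [checkQ_len]; norm_num
  refine mem_normalizer_of_words (runG slpQ mgens) hlen 13 13 ?_ Wx ?_ (by decide)
  · exact mul_self_aux (g := rho x) rfl (by rw [rho_x]; exact rel1)
  · have h3 : ∀ k < 11, (([13, k, 13], Wx.getD k []) : List ℕ × List ℕ) ∈ eqsQ := by decide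
    exact fun k hk => qs_props.1 ([13, k, 13], Wx.getD k []) (h3 k hk)

theorem y_norm : rho y⁻¹ ∈ Subgroup.normalizer (Q : Set (GL (Fin 112) (ZMod 2))) := by
  have hlen : 11 ≤ (runG slpQ mgens).length := by rw [checkQ_len]; norm_num
  refine mem_normalizer_of_words (runG slpQ mgens) hlen 15 14 ?_ Wy ?_ (by decide)
  · refine mul_inv_aux (g := rho y) rfl ?_
    rw [← map_inv]
    rfl
  · have h3 : ∀ k < 11, (([15, k, 14], Wy.getD k []) : List ℕ × List ℕ) ∈ eqsQ := by decide
    exact fun k hk => qs_props.1 ([15, k, 14], Wy.getD k []) (h3 k hk)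

theorem xy_norm : Subgroup.closure {rho x, rho y} ≤
    Subgroup.normalizer (Q : Set (GL (Fin 112) (ZMod 2))) := by
  apply closure_pair_le x_norm
  have h := y_norm
  rw [map_inv] at h
  exact (Subgroup.inv_mem_iff _).mp h

theorem xg_ne : rho x ≠ 1 := by
  obtain ⟨-, h⟩ := check_sound (n := 112) (by norm_num) codes_gens
    (ws := []) (es := []) (ns := [([0], [])]) (by decide +kernel)
  have h1 := h ([0], []) (by decide)
  rw [evG_single, evG_nil] at h1
  exact h1

end Cfsg.Agent.J4.Lower
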