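import Cfsg.Agent.J4.Lower
import Cfsg.Agent.S0364
import Cfsg.Agent.S0365

/-!
# The order of J4 divides the order of the image of the presented group in GL(112, 2)
-/

set_option autoImplicit false

namespace Cfsg.Agent.J4.LowerBound

open Cfsg.Agent.J4.Rep112 Cfsg.Agent.J4.Lower Cfsg.Agent.J4.GroupLemmas

theorem not_two_group_M24 : ¬ IsPGroup 2 Cfsg.M24 := by
  intro h
  obtain ⟨n, hn⟩ := IsPGroup.iff_card.mp h
  rw [Cfsg.Agent.S0364.result] at hn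
  have h3 : 3 ∣ 2 ^ n := by rw [← hn]; norm_num
  have := Nat.Prime.dvd_of_dvd_pow Nat.prime_three h3
  omega

/-- The lower bound, given a homomorphism from M24 onto the subgroup generated by x and y. -/
theorem dvd_of_hom (phi : Cfsg.M24 →* GL (Fin 112) (ZMod 2))
    (hphi : phi.range = Subgroup.closure {rho x, rho y}) :
    86775571046077562880 ∣ Nat.card rho.range := by
  have hsimple : IsSimpleGroup Cfsg.M24 := Cfsg.Agent.S0365.result
  have hx : rho x ∈ phi.range := by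
    rw [hphi]; exact Subgroup.subset_closure (Set.mem_insert _ _)
  obtain ⟨a, ha⟩ := hx
  have h1 := card_mul_dvd_of_simple Q Q_props.1 phi ⟨a, by rw [ha]; exact xg_ne⟩
    not_two_group_M24 (by rw [hphi]; exact xy_norm)
  have hle : Q ⊔ phi.range ≤ rho.range := by
    refine sup_le Q_le ?_
    rw [hphi]
    exact closure_pair_le ⟨x, rfl⟩ ⟨y, rfl⟩
  have h2 : 2 ^ 11 * 244823040 ∣ Nat.card rho.range := by
    have h3 : 2 ^ 11 * 244823040 ∣ Nat.card Q * Nat.card Cfsg.M24 := by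
      rw [Cfsg.Agent.S0364.result]
      exact Nat.mul_dvd_mul_right Q_props.2 _
    exact (h3.trans h1).trans (Subgroup.card_dvd_of_le hle)
  have h4 : 2 ^ 21 * 3 ^ 3 * 5 * 7 * 23 ∣ Nat.card rho.range := Dvd.dvd.trans (by norm_num) h2
  have h5 : 2 ^ 21 * 3 ^ 3 * 5 * 7 * 23 * 11 ^ 3 ∣ Nat.card rho.range :=
    Nat.Coprime.mul_dvd_of_dvd_of_dvd (by norm_num) h4 dvd11
  have h6 : 2 ^ 21 * 3 ^ 3 * 5 * 7 * 23 * 11 ^ 3 * 29 ∣ Nat.card rho.range :=
    Nat.Coprime.mul_dvd_of_dvd_of_dvd (by norm_num) h5 dvd29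
  have h7 : 2 ^ 21 * 3 ^ 3 * 5 * 7 * 23 * 11 ^ 3 * 29 * 31 ∣ Nat.card rho.range :=
    Nat.Coprime.mul_dvd_of_dvd_of_dvd (by norm_num) h6 dvd31
  have h8 : 2 ^ 21 * 3 ^ 3 * 5 * 7 * 23 * 11 ^ 3 * 29 * 31 * 37 ∣ Nat.card rho.range :=
    Nat.Coprime.mul_dvd_of_dvd_of_dvd (by norm_num) h7 dvd37
  have h9 : 2 ^ 21 * 3 ^ 3 * 5 * 7 * 23 * 11 ^ 3 * 29 * 31 * 37 * 43 ∣ Nat.card rho.range :=
    Nat.Coprime.mul_dvd_of_dvd_of_dvd (by norm_num) h8 dvd43
  have h10 : 2 ^ 21 * 3 ^ 3 * 5 * 7 * 23 * 11 ^ 3 * 29 * 31 * 37 * 43 = 86775571046077562880 := by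
    norm_num
  rwa [h10] at h9

end Cfsg.Agent.J4.LowerBound
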