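import Cfsg.Agent.J4.M24Certs
import Cfsg.Agent.Lib.WordSubst

/-!
# The 2-generator presentation of M24: upper bound

For every group `G` with elements `x y` satisfying the seven relations, the subgroup generated
by `x` and `y` has order at most `244823040`.
-/

set_option autoImplicit false

namespace Cfsg.Agent.J4.M24Pres

open Cfsg.Agent.Lib.CosetFacts Cfsg.Agent.Lib.WordSubst Cfsg.Agent.J4.M24Certs

/-- The seven relations of the presentation of M24. -/
structure Rels {G : Type*} [Group G] (x y : G) : Prop where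
  r1 : x ^ 2 = 1
  r2 : y ^ 3 = 1
  r3 : (x * y) ^ 23 = 1
  r4 : (x⁻¹ * y⁻¹ * x * y) ^ 12 = 1
  r5 : (x⁻¹ * (y * x * y)⁻¹ * x * (y * x * y)) ^ 5 = 1
  r6 : (x * y * ((x * y * x * (y⁻¹)) ^ 3)) ^ 4 = 1
  r7 : ((x * y * x * y * x * (y⁻¹)) ^ 3) * ((x * y * x * (y⁻¹) * x * (y⁻¹)) ^ 3) = 1

/-- inverse letters for `x = 1`, `y = 2`, `y⁻¹ = 3` -/
def ι0 (s : ℕ) : ℕ := tabι [0, 1, 3, 2] s

/-- letters of order three -/
def o0 (s : ℕ) : Bool := cond (Nat.beq s 2) true (Nat.beq s 3)

/-- interpretation of the base letters -/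
def g0 {G : Type*} [Group G] (x y : G) (s : ℕ) : G := [1, x, y, y⁻¹].getD s 1

/-- words for the letters of the various certificates -/
def SG : List (List ℕ) := [[], [1], [2], [3], [2], [3], [1,3,1,2,1,2,1], [1,3,1,3,1,2,1],
  [1,2,1,2,1,3,1,3,1], [1,2,1,2,1,3,1,3,1]]
/-- letters `a A b B c` and the subgroup letters -/
def SM : List (List ℕ) := [[], [2], [3], [1,3,1,2,1,2,1], [1,3,1,3,1,2,1],
  [1,2,1,2,1,3,1,3,1], [2], [3], [1,3,1,2,1,2,1], [1,3,1,3,1,2,1]]
/-- letters `a A b B c` -/
def SV : List (List ℕ) := [[], [2], [3], [1,3,1,2,1,2,1], [1,3,1,3,1,2,1], [1,2,1,2,1,3,1,3,1]]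
/-- letters `a A b B` and the subgroup letters -/
def SK : List (List ℕ) := [[], [2], [3], [1,3,1,2,1,2,1], [1,3,1,3,1,2,1],
  [3,1,3,1,3,1,2,1], [1,3,1,2,1,2,1,2]]
/-- letters `a A b B` -/
def SU : List (List ℕ) := [[], [2], [3], [1,3,1,2,1,2,1], [1,3,1,3,1,2,1]]

/-- trivial words -/
def T1 : List (List ℕ) := relsW ++ [certW_word0, certW_word1]
/-- trivial words -/
def T2 : List (List ℕ) := T1 ++ [subst SV certV_word0]

theorem conseqG : allConseq ι0 o0 relsW SG relsG
    [(8, false, []), (8, false, []), (2, false, []), (3, false, []), (4, false, []), (5, false, []), (6, false, []), (8, false, []), (8, false, []), (8, false, []), (8, false, [])] = true := by decide +kernel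

theorem conseqV : allConseq ι0 o0 T1 SV relsV
    [(10, false, []), (10, false, []), (10, false, []), (4, false, [1]), (6, false, [1, 2, 1, 2, 1, 3, 1, 2, 1, 2, 1, 3, 1, 2, 1, 2, 1, 3, 1, 2, 1, 3, 1, 3, 1, 2, 1, 3, 1, 3, 1, 2, 1]), (5, false, [1, 2, 1, 2, 1, 3, 1, 2, 1, 3, 1, 2, 1]), (5, true, [2, 1, 3, 1, 2, 1, 3, 1, 2, 1]), (9, false, []), (10, false, []), (10, false, [])] = true := by decide +kernel

theorem conseqM : allConseq ι0 o0 T1 SM relsM
    [(10, false, []), (10, false, []), (10, false, []), (4, false, [1]), (6, false, [1, 2, 1, 2, 1, 3, 1, 2, 1, 2, 1, 3, 1, 2, 1, 2, 1, 3, 1, 2, 1, 3, 1, 3, 1, 2, 1, 3, 1, 3, 1, 2, 1]), (5, false, [1, 2, 1, 2, 1, 3, 1, 2, 1, 3, 1, 2, 1]), (5, true, [2, 1, 3, 1, 2, 1, 3, 1, 2, 1]), (9, false, []), (10, false, []), (10, false, []), (10, false, []), (10, false, [])] = true := by decide +kernel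

theorem conseqU : allConseq ι0 o0 T2 SU relsU
    [(11, false, []), (11, false, []), (4, false, [1]), (9, false, []), (10, false, []), (11, false, []), (11, false, [])] = true := by decide +kernel

theorem conseqK : allConseq ι0 o0 T2 SK relsK
    [(11, false, []), (11, false, []), (4, false, [1]), (9, false, []), (10, false, []), (11, false, []), (11, false, []), (11, false, [])] = true := by decide +kernel

theorem invSG : invOk ι0 o0 (tabι certG.inv) SG SG.length = true := by decide +kernel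

theorem invSM : invOk ι0 o0 (tabι certM.inv) SM SM.length = true := by decide +kernel

theorem invSV : invOk ι0 o0 (tabι certV.inv) SV SV.length = true := by decide +kernel

theorem invSK : invOk ι0 o0 (tabι certK.inv) SK SK.length = true := by decide +kernel

theorem invSU : invOk ι0 o0 (tabι certU.inv) SU SU.length = true := by decide +kernel

section
variable {G : Type*} [Group G] {x y : G}

theorem hι0 (h : Rels x y) (s : ℕ) : g0 x y (ι0 s) = (g0 x y s)⁻¹ := by
  have hx : x = x⁻¹ := by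
    rw [eq_inv_iff_mul_eq_one, ← pow_two]; exact h.r1
  match s with
  | 0 => simp [g0, ι0, tabι]
  | 1 => simpa [g0, ι0, tabι] using hx
  | 2 => simp [g0, ι0, tabι]
  | 3 => simp [g0, ι0, tabι]
  | n+4 => simp [g0, ι0, tabι]

theorem ho0 (h : Rels x y) (c : ℕ) (hc : o0 c = true) :
    g0 x y c * g0 x y c = g0 x y (ι0 c) := by
  have hy : y * y = y⁻¹ := by
    rw [eq_inv_iff_mul_eq_one, ← pow_two, ← pow_succ]; exact h.r2
  match c with
  | 0 => simp [o0] at hc
  | 1 => simp [o0] at hc
  | 2 => simpa [g0, ι0, tabι] using hy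
  | 3 =>
    have := congrArg (fun z => z⁻¹) hy
    simpa [g0, ι0, tabι] using this
  | n+4 => simp [o0] at hc

theorem hT0 (h : Rels x y) : ∀ t ∈ relsW, prodL (g0 x y) t = 1 := by
  have hx : x⁻¹ = x := by
    symm; rw [eq_inv_iff_mul_eq_one, ← pow_two]; exact h.r1
  have h1 := h.r1
  have h2 := h.r2
  have h3 := h.r3
  have h4 := h.r4
  have h5 := h.r5
  have h6 := h.r6
  have h7 := h.r7
  simp only [mul_inv_rev, hx, mul_assoc] at h4 h5
  simp only [mul_assoc] at h6 h7
  intro t ht
  simp only [relsW, List.mem_cons, List.not_mem_nil, or_false] at ht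
  rcases ht with rfl | rfl | rfl | rfl | rfl | rfl | rfl | rfl
  · simpa [prodL, g0, pow_two] using h1
  · simpa [prodL, g0, pow_succ, mul_assoc] using h2
  · rw [prodL_pw]; simpa [prodL, g0] using h3
  · rw [prodL_pw]; simpa [prodL, g0] using h4
  · rw [prodL_pw]; simpa [prodL, g0] using h5
  · rw [prodL_pw, prodL_append, prodL_pw]; simpa [prodL, g0, mul_assoc] using h6
  · rw [prodL_append, prodL_pw, prodL_pw]; simpa [prodL, g0] using h7
  · simp [prodL, g0]

theorem hT1 (h : Rels x y) : ∀ t ∈ T1, prodL (g0 x y) t = 1 := by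
  intro t ht
  rcases List.mem_append.mp ht with ht | ht
  · exact hT0 h t ht
  · simp only [List.mem_cons, List.not_mem_nil, or_false] at ht
    rcases ht with rfl | rfl
    · exact loop_eq_one certW relsW certW_check (g0 x y) (hι0 h) rfl (hT0 h) rfl _ _ _ _
        certW_loop0
    · exact loop_eq_one certW relsW certW_check (g0 x y) (hι0 h) rfl (hT0 h) rfl _ _ _ _
        certW_loop1

theorem g00 (S : List (List ℕ)) (hz : S.getD 0 [] = []) : gS (g0 x y) S 0 = 1 := by
  unfold gS
  rw [hz]; rfl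

theorem hT2 (h : Rels x y) : ∀ t ∈ T2, prodL (g0 x y) t = 1 := by
  intro t ht
  rcases List.mem_append.mp ht with ht | ht
  · exact hT1 h t ht
  · rw [List.mem_singleton] at ht
    subst ht
    rw [prodL_subst]
    exact loop_eq_one certV relsV certV_check (gS (g0 x y) SV)
      (inv_all (g0 x y) ι0 o0 (hι0 h) (ho0 h) SV certV.inv rfl rfl invSV) (g00 SV rfl)
      (allConseq_sound (g0 x y) ι0 o0 (hι0 h) (ho0 h) T1 SV (hT1 h) _ _ conseqV) rfl _ _ _ _
      certV_loop0

theorem hU (h : Rels x y) : prodL (gS (g0 x y) SU) certU_word0 = 1 :=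
  loop_eq_one certU relsU certU_check (gS (g0 x y) SU)
    (inv_all (g0 x y) ι0 o0 (hι0 h) (ho0 h) SU certU.inv rfl rfl invSU) (g00 SU rfl)
    (allConseq_sound (g0 x y) ι0 o0 (hι0 h) (ho0 h) T2 SU (hT2 h) _ _ conseqU) rfl _ _ _ _
    certU_loop0

/-- the group of order 8 generated by `a⁻¹ b⁻¹` -/
def A0 (x y : G) : Subgroup G := Subgroup.zpowers (gS (g0 x y) SK 5)

theorem pow8 (h : Rels x y) : gS (g0 x y) SK 5 ^ 8 = 1 := by
  have h1 : gS (g0 x y) SK 5 = prodL (gS (g0 x y) SU) [2, 4] := by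
    rw [← prodL_subst]; rfl
  have h2 : certU_word0 = pw 8 [2, 4] := by decide +kernel
  rw [h1, ← prodL_pw, ← h2]
  exact hU h

theorem card_A0 (h : Rels x y) : Finite (A0 x y) ∧ Nat.card (A0 x y) ≤ 8 := by
  have hfin : IsOfFinOrder (gS (g0 x y) SK 5) := isOfFinOrder_iff_pow_eq_one.mpr ⟨8, by norm_num, pow8 h⟩
  refine ⟨?_, ?_⟩
  · exact hfin.finite_zpowers
  · rw [A0, Nat.card_zpowers]
    exact Nat.le_of_dvd (by norm_num) (orderOf_dvd_of_pow_eq_one (pow8 h))

/-- the subgroup `⟨a, b⟩` -/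
def K (x y : G) : Subgroup G := Subgroup.closure (gS (g0 x y) SK '' Set.Icc 1 4)
/-- the subgroup `⟨a, b, c⟩` -/
def M (x y : G) : Subgroup G := Subgroup.closure (gS (g0 x y) SM '' Set.Icc 1 5)

theorem card_K (h : Rels x y) : Finite (K x y) ∧ Nat.card (K x y) ≤ 720 * 8 := by
  have := (card_A0 h).1
  have := card_le certK relsK certK_check 720 4 certK_L certK_D certK_close (gS (g0 x y) SK)
    (inv_all (g0 x y) ι0 o0 (hι0 h) (ho0 h) SK certK.inv rfl rfl invSK) (g00 SK rfl)
    (allConseq_sound (g0 x y) ι0 o0 (hι0 h) (ho0 h) T2 SK (hT2 h) _ _ conseqK)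
    (A0 x y) (by
      intro s hs
      have : s = 5 := by simpa [certK] using hs
      subst this
      exact Subgroup.mem_zpowers _) (K x y) le_rfl
  exact ⟨this.1, this.2.trans (Nat.mul_le_mul_left _ (card_A0 h).2)⟩

theorem card_M (h : Rels x y) : Finite (M x y) ∧ Nat.card (M x y) ≤ 154 * (720 * 8) := by
  have := (card_K h).1
  have := card_le certM relsM certM_check 154 5 certM_L certM_D certM_close (gS (g0 x y) SM)
    (inv_all (g0 x y) ι0 o0 (hι0 h) (ho0 h) SM certM.inv rfl rfl invSM) (g00 SM rfl)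
    (allConseq_sound (g0 x y) ι0 o0 (hι0 h) (ho0 h) T1 SM (hT1 h) _ _ conseqM)
    (K x y) (by
      intro s hs
      have : s = 6 ∨ s = 8 := by simpa [certM] using hs
      rcases this with rfl | rfl
      · exact Subgroup.subset_closure ⟨1, by simp, rfl⟩
      · exact Subgroup.subset_closure ⟨3, by simp, rfl⟩) (M x y) le_rfl
  exact ⟨this.1, this.2.trans (Nat.mul_le_mul_left _ (card_K h).2)⟩

/-- **Upper bound**: the group generated by `x` and `y` has order at most `|M24|`. -/
theorem card_closure (h : Rels x y) : Finite (Subgroup.closure ({x, y} : Set G)) ∧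
    Nat.card (Subgroup.closure ({x, y} : Set G)) ≤ 244823040 := by
  have := (card_M h).1
  have := card_le certG relsG certG_check 276 3 certG_L certG_D certG_close (gS (g0 x y) SG)
    (inv_all (g0 x y) ι0 o0 (hι0 h) (ho0 h) SG certG.inv rfl rfl invSG) (g00 SG rfl)
    (allConseq_sound (g0 x y) ι0 o0 (hι0 h) (ho0 h) relsW SG (hT0 h) _ _ conseqG)
    (M x y) (by
      intro s hs
      have : s = 4 ∨ s = 6 ∨ s = 8 := by simpa [certG] using hs
      rcases this with rfl | rfl | rfl
      · exact Subgroup.subset_closure ⟨1, by simp, rfl⟩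
      · exact Subgroup.subset_closure ⟨3, by simp, rfl⟩
      · exact Subgroup.subset_closure ⟨5, by simp, rfl⟩)
    (Subgroup.closure ({x, y} : Set G)) (by
      rw [Subgroup.closure_le]
      rintro z (rfl | rfl)
      · exact Subgroup.subset_closure ⟨1, by simp, by simp [gS, SG, prodL, g0]⟩
      · exact Subgroup.subset_closure ⟨2, by simp, by simp [gS, SG, prodL, g0]⟩)
  exact ⟨this.1, this.2.trans (Nat.mul_le_mul_left 276 (card_M h).2)⟩

end

end Cfsg.Agent.J4.M24Pres
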