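import Cfsg.Agent.J4.Classes
import Cfsg.Agent.J4.NonConjData
import Cfsg.Agent.Lib.F2Rank

/-!
# The sextet and the duad involutions are not conjugate in GL(112, 2)
-/

set_option autoImplicit false

namespace Cfsg.Agent.J4.NonConj

open Cfsg.Agent.Lib Cfsg.Agent.Lib.F2MatGroup Cfsg.Agent.J4.Rep112 Cfsg.Agent.J4.Lower
open Cfsg.Agent.J4.Classes Cfsg.Agent.J4.ClassesData Cfsg.Agent.J4.LowerData Cfsg.Agent.J4.Beta
open Cfsg.Agent.J4.NonConjData

theorem checkZD : run 112 (slpQ ++ slpC) codes (fun L =>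
    cond (Nat.beq (get (F2Mat.one 112) L 52) Zc) (Nat.beq (get (F2Mat.one 112) L 40) Dc) false) =
    true := by decide +kernel

theorem codes_ZD : Codes 112 (beta qs 1024) Zc ∧ Codes 112 (beta qs 5) Dc := by
  obtain ⟨L', h', hk⟩ := run_sound codes_gens checkZD
  rcases hb : Nat.beq (get (F2Mat.one 112) L' 52) Zc with _ | _
  · rw [hb] at hk; exact absurd hk Bool.false_ne_true
  · rw [hb] at hk
    have h1 := codes_get h' 52
    have h2 := codes_get h' 40
    have hk' : Nat.beq (get (F2Mat.one 112) L' 40) Dc = true := hk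
    rw [Nat.eq_of_beq_eq_true hb, runG_append] at h1
    rw [Nat.eq_of_beq_eq_true hk', runG_append] at h2
    rw [← getG_52, ← getG_40]
    exact ⟨h1, h2⟩

theorem not_conj (g : GL (Fin 112) (ZMod 2)) : g * beta qs 1024 * g⁻¹ ≠ beta qs 5 := by
  have h := F2Rank.not_conj (n := 112) (a := 62) (b := 56) (by norm_num) (by norm_num) (by norm_num)
    codes_ZD.1 codes_ZD.2 (F := F) (W' := W1) (Ea := Ea) (U := U) (W := W2) (Eb := Eb)
    (by decide +kernel) (by decide +kernel) (by decide +kernel) (by decide +kernel)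
    (by decide +kernel) g
  exact h

end Cfsg.Agent.J4.NonConj
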