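import Cfsg.Agent.J4.M24Hom

/-!
# Packed permutations of 24 points

A permutation `g` of the 24 points is stored as a natural number whose `i`-th byte is `8 * j`, where
`j` is the label of `g⁻¹` applied to the point labelled `i`.  All functions are written with
`Nat.rec` and the accelerated operations on natural numbers so that the kernel evaluates them fast.
-/

set_option autoImplicit false

open Cfsg

namespace Cfsg.Agent.J4.Packed

open Cfsg.Agent.J4.M24Hom

/-- evaluate a natural number before continuing -/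
def force {α : Type} (n : ℕ) (k : ℕ → α) : α :=
  Nat.rec (k (nat_lit 0)) (fun m _ => k (Nat.succ m)) n

@[simp] theorem force_eq {α : Type} (n : ℕ) (k : ℕ → α) : force n k = k n := by
  cases n <;> rfl

/-- old point with a given label -/
def labInv : List ℕ :=
  [7, 10, 11, 19, 8, 9, 14, 17, 0, 3, 6, 16, 13, 15, 18, 22, 1, 4, 5, 21, 2, 12, 20, 23]

/-- the point labelled `i` -/
def lab (i : ℕ) : GolayPt := pt (labInv.getD i 0)

theorem lab_inj : ∀ i < 24, ∀ j < 24, lab i = lab j → i = j := by decide +kernel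

theorem lab_surj : ∀ p : GolayPt, ∃ i, i < 24 ∧ lab i = p := by
  have h : ∀ p : GolayPt, ∃ i : Fin 24, lab i = p := by decide +kernel
  intro p
  obtain ⟨i, hi⟩ := h p
  exact ⟨i, i.2, hi⟩

/-- byte extraction at a bit offset -/
def bAt (n s : ℕ) : ℕ := Nat.land (Nat.shiftRight n s) (nat_lit 255)

/-- the `i`-th byte -/
def getb (n i : ℕ) : ℕ := Nat.land (Nat.shiftRight n (Nat.mul (nat_lit 8) i)) (nat_lit 255)

/-- product loop -/
def pmulAux (a b n : ℕ) : ℕ → ℕ :=
  Nat.rec (fun acc => acc) (fun n ih acc => ih (Nat.lor acc (Nat.shiftLeft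
    (Nat.land (Nat.shiftRight b (Nat.land (Nat.shiftRight a (Nat.mul (nat_lit 8) n)) (nat_lit 255)))
      (nat_lit 255)) (Nat.mul (nat_lit 8) n)))) n

/-- product of packed permutations: `a` then `b` -/
def pmul (a b : ℕ) : ℕ :=
  force a fun a => force b fun b => pmulAux a b (nat_lit 24) (nat_lit 0)

theorem testBit_getb (n i k : ℕ) :
    (getb n i).testBit k = (n.testBit (8 * i + k) && decide (k < 8)) := by
  have h : getb n i = (n >>> (8 * i)) &&& (2 ^ 8 - 1) := rfl
  rw [h, Nat.testBit_and, Nat.testBit_shiftRight, Nat.testBit_two_pow_sub_one]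

theorem getb_lt (n i : ℕ) : getb n i < 256 := by
  have h : getb n i = (n >>> (8 * i)) &&& (2 ^ 8 - 1) := rfl
  rw [h, Nat.and_two_pow_sub_one_eq_mod]
  exact Nat.mod_lt _ (by norm_num)

theorem getb_lor_shift (acc v n i : ℕ) (hv : v < 256) :
    getb (Nat.lor acc (Nat.shiftLeft v (Nat.mul 8 n))) i =
      if i = n then getb acc i ||| v else getb acc i := by
  apply Nat.eq_of_testBit_eq
  intro k
  have h1 : Nat.lor acc (Nat.shiftLeft v (Nat.mul 8 n)) = acc ||| (v <<< (8 * n)) := rfl
  rw [testBit_getb, h1, Nat.testBit_or, Nat.testBit_shiftLeft]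
  by_cases hk : k < 8
  · by_cases hi : i = n
    · subst hi
      simp [hk, testBit_getb]
    · rw [if_neg hi, testBit_getb]
      simp only [hk, decide_true, Bool.and_true]
      rcases Nat.lt_or_gt_of_ne hi with h | h
      · have : ¬ (8 * n ≤ 8 * i + k) := by omega
        simp [this]
      · have h2 : v.testBit (8 * i + k - 8 * n) = false := by
          apply Nat.testBit_lt_two_pow
          calc v < 2 ^ 8 := by simpa using hv
            _ ≤ 2 ^ (8 * i + k - 8 * n) := Nat.pow_le_pow_right (by norm_num) (by omega)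
        simp [h2]
  · by_cases hi : i = n
    · rw [if_pos hi, Nat.testBit_or, testBit_getb]
      have h2 : v.testBit k = false := by
        apply Nat.testBit_lt_two_pow
        calc v < 2 ^ 8 := by simpa using hv
          _ ≤ 2 ^ k := Nat.pow_le_pow_right (by norm_num) (by omega)
      simp [hk, h2]
    · rw [if_neg hi, testBit_getb]
      simp [hk]

theorem land255_lt (m : ℕ) : Nat.land m 255 < 256 := by
  have h : Nat.land m 255 = m &&& (2 ^ 8 - 1) := rfl
  rw [h, Nat.and_two_pow_sub_one_eq_mod]
  exact Nat.mod_lt _ (by norm_num)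

theorem getb_pmulAux (a b n acc i : ℕ) :
    getb (pmulAux a b n acc) i =
      if i < n then getb acc i ||| bAt b (getb a i) else getb acc i := by
  induction n generalizing acc with
  | zero => simp [pmulAux]
  | succ n ih =>
    have h : pmulAux a b (n + 1) acc = pmulAux a b n (Nat.lor acc (Nat.shiftLeft
        (Nat.land (Nat.shiftRight b (Nat.land (Nat.shiftRight a (Nat.mul 8 n)) 255)) 255)
        (Nat.mul 8 n))) := rfl
    rw [h, ih, getb_lor_shift _ _ _ _ (land255_lt _)]
    have h2 : Nat.land (Nat.shiftRight b (Nat.land (Nat.shiftRight a (Nat.mul 8 n)) 255)) 255 =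
        bAt b (getb a n) := rfl
    rw [h2]
    by_cases h3 : i = n
    · subst h3
      simp
    · by_cases h4 : i < n
      · have : i < n + 1 := by omega
        simp [h3, h4, this]
      · have : ¬ i < n + 1 := by omega
        simp [h3, h4, this]

theorem getb_zero (i : ℕ) : getb 0 i = 0 := by
  apply Nat.eq_of_testBit_eq
  intro k
  rw [testBit_getb]; simp

theorem getb_pmul (a b i : ℕ) (hi : i < 24) : getb (pmul a b) i = bAt b (getb a i) := by
  have h : pmul a b = pmulAux a b 24 0 := by simp [pmul]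
  rw [h, getb_pmulAux, if_pos hi, getb_zero, Nat.zero_or]

/-- the packed number `n` represents the element `g` of `M24` -/
def Rep (n : ℕ) (g : M24) : Prop :=
  ∀ i < 24, ∃ j < 24, getb n i = 8 * j ∧ ((g⁻¹ : M24) : Equiv.Perm GolayPt) (lab i) = lab j

/-- the packed identity -/
def ID : ℕ := nat_lit 4528587414232371672327021198331688533828430582248316602368


theorem getb_ID : ∀ i < 24, getb ID i = 8 * i := by decide +kernel

theorem rep_one : Rep ID 1 := by
  intro i hi
  refine ⟨i, hi, getb_ID i hi, ?_⟩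
  simp

theorem rep_mul {a b : ℕ} {g h : M24} (ha : Rep a g) (hb : Rep b h) : Rep (pmul a b) (g * h) := by
  intro i hi
  obtain ⟨j, hj, h1, h2⟩ := ha i hi
  obtain ⟨k, hk, h3, h4⟩ := hb j hj
  refine ⟨k, hk, ?_, ?_⟩
  · rw [getb_pmul a b i hi, h1, ← h3]; rfl
  · rw [mul_inv_rev, Subgroup.coe_mul, Equiv.Perm.mul_apply, h2, h4]

theorem rep_inj {n : ℕ} {g h : M24} (hg : Rep n g) (hh : Rep n h) : g = h := by
  have : g⁻¹ = h⁻¹ := by
    apply Subtype.ext
    apply Equiv.ext
    intro p
    obtain ⟨i, hi, rfl⟩ := lab_surj p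
    obtain ⟨j, hj, h1, h2⟩ := hg i hi
    obtain ⟨k, hk, h3, h4⟩ := hh i hi
    rw [h2, h4]
    have : j = k := by omega
    rw [this]
  exact inv_injective this

theorem rep_inv {p q : ℕ} {g : M24} (hp : Rep p g) (h : pmul p q = ID) : Rep q g⁻¹ := by
  intro j hj
  obtain ⟨i, hi, hij⟩ := lab_surj (((g : M24) : Equiv.Perm GolayPt) (lab j))
  obtain ⟨j', hj', h1, h2⟩ := hp i hi
  have h3 : j' = j := by
    apply lab_inj j' hj' j hj
    rw [← h2, hij]
    simp
  subst h3
  refine ⟨i, hi, ?_, ?_⟩
  · have h4 := getb_pmul p q i hi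
    rw [h, getb_ID i hi, h1] at h4
    rw [h4]; rfl
  · rw [inv_inv, hij]

/-- packed `X` -/
def PX : ℕ := nat_lit 4133975752138897484329184861732279058645075387001853728848
/-- packed `Y` -/
def PY : ℕ := nat_lit 2365475944610871158778441094370489263875870815845872580608

theorem rep_X : Rep PX XM := by
  have h : ∀ i < 24, ∃ j < 24, getb PX i = 8 * j ∧ (X⁻¹ : Equiv.Perm GolayPt) (lab i) = lab j := by
    decide +kernel
  exact h

theorem rep_Y : Rep PY YM := by
  have h : ∀ i < 24, ∃ j < 24, getb PY i = 8 * j ∧ (Y⁻¹ : Equiv.Perm GolayPt) (lab i) = lab j := by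
    decide +kernel
  exact h

end Cfsg.Agent.J4.Packed
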