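import Cfsg.Agent.J4.SexReps
import Cfsg.Agent.J4.Nodes
import Cfsg.Agent.J4.FetchK
import Cfsg.Agent.J4.R2Data
/-!
# The stabiliser of a sextet
-/

set_option autoImplicit false

open Cfsg

noncomputable section

namespace Cfsg.Agent.J4.SexAll

open Cfsg.Agent.J4.M24Hom Cfsg.Agent.J4.Packed Cfsg.Agent.J4.Engine Cfsg.Agent.J4.Blocks
  Cfsg.Agent.J4.SexTab Cfsg.Agent.J4.SexReps Cfsg.Agent.J4.Nodes Cfsg.Agent.J4.R2Data Cfsg.Agent.J4.FetchK

theorem good0 : ∀ u < 1, Good RT ⊤ u := by
  intro u hu
  have h0 : u = 0 := by omega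
  subst h0
  have h1 : RT.get1 0 = ID := by decide +kernel
  have h2 : RT.get2 0 = ID := by decide +kernel
  refine ⟨1, Subgroup.mem_top _, ?_, ?_⟩
  · rw [h1]; exact rep_one
  · rw [h2, inv_one]; exact rep_one

theorem goodRT : ∀ t < 1771, Good RT ⊤ t := by
  have h1 : ∀ u < 201, Good RT ⊤ u := fun u hu => repChk_sound 200 _ 1 good0 r1 u (by omega)
  have h201 : ∀ u < 401, Good RT ⊤ u := fun u hu => repChk_sound 200 _ 201 h1 r201 u (by omega)
  have h401 : ∀ u < 601, Good RT ⊤ u := fun u hu => repChk_sound 200 _ 401 h201 r401 u (by omega)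
  have h601 : ∀ u < 801, Good RT ⊤ u := fun u hu => repChk_sound 200 _ 601 h401 r601 u (by omega)
  have h801 : ∀ u < 1001, Good RT ⊤ u := fun u hu => repChk_sound 200 _ 801 h601 r801 u (by omega)
  have h1001 : ∀ u < 1201, Good RT ⊤ u := fun u hu => repChk_sound 200 _ 1001 h801 r1001 u (by omega)
  have h1201 : ∀ u < 1401, Good RT ⊤ u := fun u hu => repChk_sound 200 _ 1201 h1001 r1201 u (by omega)
  have h1401 : ∀ u < 1601, Good RT ⊤ u := fun u hu => repChk_sound 200 _ 1401 h1201 r1401 u (by omega)
  have h1601 : ∀ u < 1771, Good RT ⊤ u := fun u hu => repChk_sound 170 _ 1601 h1401 r1601 u (by omega)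
  exact h1601

theorem codeF : ∀ t < 1771, F.find (code 5 (RT.get2 t) [0]) = t := by
  intro t ht
  rcases Nat.lt_or_ge t 200 with h | h
  · exact codeChk_sound 200 0 d0 t (by omega) (by omega)
  rcases Nat.lt_or_ge t 400 with h | h
  · exact codeChk_sound 200 200 d200 t (by omega) (by omega)
  rcases Nat.lt_or_ge t 600 with h | h
  · exact codeChk_sound 200 400 d400 t (by omega) (by omega)
  rcases Nat.lt_or_ge t 800 with h | h
  · exact codeChk_sound 200 600 d600 t (by omega) (by omega)
  rcases Nat.lt_or_ge t 1000 with h | h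
  · exact codeChk_sound 200 800 d800 t (by omega) (by omega)
  rcases Nat.lt_or_ge t 1200 with h | h
  · exact codeChk_sound 200 1000 d1000 t (by omega) (by omega)
  rcases Nat.lt_or_ge t 1400 with h | h
  · exact codeChk_sound 200 1200 d1200 t (by omega) (by omega)
  rcases Nat.lt_or_ge t 1600 with h | h
  · exact codeChk_sound 200 1400 d1400 t (by omega) (by omega)
  exact codeChk_sound 171 1600 d1600 t (by omega) (by omega)

theorem mask_ok : ∀ i < 23, blk 5 i = blk 5 (i + 1) → ∀ k < 8, 5 ≤ k →
    maskS.testBit (8 * i + k) = true := by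
  decide +kernel

/-- first generator -/
def ga : M24 := el G1

/-- packed form -/
abbrev pa : ℕ := G1

/-- second generator -/
def gb : M24 := el G2

/-- packed form -/
abbrev pb : ℕ := G2

theorem rep_ga : Rep pa ga := ex_of_ploop goodM xG1

theorem rep_gb : Rep pb gb := ex_of_ploop goodM xG2

/-- the stabiliser -/
def K : Subgroup M24 := Subgroup.closure {ga, gb}

theorem K_le : K ≤ BS 5 := by
  unfold K
  rw [Subgroup.closure_le]
  rintro z (rfl | rfl)
  · exact kchk_sound mask_ok rep_ga (by decide +kernel)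
  · exact kchk_sound mask_ok rep_gb (by decide +kernel)

theorem seedsK : ∀ m < 3, Good KT K m := by
  intro m hm
  have h0 : KT.get1 0 = ID := by decide +kernel
  have h0' : KT.get2 0 = ID := by decide +kernel
  have h1 : KT.get1 1 = pa := by decide +kernel
  have h1' : pmul pa (KT.get2 1) = ID := by decide +kernel
  have h2 : KT.get1 2 = pb := by decide +kernel
  have h2' : pmul pb (KT.get2 2) = ID := by decide +kernel
  rcases (by omega : m = 0 ∨ m = 1 ∨ m = 2) with rfl | rfl | rfl
  · refine ⟨1, K.one_mem, ?_, ?_⟩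
    · rw [h0]; exact rep_one
    · rw [h0', inv_one]; exact rep_one
  · refine ⟨ga, Subgroup.subset_closure (by simp), ?_, ?_⟩
    · rw [h1]; exact rep_ga
    · exact rep_inv rep_ga h1'
  · refine ⟨gb, Subgroup.subset_closure (by simp), ?_, ?_⟩
    · rw [h2]; exact rep_gb
    · exact rep_inv rep_gb h2'

theorem goodKT : ∀ m < 68, Good KT K m := by
  have h := chkProd_sound KT K KD 3 seedsK kd
  have hl : KD.len = 65 := by decide +kernel
  intro m hm
  exact h m (by omega)

theorem card_K : 138240 ≤ Nat.card K := by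
  have h := chain_card (S := K) (fetch := fetchK KT 68) (fetchK_sound goodKT) KL
    (by decide +kernel)
  have hp : KL.prod = 138240 := by decide +kernel
  rwa [hp] at h

theorem all : BS 5 = K ∧ ∀ g : M24, ∃ t < 1771, ∃ A w : M24, Rep (RT.get2 t) A ∧ w ∈ K ∧ g = A * w :=
  cosets K_le (by norm_num) card_K (by decide) goodRT codeF

theorem commK {G : Type*} [Group G] (φ : M24 →* G) (τ : G) (ha : Commute τ (φ ga))
    (hb : Commute τ (φ gb)) : ∀ w ∈ K, Commute τ (φ w) := by
  intro w hw
  induction hw using Subgroup.closure_induction with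
  | mem x hx =>
    rcases hx with rfl | rfl
    · exact ha
    · exact hb
  | one => rw [map_one]; exact Commute.one_right τ
  | mul x y _ _ hx hy => rw [map_mul]; exact hx.mul_right hy
  | inv x _ hx => rw [map_inv]; exact hx.inv_right

theorem kok {G : Type*} [Group G] (φ : M24 →* G) (τ : G) (ha : Commute τ (φ ga))
    (hb : Commute τ (φ gb)) : KOK φ τ maskS := by
  intro w W hW h
  have h1 : W ∈ K := by
    rw [← all.1]; exact kchk_sound mask_ok hW h
  exact commK φ τ ha hb W h1

end Cfsg.Agent.J4.SexAll
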