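import Cfsg.Agent.J4.TrioAll
import Cfsg.Agent.J4.SexAll
import Cfsg.Agent.J4.R2Data

/-!
# The relations of the involution and their consequences
-/

set_option autoImplicit false

open Cfsg

noncomputable section

namespace Cfsg.Agent.J4.Rel

open Cfsg.Agent.J4.M24Hom Cfsg.Agent.J4.Packed Cfsg.Agent.J4.Engine Cfsg.Agent.J4.Check
  Cfsg.Agent.J4.Nodes Cfsg.Agent.J4.FetchK Cfsg.Agent.J4.R2Data

/-- a word -/
def w1 : M24 := YM * XM * YM⁻¹ * XM * YM * XM * YM⁻¹ * XM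
/-- a word -/
def w2 : M24 := (XM * YM) ^ 3 * YM * (XM * YM) ^ 6 * YM
/-- a word -/
def mB : M24 := (YM * XM * YM * XM * YM * XM * YM) ^ 3
/-- a word -/
def ws : M24 := (YM * XM) ^ 4 * YM⁻¹ * XM

/-- the relations involving the involution -/
structure TRel {G : Type*} [Group G] (φ : M24 →* G) (τ : G) : Prop where
  sq : τ * τ = 1
  cx : Commute τ (φ XM)
  cz : Commute τ (φ TrioAll.gb)
  rA : (φ YM * ((φ w1)⁻¹ * τ * φ w1)) ^ 3 = 1
  rB : (φ mB * τ * ((φ w2)⁻¹ * τ * φ w2)) ^ 2 = 1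

/-- packed constant -/
def pw1 : ℕ := nat_lit 3743138469815616900879998382249638035646438136682910324808
/-- packed constant -/
def pw1i : ℕ := nat_lit 2561632345792641176941006626864257803995573194313673760808
/-- packed constant -/
def pw2 : ℕ := nat_lit 590067724069171980499409251777769899710561625959761489928
/-- packed constant -/
def pw2i : ℕ := nat_lit 3139368128677292520651904878592761139749211933599987662928
/-- packed constant -/
def pmB : ℕ := nat_lit 591561237797878383410280525469757074122596889854504112288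
/-- packed constant -/
def pws : ℕ := nat_lit 986933220590786238612325986801494233800178837501316214888
/-- packed constant -/
def pwsi : ℕ := nat_lit 1766231252949766234374986450221015954887039337702737068088
/-- packed constant -/
def pAL : ℕ := nat_lit 4521670231798349407518338668012177863106988832799734106128
/-- packed constant -/
def pALi : ℕ := nat_lit 4517830013572539212312337493263567300452148689682596628528
/-- packed constant -/
def pGA : ℕ := nat_lit 3154648279655198606498965795738207060953282623026982559888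
/-- packed constant -/
def pGAi : ℕ := nat_lit 3535533180028955809584532579341560516509863649306766489688

theorem rep_w1 : Rep pw1 w1 := by
  have h := rep_of_word (p := pw1) [1, 0, 2, 0, 1, 0, 2, 0] (by decide +kernel)
  have h2 : wordG [1, 0, 2, 0, 1, 0, 2, 0] = w1 := by
    simp [wordG, letG0, letG1, letG2, w1, mul_assoc]
  rwa [h2] at h

theorem rep_w2 : Rep pw2 w2 := by
  have h := rep_of_word (p := pw2) [0, 1, 0, 1, 0, 1, 1, 0, 1, 0, 1, 0, 1, 0, 1, 0, 1, 0, 1, 1] (by decide +kernel)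
  have h2 : wordG [0, 1, 0, 1, 0, 1, 1, 0, 1, 0, 1, 0, 1, 0, 1, 0, 1, 0, 1, 1] = w2 := by
    simp [wordG, letG0, letG1, w2, pow_succ, mul_assoc]
  rwa [h2] at h

theorem rep_mB : Rep pmB mB := by
  have h := rep_of_word (p := pmB) [1, 0, 1, 0, 1, 0, 1, 1, 0, 1, 0, 1, 0, 1, 1, 0, 1, 0, 1, 0, 1] (by decide +kernel)
  have h2 : wordG [1, 0, 1, 0, 1, 0, 1, 1, 0, 1, 0, 1, 0, 1, 1, 0, 1, 0, 1, 0, 1] = mB := by
    simp [wordG, letG0, letG1, mB, pow_succ, mul_assoc]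
  rwa [h2] at h

theorem rep_ws : Rep pws ws := by
  have h := rep_of_word (p := pws) [1, 0, 1, 0, 1, 0, 1, 0, 2, 0] (by decide +kernel)
  have h2 : wordG [1, 0, 1, 0, 1, 0, 1, 0, 2, 0] = ws := by
    simp [wordG, letG0, letG1, letG2, ws, pow_succ, mul_assoc]
  rwa [h2] at h

theorem rep_w1i : Rep pw1i w1⁻¹ := rep_inv rep_w1 (by decide +kernel)
theorem rep_w2i : Rep pw2i w2⁻¹ := rep_inv rep_w2 (by decide +kernel)
theorem rep_wsi : Rep pwsi ws⁻¹ := rep_inv rep_ws (by decide +kernel)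

/-- multiplier of the first relation -/
def al : M24 := w1 * YM * w1⁻¹
/-- multiplier of the second relation -/
def be : M24 := w2⁻¹
/-- multiplier of the second relation -/
def ga : M24 := w2 * mB

theorem rep_al : Rep pAL al := by
  have h := rep_mul (rep_mul rep_w1 rep_Y) rep_w1i
  rwa [show pmul (pmul pw1 PY) pw1i = pAL by decide +kernel] at h

theorem rep_ali : Rep pALi al⁻¹ := rep_inv rep_al (by decide +kernel)

theorem rep_be : Rep pw2i be := rep_w2i

theorem rep_bei : Rep pw2 be⁻¹ := by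
  have h := rep_w2
  unfold be
  rwa [inv_inv]

theorem rep_ga : Rep pGA ga := by
  have h := rep_mul rep_w2 rep_mB
  rwa [show pmul pw2 pmB = pGA by decide +kernel] at h

theorem rep_gai : Rep pGAi ga⁻¹ := rep_inv rep_ga (by decide +kernel)

/-! ### Words -/

section words

variable {G : Type*} [Group G] {φ : M24 →* G} {τ : G}

theorem inv_self (hτ : τ * τ = 1) : τ⁻¹ = τ := inv_eq_of_mul_eq_one_right hτ

theorem loopA (h : TRel φ τ) : τ * φ al * τ * φ al * τ * φ al = 1 := by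
  have h1 : τ * φ al * τ * φ al * τ * φ al =
      τ * φ w1 * (φ YM * ((φ w1)⁻¹ * τ * φ w1)) ^ 3 * (φ w1)⁻¹ * τ⁻¹ := by
    unfold al
    rw [map_mul, map_mul, map_inv]
    simp only [pow_succ, pow_zero, one_mul]
    group
  rw [h1, h.rA]
  group

theorem loopB (h : TRel φ τ) :
    τ * φ be * τ * φ ga * τ * φ be * τ * φ ga = 1 := by
  have h1 : τ * φ be * τ * φ ga * τ * φ be * τ * φ ga =
      (φ mB)⁻¹ * (φ mB * τ * ((φ w2)⁻¹ * τ * φ w2)) ^ 2 * φ mB := by
    unfold be ga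
    rw [map_mul, map_inv]
    simp only [pow_succ, pow_zero, one_mul]
    group
  rw [h1, h.rB]
  group

theorem rot4 {a b : G} (h : τ * a * τ * b * τ * a * τ * b = 1) :
    τ * b * τ * a * τ * b * τ * a = 1 := by
  have h1 : τ * b * τ * a * τ * b * τ * a =
      (τ * a)⁻¹ * (τ * a * τ * b * τ * a * τ * b) * (τ * a) := by group
  rw [h1, h]; group

theorem eword3 {a : G} (hτ : τ * τ = 1) (h : τ * a * τ * a * τ * a = 1) :
    a⁻¹ * τ * a⁻¹ * τ * a⁻¹ = τ := by
  have h2 : a⁻¹ * τ⁻¹ * a⁻¹ * τ⁻¹ * a⁻¹ = (τ * a * τ * a * τ * a)⁻¹ * τ := by group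
  rw [inv_self hτ, h] at h2
  rw [h2]; group

theorem eword4 {a b : G} (hτ : τ * τ = 1) (h : τ * a * τ * b * τ * a * τ * b = 1) :
    b⁻¹ * τ * a⁻¹ * τ * b⁻¹ * τ * a⁻¹ = τ := by
  have h2 : b⁻¹ * τ⁻¹ * a⁻¹ * τ⁻¹ * b⁻¹ * τ⁻¹ * a⁻¹ =
      (τ * a * τ * b * τ * a * τ * b)⁻¹ * τ := by group
  rw [inv_self hτ, h] at h2
  rw [h2]; group

theorem ok3 {a : M24} {p pi : ℕ} (_ : Rep p a) (hpi : Rep pi a⁻¹) (hτ : τ * τ = 1)
    (h : τ * φ a * τ * φ a * τ * φ a = 1) : RuleOK φ τ [pi, pi, pi] τ := by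
  refine Or.inr ⟨[a⁻¹, a⁻¹, a⁻¹], .cons hpi (.cons hpi (.cons hpi .nil)), ?_⟩
  have := eword3 hτ h
  simpa [wval, mul_assoc] using this

theorem ok3P {a : M24} {p pi : ℕ} (_ : Rep p a) (hpi : Rep pi a⁻¹) (hτ : τ * τ = 1)
    (h : τ * φ a * τ * φ a * τ * φ a = 1) : RuleOK φ τ [pi, pi, pi, ID] 1 := by
  refine Or.inr ⟨[a⁻¹, a⁻¹, a⁻¹, 1], .cons hpi (.cons hpi (.cons hpi (.cons rep_one .nil))), ?_⟩
  have h1 := eword3 hτ h
  have h2 : wval φ τ [a⁻¹, a⁻¹, a⁻¹, 1] = ((φ a)⁻¹ * τ * (φ a)⁻¹ * τ * (φ a)⁻¹) * τ := by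
    simp [wval, mul_assoc]
  rw [h2, h1, hτ]

theorem ok4 {a b : M24} {pai pbi : ℕ} (ha : Rep pai a⁻¹) (hb : Rep pbi b⁻¹) (hτ : τ * τ = 1)
    (h : τ * φ a * τ * φ b * τ * φ a * τ * φ b = 1) : RuleOK φ τ [pbi, pai, pbi, pai] τ := by
  refine Or.inr ⟨[b⁻¹, a⁻¹, b⁻¹, a⁻¹], .cons hb (.cons ha (.cons hb (.cons ha .nil))), ?_⟩
  have := eword4 hτ h
  simpa [wval, mul_assoc] using this

theorem ok4P {a b : M24} {pai pbi : ℕ} (ha : Rep pai a⁻¹) (hb : Rep pbi b⁻¹) (hτ : τ * τ = 1)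
    (h : τ * φ a * τ * φ b * τ * φ a * τ * φ b = 1) : RuleOK φ τ [pbi, pai, pbi, pai, ID] 1 := by
  refine Or.inr ⟨[b⁻¹, a⁻¹, b⁻¹, a⁻¹, 1],
    .cons hb (.cons ha (.cons hb (.cons ha (.cons rep_one .nil)))), ?_⟩
  have h1 := eword4 hτ h
  have h2 : wval φ τ [b⁻¹, a⁻¹, b⁻¹, a⁻¹, 1] =
      ((φ b)⁻¹ * τ * (φ a)⁻¹ * τ * (φ b)⁻¹ * τ * (φ a)⁻¹) * τ := by
    simp [wval, mul_assoc]
  rw [h2, h1, hτ]

theorem okK {w : M24} {p pi : ℕ} (hp : Rep p w) (hpi : Rep pi w⁻¹) (hτ : τ * τ = 1)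
    (h : Commute τ (φ w)) : RuleOK φ τ [ID, pi, p] 1 := by
  refine Or.inr ⟨[1, w⁻¹, w], .cons rep_one (.cons hpi (.cons hp .nil)), ?_⟩
  have h1 : τ * ((φ w)⁻¹ * (τ * φ w)) = 1 := by
    rw [h.eq, inv_mul_cancel_left, hτ]
  simpa [wval, mul_assoc] using h1

theorem okI : RuleOK φ τ [ID] 1 := Or.inr ⟨[1], .cons rep_one .nil, by simp [wval]⟩

theorem okT (hτ : τ * τ = 1) : RuleOK φ τ [ID, ID, ID] 1 :=
  Or.inr ⟨[1, 1, 1], .cons rep_one (.cons rep_one (.cons rep_one .nil)), by simp [wval, hτ]⟩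

theorem ok1 : RuleOK φ τ [ID, ID] τ :=
  Or.inr ⟨[1, 1], .cons rep_one (.cons rep_one .nil), by simp [wval]⟩

theorem okN (v : G) : RuleOK φ τ [] v := Or.inl rfl

/-! ### The first small enumeration: a commutator relation -/

/-- `κ` -/
def kap : M24 := el KAP

theorem rep_kap : Rep KAP kap := ex_of_ploop goodM xKAP

theorem rep_kapi : Rep KAPi kap⁻¹ := rep_inv rep_kap (by decide +kernel)

theorem kokT (h : TRel φ τ) : KOK φ τ maskT := TrioAll.kok φ τ h.cx h.cz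

theorem setupA (h : TRel φ τ) : Setup φ τ ⊥ (cN φ τ DTA) MTab.MT maskT false 131 eRA pRA
    (defOKof DTA) noAx where
  hτ := h.sq
  hK := kokT h
  hab := by simp
  hM := goodM
  hE := fun r => match r with
    | 0 => ok4 rep_bei rep_gai h.sq (loopB h)
    | 1 => ok3 rep_al rep_ali h.sq (loopA h)
    | (_ + 2) => okN τ
  hP := fun _ => okN 1
  hdef := fun _ _ _ _ h1 h2 => cN_def h1 h2
  hax := fun _ _ _ _ _ h1 _ => absurd h1 (by simp [noAx])

theorem loopC (h : TRel φ τ) : τ * φ kap * τ * (φ kap)⁻¹ * τ * φ kap * τ * (φ kap)⁻¹ = 1 := by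
  have hF : ∀ m < 9, Holds φ τ ⊥ (cN φ τ DTA) 6 (TBA.get m) := by
    intro m hm
    have hl : LA0.len = 9 := by decide +kernel
    exact chkL_sound (setupA h) LA0 0 (fun _ h => absurd h (Nat.not_lt_zero _)) cA0 m (by omega)
  have h1 := tgt_sound hF h.sq (kokT h) [ID, KAP, KAPi, KAP, KAPi] [1, kap, kap⁻¹, kap, kap⁻¹]
    (.cons rep_one (.cons rep_kap (.cons rep_kapi (.cons rep_kap (.cons rep_kapi .nil))))) _ tC
  simpa [wval, mul_assoc] using h1

/-! ### Words for the sextet involutions -/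

/-- conjugating element -/
def mM : M24 := el MM

theorem rep_mM : Rep MM mM := ex_of_ploop goodM xMM

theorem rep_mMi : Rep MMi mM⁻¹ := rep_inv rep_mM (by decide +kernel)

/-- the word of the sextet involution -/
def eG : List M24 := [mM * YM * ws⁻¹, ws * YM * ws⁻¹, ws * YM * ws⁻¹, ws * mM⁻¹]

/-- the inverse word -/
def eiG : List M24 :=
  [(ws * mM⁻¹)⁻¹, (ws * YM * ws⁻¹)⁻¹, (ws * YM * ws⁻¹)⁻¹, (mM * YM * ws⁻¹)⁻¹]

theorem rep_congr {p q : ℕ} {g : M24} (h : Rep p g) (hpq : p = q) : Rep q g := hpq ▸ h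

theorem rep_eG : List.Forall₂ Rep eP eG := by
  refine .cons (rep_congr (rep_mul (rep_mul rep_mM rep_Y) rep_wsi) (by decide +kernel)) ?_
  refine .cons (rep_congr (rep_mul (rep_mul rep_ws rep_Y) rep_wsi) (by decide +kernel)) ?_
  refine .cons (rep_congr (rep_mul (rep_mul rep_ws rep_Y) rep_wsi) (by decide +kernel)) ?_
  exact .cons (rep_congr (rep_mul rep_ws rep_mMi) (by decide +kernel)) .nil

theorem rep_eiG : List.Forall₂ Rep eiP eiG := by
  refine .cons (rep_inv (rep_mul rep_ws rep_mMi) (by decide +kernel)) ?_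
  refine .cons (rep_inv (rep_mul (rep_mul rep_ws rep_Y) rep_wsi) (by decide +kernel)) ?_
  refine .cons (rep_inv (rep_mul (rep_mul rep_ws rep_Y) rep_wsi) (by decide +kernel)) ?_
  exact .cons (rep_inv (rep_mul (rep_mul rep_mM rep_Y) rep_wsi) (by decide +kernel)) .nil

variable (φ τ) in
/-- the sextet involution -/
def eE : G := wval φ τ eG

theorem wval_inv4 (hτ : τ * τ = 1) (a b c d : M24) :
    wval φ τ [d⁻¹, c⁻¹, b⁻¹, a⁻¹] = (wval φ τ [a, b, c, d])⁻¹ := by
  rw [wval_four, wval_four]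
  simp only [mul_inv_rev, inv_self hτ, map_inv, mul_assoc]

theorem wval_eiG (hτ : τ * τ = 1) : wval φ τ eiG = (eE φ τ)⁻¹ :=
  wval_inv4 hτ _ _ _ _

/-- word -/
def lG : List M24 := [el (lP.getD 0 (nat_lit 0)), el (lP.getD 1 (nat_lit 0)),
  el (lP.getD 2 (nat_lit 0)), el (lP.getD 3 (nat_lit 0))]
/-- word -/
def aG : List M24 := [el (aP.getD 0 (nat_lit 0)), el (aP.getD 1 (nat_lit 0)),
  el (aP.getD 2 (nat_lit 0)), el (aP.getD 3 (nat_lit 0))]
/-- word -/
def gG : List M24 := [el (gP.getD 0 (nat_lit 0)), el (gP.getD 1 (nat_lit 0)),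
  el (gP.getD 2 (nat_lit 0)), el (gP.getD 3 (nat_lit 0))]
/-- word -/
def giG : List M24 := [(el (gP.getD 3 (nat_lit 0)))⁻¹, (el (gP.getD 2 (nat_lit 0)))⁻¹,
  (el (gP.getD 1 (nat_lit 0)))⁻¹, (el (gP.getD 0 (nat_lit 0)))⁻¹]

theorem rep_lG : List.Forall₂ Rep lP lG :=
  .cons (ex_of_ploop goodM xlP0) (.cons (ex_of_ploop goodM xlP1)
    (.cons (ex_of_ploop goodM xlP2) (.cons (ex_of_ploop goodM xlP3) .nil)))

theorem rep_aG : List.Forall₂ Rep aP aG :=
  .cons (ex_of_ploop goodM xaP0) (.cons (ex_of_ploop goodM xaP1)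
    (.cons (ex_of_ploop goodM xaP2) (.cons (ex_of_ploop goodM xaP3) .nil)))

theorem rep_gG : List.Forall₂ Rep gP gG :=
  .cons (ex_of_ploop goodM xgP0) (.cons (ex_of_ploop goodM xgP1)
    (.cons (ex_of_ploop goodM xgP2) (.cons (ex_of_ploop goodM xgP3) .nil)))

theorem rep_giG : List.Forall₂ Rep giP giG :=
  .cons (rep_inv (ex_of_ploop goodM xgP3) (by decide +kernel))
    (.cons (rep_inv (ex_of_ploop goodM xgP2) (by decide +kernel))
    (.cons (rep_inv (ex_of_ploop goodM xgP1) (by decide +kernel))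
    (.cons (rep_inv (ex_of_ploop goodM xgP0) (by decide +kernel)) .nil)))

/-- `δ` -/
def de : M24 := el DE

theorem rep_de : Rep DE de := ex_of_ploop goodM xDE

theorem rep_dei : Rep DEi de⁻¹ := rep_inv rep_de (by decide +kernel)

theorem rep_dede : Rep DEDE (de * de) := rep_congr (rep_mul rep_de rep_de) (by decide +kernel)

theorem rep_dedei : Rep DEDEi (de * de)⁻¹ := rep_inv rep_dede (by decide +kernel)

theorem de_cube : de * de * de = 1 :=
  rep_inj (rep_congr (rep_mul rep_dede rep_de) (by decide +kernel : pmul DEDE DE = ID)) rep_one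

theorem rep_g1i : Rep G1i SexAll.ga⁻¹ := rep_inv SexAll.rep_ga (by decide +kernel)

theorem rep_g2i : Rep G2i SexAll.gb⁻¹ := rep_inv SexAll.rep_gb (by decide +kernel)

/-! ### The second small enumeration -/

theorem setupB (h : TRel φ τ) : Setup φ τ ⊥ (cN φ τ DTB) MTab.MT maskT false 131 eRB pRB
    (defOKof DTB) noAx where
  hτ := h.sq
  hK := kokT h
  hab := by simp
  hM := goodM
  hE := fun r => match r with
    | 0 => ok3 rep_al rep_ali h.sq (loopA h)
    | 1 => by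
      have h1 : Rep KAP (kap⁻¹)⁻¹ := by rw [inv_inv]; exact rep_kap
      exact ok4 rep_kapi h1 h.sq (by rw [map_inv]; exact loopC h)
    | 2 => by
      have h1 : Rep KAP (kap⁻¹)⁻¹ := by rw [inv_inv]; exact rep_kap
      exact ok4 h1 rep_kapi h.sq (by rw [map_inv]; exact rot4 (loopC h))
    | (_ + 3) => okN τ
  hP := fun _ => okN 1
  hdef := fun _ _ _ _ h1 h2 => cN_def h1 h2
  hax := fun _ _ _ _ _ h1 _ => absurd h1 (by simp [noAx])

theorem holdsB (h : TRel φ τ) : ∀ m < 240, Holds φ τ ⊥ (cN φ τ DTB) 32 (TBB.get m) := by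
  have l0 : LB0.len = 100 := by decide +kernel
  have l1 : LB100.len = 100 := by decide +kernel
  have l2 : LB200.len = 40 := by decide +kernel
  have h0 : ∀ m < 100, Holds φ τ ⊥ (cN φ τ DTB) 32 (TBB.get m) := fun m hm =>
    chkL_sound (setupB h) LB0 0 (fun _ h => absurd h (Nat.not_lt_zero _)) cB0 m (by omega)
  have h1 : ∀ m < 200, Holds φ τ ⊥ (cN φ τ DTB) 32 (TBB.get m) := fun m hm =>
    chkL_sound (setupB h) LB100 100 h0 cB100 m (by omega)
  exact fun m hm => chkL_sound (setupB h) LB200 200 h1 cB200 m (by omega)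

theorem e_sq (h : TRel φ τ) : eE φ τ * eE φ τ = 1 := by
  have h1 := tgt_sound (holdsB h) h.sq (kokT h) _ _ (rep_cat rep_eG rep_eG) _ tee
  rwa [wval_cat _ _ _ _ (by simp [eG]) (by simp [eG])] at h1

theorem e_comm1 (h : TRel φ τ) : Commute (eE φ τ) (φ SexAll.ga) := by
  have h1 := tgt_sound (holdsB h) h.sq (kokT h) _ _
    (rep_cat (rep_cat (rep_cat rep_eG (.cons SexAll.rep_ga .nil)) rep_eiG) (.cons rep_g1i .nil))
    _ teg1
  rw [wval_cat _ _ _ _ (catG_ne_nil _ _ (catG_ne_nil _ _ (by simp [eG]))) (by simp),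
    wval_cat _ _ _ _ (catG_ne_nil _ _ (by simp [eG])) (by simp [eiG]),
    wval_cat _ _ _ _ (by simp [eG]) (by simp), wval_eiG h.sq, wval_one, wval_one, map_inv] at h1
  have h2 : eE φ τ * φ SexAll.ga * (eE φ τ)⁻¹ = φ SexAll.ga := mul_inv_eq_one.mp h1
  exact (mul_inv_eq_iff_eq_mul.mp h2)

theorem e_comm2 (h : TRel φ τ) : Commute (eE φ τ) (φ SexAll.gb) := by
  have h1 := tgt_sound (holdsB h) h.sq (kokT h) _ _
    (rep_cat (rep_cat (rep_cat rep_eG (.cons SexAll.rep_gb .nil)) rep_eiG) (.cons rep_g2i .nil))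
    _ teg2
  rw [wval_cat _ _ _ _ (catG_ne_nil _ _ (catG_ne_nil _ _ (by simp [eG]))) (by simp),
    wval_cat _ _ _ _ (catG_ne_nil _ _ (by simp [eG])) (by simp [eiG]),
    wval_cat _ _ _ _ (by simp [eG]) (by simp), wval_eiG h.sq, wval_one, wval_one, map_inv] at h1
  have h2 : eE φ τ * φ SexAll.gb * (eE φ τ)⁻¹ = φ SexAll.gb := mul_inv_eq_one.mp h1
  exact (mul_inv_eq_iff_eq_mul.mp h2)

theorem l_eq (h : TRel φ τ) : wval φ τ lG = eE φ τ := by
  have h1 := tgt_sound (holdsB h) h.sq (kokT h) _ _ (rep_cat rep_lG rep_eiG) _ tL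
  rw [wval_cat _ _ _ _ (by simp [lG]) (by simp [eiG]), wval_eiG h.sq] at h1
  exact mul_inv_eq_one.mp h1

theorem a_eq (h : TRel φ τ) : wval φ τ aG = φ de * eE φ τ * (φ de)⁻¹ := by
  have h1 := tgt_sound (holdsB h) h.sq (kokT h) _ _
    (rep_cat (rep_cat (rep_cat (.cons rep_dei .nil) rep_aG) (.cons rep_de .nil)) rep_eiG) _ tS1
  rw [wval_cat _ _ _ _ (catG_ne_nil _ _ (catG_ne_nil _ _ (by simp))) (by simp [eiG]),
    wval_cat _ _ _ _ (catG_ne_nil _ _ (by simp)) (by simp),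
    wval_cat _ _ _ _ (by simp) (by simp [aG]), wval_eiG h.sq, wval_one, wval_one, map_inv] at h1
  have h2 := mul_inv_eq_one.mp h1
  rw [← h2]; group

theorem g_eq (h : TRel φ τ) : wval φ τ gG = φ de * φ de * eE φ τ * (φ de * φ de)⁻¹ := by
  have h1 := tgt_sound (holdsB h) h.sq (kokT h) _ _
    (rep_cat (rep_cat (rep_cat (.cons rep_dedei .nil) rep_gG) (.cons rep_dede .nil)) rep_eiG) _ tS2
  rw [wval_cat _ _ _ _ (catG_ne_nil _ _ (catG_ne_nil _ _ (by simp))) (by simp [eiG]),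
    wval_cat _ _ _ _ (catG_ne_nil _ _ (by simp)) (by simp),
    wval_cat _ _ _ _ (by simp) (by simp [gG]), wval_eiG h.sq, wval_one, wval_one, map_inv,
    map_mul] at h1
  have h2 := mul_inv_eq_one.mp h1
  rw [← h2]; group

/-! ### The third small enumeration -/

theorem setupC (h : TRel φ τ) : Setup φ τ ⊥ (cN φ τ DTC) MTab.MT maskT false 131 eRC pRC
    (defOKof DTC) noAx where
  hτ := h.sq
  hK := kokT h
  hab := by simp
  hM := goodM
  hE := fun r => match r with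
    | 0 => ok4 rep_bei rep_gai h.sq (loopB h)
    | 1 => ok3 rep_al rep_ali h.sq (loopA h)
    | (_ + 2) => okN τ
  hP := fun _ => okN 1
  hdef := fun _ _ _ _ h1 h2 => cN_def h1 h2
  hax := fun _ _ _ _ _ h1 _ => absurd h1 (by simp [noAx])

theorem line_eq (h : TRel φ τ) : wval φ τ lG * wval φ τ aG = wval φ τ gG := by
  have hF : ∀ m < 15, Holds φ τ ⊥ (cN φ τ DTC) 10 (TBC.get m) := by
    intro m hm
    have hl : LC0.len = 15 := by decide +kernel
    exact chkL_sound (setupC h) LC0 0 (fun _ h => absurd h (Nat.not_lt_zero _)) cC0 m (by omega)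
  have h1 := tgt_sound hF h.sq (kokT h) _ _ (rep_cat (rep_cat rep_lG rep_aG) rep_giG) _ tW
  have h2 : wval φ τ giG = (wval φ τ gG)⁻¹ := wval_inv4 h.sq _ _ _ _
  rw [wval_cat _ _ _ _ (catG_ne_nil _ _ (by simp [lG])) (by simp [giG]),
    wval_cat _ _ _ _ (by simp [lG]) (by simp [aG]), h2] at h1
  exact mul_inv_eq_one.mp h1

theorem loopD (h : TRel φ τ) :
    eE φ τ * φ de * eE φ τ * φ de * eE φ τ * φ de = 1 := by
  have h1 := line_eq h
  rw [l_eq h, a_eq h, g_eq h] at h1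
  have hd : φ de * φ de * φ de = 1 := by rw [← map_mul, ← map_mul, de_cube, map_one]
  set e := eE φ τ with he
  set d := φ de with hd'
  have h2 : e * d * e * d * e * d = (e * (d * e * d⁻¹)) * (d * d * e * (d * d)⁻¹) * (d * d * d) := by
    group
  rw [h2, h1, hd, mul_one]
  have h3 : d * d * e * (d * d)⁻¹ * (d * d * e * (d * d)⁻¹) = d * d * (e * e) * (d * d)⁻¹ := by group
  rw [h3, e_sq h]
  group

end words

end Cfsg.Agent.J4.Rel
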