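import Cfsg.Agent.J4.Upper1
import Cfsg.Agent.J4.Pres

/-!
# Upper bounds for the presented group J4
-/

set_option autoImplicit false

open Cfsg

noncomputable section

namespace Cfsg.Agent.J4.Upper

open Cfsg.Agent.J4.M24Hom Cfsg.Agent.J4.Packed Cfsg.Agent.J4.Engine Cfsg.Agent.J4.Check
  Cfsg.Agent.J4.Nodes Cfsg.Agent.J4.FetchK Cfsg.Agent.J4.Rel
  Cfsg.Agent.J4.Blocks Cfsg.Agent.J4.Index Cfsg.Agent.J4.Upper1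

section general

variable {G : Type*} [Group G] {φ : M24 →* G} {τ : G}

/-- the two involutions are conjugate -/
theorem eE_eq (hτ : τ * τ = 1) : eE φ τ = φ mM * sE φ τ * (φ mM)⁻¹ := by
  have h : eE φ τ = φ (mM * YM * ws⁻¹) * τ * φ (ws * YM * ws⁻¹) * τ * φ (ws * YM * ws⁻¹) * τ *
      φ (ws * mM⁻¹) := wval_four φ τ _ _ _ _
  rw [h]
  unfold sE
  simp only [map_mul, map_inv, pow_succ, pow_zero, one_mul]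
  group

/-- the group `2^11 : M24` -/
def HH (φ : M24 →* G) (τ : G) : Subgroup G := Subgroup.closure (insert (sE φ τ) (Set.range φ))

theorem range_le : φ.range ≤ HH φ τ := by
  rintro _ ⟨g, rfl⟩
  exact Subgroup.subset_closure (Set.mem_insert_of_mem _ ⟨g, rfl⟩)

theorem s_mem : sE φ τ ∈ HH φ τ := Subgroup.subset_closure (Set.mem_insert _ _)

theorem HH_eq (hτ : τ * τ = 1) : HH φ τ = Subgroup.closure (insert (eE φ τ) (Set.range φ)) := by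
  apply le_antisymm
  · unfold HH
    rw [Subgroup.closure_le]
    have hr : ∀ g, φ g ∈ Subgroup.closure (insert (eE φ τ) (Set.range φ)) := fun g =>
      Subgroup.subset_closure (Set.mem_insert_of_mem _ ⟨g, rfl⟩)
    rintro z (rfl | ⟨g, rfl⟩)
    · have h : sE φ τ = (φ mM)⁻¹ * eE φ τ * φ mM := by rw [eE_eq hτ]; group
      rw [h]
      exact mul_mem (mul_mem (inv_mem (hr _)) (Subgroup.subset_closure (Set.mem_insert _ _))) (hr _)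
    · exact hr g
  · rw [Subgroup.closure_le]
    rintro z (rfl | ⟨g, rfl⟩)
    · rw [eE_eq hτ]
      exact mul_mem (mul_mem (range_le ⟨_, rfl⟩) s_mem) (inv_mem (range_le ⟨_, rfl⟩))
    · exact range_le ⟨g, rfl⟩

theorem card_range_le : Nat.card φ.range ≤ 244823040 ∧ Nat.card φ.range ≠ 0 := by
  have hM : Nat.card M24 = 244823040 := Cfsg.Agent.SporadicA.M24Trans.card_M24
  constructor
  · rw [← hM]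
    exact Nat.card_le_card_of_surjective φ.rangeRestrict φ.rangeRestrict_surjective
  · have : Finite φ.range := Finite.of_surjective φ.rangeRestrict φ.rangeRestrict_surjective
    exact Nat.card_pos.ne'

/-- **(U1)** the order of `2^11 : M24` is at most `2^11 * 244823040` -/
theorem card_HH_le (h : TRel φ τ) : Nat.card (HH φ τ) ≤ 2 ^ 11 * 244823040 ∧
    Nat.card (HH φ τ) ≠ 0 := by
  rw [HH_eq h.sq]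
  set S : Set G := insert (eE φ τ) (Set.range φ) with hS
  have hr : ∀ g, φ g ∈ Subgroup.closure S := fun g =>
    Subgroup.subset_closure (Set.mem_insert_of_mem _ ⟨g, rfl⟩)
  have he : eE φ τ ∈ Subgroup.closure S := Subgroup.subset_closure (Set.mem_insert _ _)
  let φK : M24 →* Subgroup.closure S := φ.codRestrict (Subgroup.closure S) hr
  let eK : Subgroup.closure S := ⟨eE φ τ, he⟩
  have hgen : Subgroup.closure (insert eK (Set.range φK)) = ⊤ := by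
    rw [eq_top_iff, ← Subgroup.closure_closure_coe_preimage (k := S)]
    apply Subgroup.closure_mono
    rintro z hz
    rcases hz with hz | ⟨g, hg⟩
    · left; exact Subtype.ext hz
    · right; exact ⟨g, Subtype.ext hg⟩
  have key := Upper3.index3 (φ := φK) (τ := eK) (B := φK.range) le_rfl
    (Subtype.ext (e_sq h)) (Subtype.ext (e_comm1 h).eq) (Subtype.ext (e_comm2 h).eq)
    (Subtype.ext (loopD h)) hgen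
  have h1 := φK.range.card_mul_index
  obtain ⟨h2, h3⟩ := card_range_le (φ := φK)
  rw [← h1]
  constructor
  · calc Nat.card φK.range * φK.range.index ≤ 244823040 * 2048 := Nat.mul_le_mul h2 key.1
      _ = 2 ^ 11 * 244823040 := by norm_num
  · exact Nat.mul_ne_zero h3 key.2

/-- **(U2)** the index of `2^11 : M24` is at most `173067389` -/
theorem index_HH_le (h : TRel φ τ) (hgen : Subgroup.closure (insert τ (Set.range φ)) = ⊤) :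
    (HH φ τ).index ≤ 173067389 ∧ (HH φ τ).index ≠ 0 :=
  index1 h range_le s_mem hgen

theorem card_le (h : TRel φ τ) (hgen : Subgroup.closure (insert τ (Set.range φ)) = ⊤) :
    Nat.card G ≤ 86775571046077562880 ∧ Nat.card G ≠ 0 := by
  have h1 := (HH φ τ).card_mul_index
  obtain ⟨h2, h3⟩ := card_HH_le h
  obtain ⟨h4, h5⟩ := index_HH_le h hgen
  rw [← h1]
  constructor
  · calc Nat.card (HH φ τ) * (HH φ τ).index ≤ 2 ^ 11 * 244823040 * 173067389 :=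
        Nat.mul_le_mul h2 h4
      _ = 86775571046077562880 := by norm_num
  · exact Nat.mul_ne_zero h3 h5

/-! ### The double coset decomposition -/

/-- all elements are covered by the nodes -/
theorem cover {B : Subgroup G} {c : ℕ → G} {N NP : ℕ} {RT : PT} {K : Subgroup M24}
    (hτ : τ * τ = 1) (hN : 0 < N)
    (hc0 : c 0 = 1) (hB : φ.range ≤ B)
    (hgen : Subgroup.closure (insert τ (Set.range φ)) = ⊤)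
    (hcov : ∀ j < N, j ≠ 0 → ∀ t < NP, Cov φ τ B c N RT j t)
    (h01 : ∃ k < N, ∃ b : M24, τ * (c k * φ b)⁻¹ ∈ B)
    (hcos : ∀ g : M24, ∃ t < NP, ∃ A w : M24, Rep (RT.get2 t) A ∧ w ∈ K ∧ g = A * w)
    (hKc : ∀ w ∈ K, Commute τ (φ w)) :
    ∀ x : G, ∃ j < N, ∃ g : M24, x * (c j * φ g)⁻¹ ∈ B := by
  have hti : τ⁻¹ = τ := inv_eq_of_mul_eq_one_right hτ
  have hstep : ∀ x : G, (∃ j < N, ∃ g : M24, x * (c j * φ g)⁻¹ ∈ B) →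
      ∃ j < N, ∃ g : M24, x * τ * (c j * φ g)⁻¹ ∈ B := by
    rintro x ⟨j, hj, g, hx⟩
    by_cases hj0 : j = 0
    · subst hj0
      obtain ⟨k, hk, b, hb⟩ := h01
      rw [hc0, one_mul] at hx
      have hx' : x ∈ B := by
        have h12 := B.mul_mem hx (hB ⟨g, rfl⟩)
        rwa [inv_mul_cancel_right] at h12
      refine ⟨k, hk, b, ?_⟩
      rw [mul_assoc]
      exact B.mul_mem hx' hb
    · obtain ⟨t, ht, A, w, rA, hw, rfl⟩ := hcos g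
      obtain ⟨k, hk, b, hb⟩ := hcov j hj hj0 t ht A rA
      refine ⟨k, hk, b * w, ?_⟩
      have h1 : x * τ * (c j * φ (A * w) * τ)⁻¹ ∈ B := by
        have : x * τ * (c j * φ (A * w) * τ)⁻¹ = x * (c j * φ (A * w))⁻¹ := by group
        rwa [this]
      refine SInv.trans_aux h1 ?_
      have h2 : c j * φ (A * w) * τ = c j * φ A * τ * φ w := by
        rw [map_mul, mul_assoc (c j * φ A), (hKc w hw).eq]; group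
      rw [h2, map_mul]
      have h3 : c j * φ A * τ * φ w * (c k * (φ b * φ w))⁻¹ = c j * φ A * τ * (c k * φ b)⁻¹ := by
        group
      rwa [h3]
  have hmul : ∀ (h : M24) (x : G), (∃ j < N, ∃ g : M24, x * (c j * φ g)⁻¹ ∈ B) →
      ∃ j < N, ∃ g : M24, x * φ h * (c j * φ g)⁻¹ ∈ B := by
    rintro h x ⟨j, hj, g, hx⟩
    refine ⟨j, hj, g * h, ?_⟩
    have : x * φ h * (c j * φ (g * h))⁻¹ = x * (c j * φ g)⁻¹ := by rw [map_mul]; group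
    rwa [this]
  intro x
  have hx : x ∈ Subgroup.closure (insert τ (Set.range φ)) := by rw [hgen]; exact Subgroup.mem_top _
  induction hx using Subgroup.closure_induction_right with
  | one => exact ⟨0, hN, 1, by simp [hc0, B.one_mem]⟩
  | mul_right x hx y hy ih =>
    rcases hy with rfl | ⟨h, rfl⟩
    · exact hstep _ ih
    · exact hmul h _ ih
  | mul_inv_cancel x hx y hy ih =>
    rcases hy with rfl | ⟨h, rfl⟩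
    · rw [hti]; exact hstep _ ih
    · rw [← map_inv]; exact hmul _ _ ih

/-- value of a word: 0, 1, 2, 3 stand for `x`, `y`, `y⁻¹`, `t` -/
def evalW (φ : M24 →* G) (τ : G) : List ℕ → G
  | [] => 1
  | a :: l => (if a = 3 then τ else φ (letG a)) * evalW φ τ l

theorem evalW_append (u v : List ℕ) : evalW φ τ (u ++ v) = evalW φ τ u * evalW φ τ v := by
  induction u with
  | nil => simp [evalW]
  | cons a u ih => simp only [List.cons_append, evalW, ih, mul_assoc]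

theorem evalW_word (u : List ℕ) (h : ∀ a ∈ u, a ≠ 3) : evalW φ τ u = φ (wordG u) := by
  induction u with
  | nil => simp [evalW, wordG]
  | cons a u ih =>
    have ha : a ≠ 3 := h a List.mem_cons_self
    simp only [evalW, wordG, if_neg ha, map_mul, ih fun b hb => h b (List.mem_cons_of_mem _ hb)]

/-- parents of the nodes -/
def par (k : ℕ) : ℕ := [0, 0, 1, 2, 1, 2, 5, 6, 7, 8, 8, 10, 11, 5, 5, 9, 8, 2, 4, 3].getD k 0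

/-- connecting words of the nodes -/
def cw (k : ℕ) : List ℕ := ([[],
  [],
  [0, 2, 2, 0, 2, 2, 0, 2, 2, 0, 2, 0, 2, 2, 0, 2, 0, 2, 0, 2, 0, 2, 2],
  [2, 2, 0, 2, 2, 0, 2, 0, 2, 0, 2, 0, 2, 2, 0, 2, 2, 0, 2, 2, 0, 2, 0, 2, 0, 2, 0, 2, 0, 2],
  [0, 2, 2, 0, 2, 0, 2, 2, 0, 2, 2, 0, 2, 2, 0, 2],
  [0, 2, 2, 0, 2, 2, 0, 2, 2, 0, 2, 0, 2, 2, 0, 2, 0, 2, 0, 2, 0, 2, 2],
  [0, 2, 2, 0, 2, 2, 0, 2, 2, 0, 2, 0, 2, 2, 0, 2, 0, 2, 0, 2, 0, 2, 2],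
  [0, 2, 2, 0, 2, 2, 0, 2, 2, 0, 2, 0, 2, 2, 0, 2, 0, 2, 0, 2, 0, 2, 2],
  [2, 2, 0, 2, 0, 2, 0, 2, 0, 2, 2, 0, 2, 0, 2, 0, 2, 0, 2, 2, 0, 2, 0, 2, 0, 2, 2],
  [2, 0, 2, 2, 0, 2],
  [0, 2, 2, 0, 2, 0, 2, 2, 0, 2, 2, 0, 2, 2, 0, 2],
  [2, 2, 0, 2],
  [2, 0, 2, 2, 0, 2, 2, 0, 2, 2, 0, 2, 2, 0, 2, 2, 0, 2, 0, 2, 0, 2, 0, 2, 0, 2, 0, 2, 2],
  [0, 2, 2, 0, 2, 0, 2, 2, 0, 2, 2, 0, 2, 0, 2, 0, 2, 2, 0, 2, 0, 2],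
  [0, 2, 2, 0, 2, 0, 2, 0, 2, 0, 2, 0, 2, 2, 0, 2, 2, 0, 2, 2, 0, 2, 0, 2, 0, 2, 2],
  [2, 0, 2, 0, 2, 2, 0, 2, 0, 2, 2, 0, 2, 0, 2, 0, 2, 0, 2, 0, 2, 2, 0, 2, 0, 2, 2, 0, 2],
  [0, 2, 0, 2, 2, 0, 2, 0, 2, 2, 0, 2, 0, 2, 2, 0, 2, 2, 0, 2, 2, 0, 2],
  [0, 2, 0, 2, 2, 0, 2, 2, 0, 2, 0, 2, 0, 2, 2, 0, 2, 2, 0, 2, 2, 0, 2, 0, 2, 0, 2, 0, 2],
  [2, 0, 2, 0, 2, 0, 2, 0, 2, 0, 2, 0, 2, 2],
  [2, 2, 0, 2, 2, 0, 2, 0, 2, 2, 0, 2, 2, 0, 2, 2, 0, 2, 0, 2, 0, 2, 2]] : List (List ℕ)).getD k []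

/-- the words of the 20 double coset representatives -/
def rw20 (k : ℕ) : List ℕ := ([[],
  [3],
  [3, 0, 2, 2, 0, 2, 2, 0, 2, 2, 0, 2, 0, 2, 2, 0, 2, 0, 2, 0, 2, 0, 2, 2, 3],
  [3, 0, 2, 2, 0, 2, 2, 0, 2, 2, 0, 2, 0, 2, 2, 0, 2, 0, 2, 0, 2, 0, 2, 2, 3, 2, 2, 0, 2, 2, 0, 2, 0, 2, 0, 2, 0, 2, 2, 0, 2, 2, 0, 2, 2, 0, 2, 0, 2, 0, 2, 0, 2, 0, 2, 3],
  [3, 0, 2, 2, 0, 2, 0, 2, 2, 0, 2, 2, 0, 2, 2, 0, 2, 3],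
  [3, 0, 2, 2, 0, 2, 2, 0, 2, 2, 0, 2, 0, 2, 2, 0, 2, 0, 2, 0, 2, 0, 2, 2, 3, 0, 2, 2, 0, 2, 2, 0, 2, 2, 0, 2, 0, 2, 2, 0, 2, 0, 2, 0, 2, 0, 2, 2, 3],
  [3, 0, 2, 2, 0, 2, 2, 0, 2, 2, 0, 2, 0, 2, 2, 0, 2, 0, 2, 0, 2, 0, 2, 2, 3, 0, 2, 2, 0, 2, 2, 0, 2, 2, 0, 2, 0, 2, 2, 0, 2, 0, 2, 0, 2, 0, 2, 2, 3, 0, 2, 2, 0, 2, 2, 0, 2, 2, 0, 2, 0, 2, 2, 0, 2, 0, 2, 0, 2, 0, 2, 2, 3],
  [3, 0, 2, 2, 0, 2, 2, 0, 2, 2, 0, 2, 0, 2, 2, 0, 2, 0, 2, 0, 2, 0, 2, 2, 3, 0, 2, 2, 0, 2, 2, 0, 2, 2, 0, 2, 0, 2, 2, 0, 2, 0, 2, 0, 2, 0, 2, 2, 3, 0, 2, 2, 0, 2, 2, 0, 2, 2, 0, 2, 0, 2, 2, 0, 2, 0, 2, 0, 2, 0, 2, 2, 3, 0, 2, 2, 0, 2, 2, 0, 2, 2, 0, 2, 0, 2, 2, 0, 2, 0, 2, 0, 2, 0, 2, 2, 3],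
  [3, 0, 2, 2, 0, 2, 2, 0, 2, 2, 0, 2, 0, 2, 2, 0, 2, 0, 2, 0, 2, 0, 2, 2, 3, 0, 2, 2, 0, 2, 2, 0, 2, 2, 0, 2, 0, 2, 2, 0, 2, 0, 2, 0, 2, 0, 2, 2, 3, 0, 2, 2, 0, 2, 2, 0, 2, 2, 0, 2, 0, 2, 2, 0, 2, 0, 2, 0, 2, 0, 2, 2, 3, 0, 2, 2, 0, 2, 2, 0, 2, 2, 0, 2, 0, 2, 2, 0, 2, 0, 2, 0, 2, 0, 2, 2, 3, 2, 2, 0, 2, 0, 2, 0, 2, 0, 2, 2, 0, 2, 0, 2, 0, 2, 0, 2, 2, 0, 2, 0, 2, 0, 2, 2, 3],
  [3, 0, 2, 2, 0, 2, 2, 0, 2, 2, 0, 2, 0, 2, 2, 0, 2, 0, 2, 0, 2, 0, 2, 2, 3, 0, 2, 2, 0, 2, 2, 0, 2, 2, 0, 2, 0, 2, 2, 0, 2, 0, 2, 0, 2, 0, 2, 2, 3, 0, 2, 2, 0, 2, 2, 0, 2, 2, 0, 2, 0, 2, 2, 0, 2, 0, 2, 0, 2, 0, 2, 2, 3, 0, 2, 2, 0, 2, 2, 0, 2, 2, 0, 2, 0, 2, 2, 0, 2, 0, 2, 0, 2, 0, 2, 2, 3, 2, 2, 0, 2, 0, 2, 0, 2, 0, 2, 2, 0, 2, 0, 2, 0, 2, 0, 2, 2, 0, 2, 0, 2, 0, 2, 2, 3, 2, 0, 2, 2, 0, 2, 3],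
  [3, 0, 2, 2, 0, 2, 2, 0, 2, 2, 0, 2, 0, 2, 2, 0, 2, 0, 2, 0, 2, 0, 2, 2, 3, 0, 2, 2, 0, 2, 2, 0, 2, 2, 0, 2, 0, 2, 2, 0, 2, 0, 2, 0, 2, 0, 2, 2, 3, 0, 2, 2, 0, 2, 2, 0, 2, 2, 0, 2, 0, 2, 2, 0, 2, 0, 2, 0, 2, 0, 2, 2, 3, 0, 2, 2, 0, 2, 2, 0, 2, 2, 0, 2, 0, 2, 2, 0, 2, 0, 2, 0, 2, 0, 2, 2, 3, 2, 2, 0, 2, 0, 2, 0, 2, 0, 2, 2, 0, 2, 0, 2, 0, 2, 0, 2, 2, 0, 2, 0, 2, 0, 2, 2, 3, 0, 2, 2, 0, 2, 0, 2, 2, 0, 2, 2, 0, 2, 2, 0, 2, 3],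
  [3, 0, 2, 2, 0, 2, 2, 0, 2, 2, 0, 2, 0, 2, 2, 0, 2, 0, 2, 0, 2, 0, 2, 2, 3, 0, 2, 2, 0, 2, 2, 0, 2, 2, 0, 2, 0, 2, 2, 0, 2, 0, 2, 0, 2, 0, 2, 2, 3, 0, 2, 2, 0, 2, 2, 0, 2, 2, 0, 2, 0, 2, 2, 0, 2, 0, 2, 0, 2, 0, 2, 2, 3, 0, 2, 2, 0, 2, 2, 0, 2, 2, 0, 2, 0, 2, 2, 0, 2, 0, 2, 0, 2, 0, 2, 2, 3, 2, 2, 0, 2, 0, 2, 0, 2, 0, 2, 2, 0, 2, 0, 2, 0, 2, 0, 2, 2, 0, 2, 0, 2, 0, 2, 2, 3, 0, 2, 2, 0, 2, 0, 2, 2, 0, 2, 2, 0, 2, 2, 0, 2, 3, 2, 2, 0, 2, 3],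
  [3, 0, 2, 2, 0, 2, 2, 0, 2, 2, 0, 2, 0, 2, 2, 0, 2, 0, 2, 0, 2, 0, 2, 2, 3, 0, 2, 2, 0, 2, 2, 0, 2, 2, 0, 2, 0, 2, 2, 0, 2, 0, 2, 0, 2, 0, 2, 2, 3, 0, 2, 2, 0, 2, 2, 0, 2, 2, 0, 2, 0, 2, 2, 0, 2, 0, 2, 0, 2, 0, 2, 2, 3, 0, 2, 2, 0, 2, 2, 0, 2, 2, 0, 2, 0, 2, 2, 0, 2, 0, 2, 0, 2, 0, 2, 2, 3, 2, 2, 0, 2, 0, 2, 0, 2, 0, 2, 2, 0, 2, 0, 2, 0, 2, 0, 2, 2, 0, 2, 0, 2, 0, 2, 2, 3, 0, 2, 2, 0, 2, 0, 2, 2, 0, 2, 2, 0, 2, 2, 0, 2, 3, 2, 2, 0, 2, 3, 2, 0, 2, 2, 0, 2, 2, 0, 2, 2, 0, 2, 2, 0, 2, 2, 0, 2, 0, 2, 0, 2, 0, 2, 0, 2, 0, 2, 2, 3],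
  [3, 0, 2, 2, 0, 2, 2, 0, 2, 2, 0, 2, 0, 2, 2, 0, 2, 0, 2, 0, 2, 0, 2, 2, 3, 0, 2, 2, 0, 2, 2, 0, 2, 2, 0, 2, 0, 2, 2, 0, 2, 0, 2, 0, 2, 0, 2, 2, 3, 0, 2, 2, 0, 2, 0, 2, 2, 0, 2, 2, 0, 2, 0, 2, 0, 2, 2, 0, 2, 0, 2, 3],
  [3, 0, 2, 2, 0, 2, 2, 0, 2, 2, 0, 2, 0, 2, 2, 0, 2, 0, 2, 0, 2, 0, 2, 2, 3, 0, 2, 2, 0, 2, 2, 0, 2, 2, 0, 2, 0, 2, 2, 0, 2, 0, 2, 0, 2, 0, 2, 2, 3, 0, 2, 2, 0, 2, 0, 2, 0, 2, 0, 2, 0, 2, 2, 0, 2, 2, 0, 2, 2, 0, 2, 0, 2, 0, 2, 2, 3],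
  [3, 0, 2, 2, 0, 2, 2, 0, 2, 2, 0, 2, 0, 2, 2, 0, 2, 0, 2, 0, 2, 0, 2, 2, 3, 0, 2, 2, 0, 2, 2, 0, 2, 2, 0, 2, 0, 2, 2, 0, 2, 0, 2, 0, 2, 0, 2, 2, 3, 0, 2, 2, 0, 2, 2, 0, 2, 2, 0, 2, 0, 2, 2, 0, 2, 0, 2, 0, 2, 0, 2, 2, 3, 0, 2, 2, 0, 2, 2, 0, 2, 2, 0, 2, 0, 2, 2, 0, 2, 0, 2, 0, 2, 0, 2, 2, 3, 2, 2, 0, 2, 0, 2, 0, 2, 0, 2, 2, 0, 2, 0, 2, 0, 2, 0, 2, 2, 0, 2, 0, 2, 0, 2, 2, 3, 2, 0, 2, 2, 0, 2, 3, 2, 0, 2, 0, 2, 2, 0, 2, 0, 2, 2, 0, 2, 0, 2, 0, 2, 0, 2, 0, 2, 2, 0, 2, 0, 2, 2, 0, 2, 3],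
  [3, 0, 2, 2, 0, 2, 2, 0, 2, 2, 0, 2, 0, 2, 2, 0, 2, 0, 2, 0, 2, 0, 2, 2, 3, 0, 2, 2, 0, 2, 2, 0, 2, 2, 0, 2, 0, 2, 2, 0, 2, 0, 2, 0, 2, 0, 2, 2, 3, 0, 2, 2, 0, 2, 2, 0, 2, 2, 0, 2, 0, 2, 2, 0, 2, 0, 2, 0, 2, 0, 2, 2, 3, 0, 2, 2, 0, 2, 2, 0, 2, 2, 0, 2, 0, 2, 2, 0, 2, 0, 2, 0, 2, 0, 2, 2, 3, 2, 2, 0, 2, 0, 2, 0, 2, 0, 2, 2, 0, 2, 0, 2, 0, 2, 0, 2, 2, 0, 2, 0, 2, 0, 2, 2, 3, 0, 2, 0, 2, 2, 0, 2, 0, 2, 2, 0, 2, 0, 2, 2, 0, 2, 2, 0, 2, 2, 0, 2, 3],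
  [3, 0, 2, 2, 0, 2, 2, 0, 2, 2, 0, 2, 0, 2, 2, 0, 2, 0, 2, 0, 2, 0, 2, 2, 3, 0, 2, 0, 2, 2, 0, 2, 2, 0, 2, 0, 2, 0, 2, 2, 0, 2, 2, 0, 2, 2, 0, 2, 0, 2, 0, 2, 0, 2, 3],
  [3, 0, 2, 2, 0, 2, 0, 2, 2, 0, 2, 2, 0, 2, 2, 0, 2, 3, 2, 0, 2, 0, 2, 0, 2, 0, 2, 0, 2, 0, 2, 2, 3],
  [3, 0, 2, 2, 0, 2, 2, 0, 2, 2, 0, 2, 0, 2, 2, 0, 2, 0, 2, 0, 2, 0, 2, 2, 3, 2, 2, 0, 2, 2, 0, 2, 0, 2, 0, 2, 0, 2, 2, 0, 2, 2, 0, 2, 2, 0, 2, 0, 2, 0, 2, 0, 2, 0, 2, 3, 2, 2, 0, 2, 2, 0, 2, 0, 2, 2, 0, 2, 2, 0, 2, 2, 0, 2, 0, 2, 0, 2, 2, 3]] : List (List ℕ)).getD k []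

theorem defs_ok : ∀ k < 20, k = 0 ∨ (defOKof R1Rules.DT k (par k) (wordP (cw k)) = true ∧
    par k < k ∧ rw20 k = rw20 (par k) ++ (cw k ++ [3]) ∧ ∀ a ∈ cw k, a ≠ 3) := by
  decide +kernel

theorem c_eq : ∀ k < 20, cN φ τ R1Rules.DT k = evalW φ τ (rw20 k) := by
  intro k
  induction k using Nat.strong_induction_on with
  | _ k ih =>
    intro hk
    rcases defs_ok k hk with rfl | ⟨h1, h2, h3, h4⟩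
    · rw [cN_zero]; rfl
    · rw [cN_def h1 (rep_word _), h3, evalW_append, evalW_append, ← ih _ h2 (by omega),
        evalW_word _ h4]
      simp [evalW, mul_assoc]

/-- **the decomposition** `G = ⋃ H r_i φ(M24)` with the 20 explicit words `rw20 i` -/
theorem decomp {B : Subgroup G} (h : TRel φ τ) (hB : φ.range ≤ B) (hs : sE φ τ ∈ B)
    (hgen : Subgroup.closure (insert τ (Set.range φ)) = ⊤) (g : G) :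
    ∃ i < 20, ∃ b ∈ B, ∃ m : M24, g = b * evalW φ τ (rw20 i) * φ m := by
  have hc0 : cN φ τ R1Rules.DT 0 = 1 := cN_zero φ τ R1Rules.DT
  obtain ⟨j, hj, m, hx⟩ := cover (B := B) (c := cN φ τ R1Rules.DT) (N := 20) (NP := 3795)
    (RT := TrioTab.RT) (K := TrioAll.K) h.sq (by norm_num) hc0 hB hgen (cov1 h hB hs)
    ⟨1, by norm_num, 1, by
      rw [Upper3.rep_ID_DT (DT := R1Rules.DT) (by decide +kernel), map_one]; simp [B.one_mem]⟩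
    TrioAll.all.2 (TrioAll.commK φ τ h.cx h.cz) g
  refine ⟨j, hj, _, hx, m, ?_⟩
  rw [c_eq j hj]
  group

/-- the stabiliser in M24 of the coset of the `i`-th representative has index at most `ib i`;
`∑ i < 20, ib i = 173067389` -/
theorem stb_bound {B : Subgroup G} (h : TRel φ τ) (hB : φ.range ≤ B) (hs : sE φ τ ∈ B) :
    ∀ j < 20, (Stb φ B (evalW φ τ (rw20 j))).index ≤ ib j := by
  intro j hj
  rw [← c_eq j hj]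
  exact stb1 h hB hs j hj

theorem sum_ib : ∑ j ∈ Finset.range 20, ib j = 173067389 := by decide +kernel

end general

/-! ### The presented group -/

open Cfsg.Agent.J4.Pres Cfsg.Agent.J4.Rep112

theorem trel : TRel phi t where
  sq := by
    have h := all_rels.2.2.2.2.2.2.2.1
    rwa [pow_two] at h
  cx := by
    have h := all_rels.2.2.2.2.2.2.2.2.2.1
    rw [phi_X]
    have h2 : t⁻¹ * x⁻¹ * t * x = (x * t)⁻¹ * (t * x) := by group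
    rw [h2, inv_mul_eq_one] at h
    exact h.symm
  cz := by
    have h := all_rels.2.2.2.2.2.2.2.2.1
    have h1 : phi TrioAll.gb = y * x * y * (x * y⁻¹) ^ 2 * (x * y) ^ 3 := by
      unfold TrioAll.gb
      simp only [map_mul, map_pow, map_inv, phi_X, phi_Y]
    rw [h1]
    set z := y * x * y * (x * y⁻¹) ^ 2 * (x * y) ^ 3 with hz
    have h2 : t⁻¹ * z⁻¹ * t * z = (z * t)⁻¹ * (t * z) := by group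
    rw [h2, inv_mul_eq_one] at h
    exact h.symm
  rA := by
    have h := all_rels.2.2.2.2.2.2.2.2.2.2.1
    unfold w1
    simp only [map_mul, map_inv, phi_X, phi_Y]
    exact h
  rB := by
    have h := all_rels.2.2.2.2.2.2.2.2.2.2.2
    unfold w2 mB
    simp only [map_mul, map_pow, phi_X, phi_Y]
    exact h

theorem gen_top : Subgroup.closure (insert t (Set.range phi)) = (⊤ : Subgroup Cfsg.Spor.J4) := by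
  have hx : x ∈ Subgroup.closure (insert t (Set.range phi)) :=
    Subgroup.subset_closure (Set.mem_insert_of_mem _ ⟨XM, phi_X⟩)
  have hy : y ∈ Subgroup.closure (insert t (Set.range phi)) :=
    Subgroup.subset_closure (Set.mem_insert_of_mem _ ⟨YM, phi_Y⟩)
  have ht : t ∈ Subgroup.closure (insert t (Set.range phi)) :=
    Subgroup.subset_closure (Set.mem_insert _ _)
  rw [eq_top_iff, ← PresentedGroup.closure_range_of]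
  rw [Subgroup.closure_le]
  rintro _ ⟨g, rfl⟩
  cases g with
  | x => exact hx
  | y => exact hy
  | t => exact ht

/-- **the upper bound** for the order of the presented group -/
theorem card_J4_le : Nat.card Cfsg.Spor.J4 ≤ 86775571046077562880 ∧
    Nat.card Cfsg.Spor.J4 ≠ 0 := card_le trel gen_top

instance finite_J4 : Finite Cfsg.Spor.J4 := Nat.finite_of_card_ne_zero card_J4_le.2

end Cfsg.Agent.J4.Upper
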