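import Cfsg.Agent.J4.Upper3
import Cfsg.Agent.J4.R1F0
import Cfsg.Agent.J4.R1F1
import Cfsg.Agent.J4.R1F2
import Cfsg.Agent.J4.R1F3
import Cfsg.Agent.J4.R1C0
import Cfsg.Agent.J4.R1C1
import Cfsg.Agent.J4.R1C2
import Cfsg.Agent.J4.R1C3
import Cfsg.Agent.J4.R1C4

/-!
# The bound on the index of the second generator group
-/

set_option autoImplicit false

open Cfsg

noncomputable section

namespace Cfsg.Agent.J4.Upper1

open Cfsg.Agent.J4.M24Hom Cfsg.Agent.J4.Packed Cfsg.Agent.J4.Engine Cfsg.Agent.J4.Check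
  Cfsg.Agent.J4.Nodes Cfsg.Agent.J4.FetchK Cfsg.Agent.J4.Rel
  Cfsg.Agent.J4.R1Rules Cfsg.Agent.J4.Blocks Cfsg.Agent.J4.Index

section

variable {G : Type*} [Group G] {φ : M24 →* G} {τ : G} {B : Subgroup G}

/-- the element `s` -/
def sE (φ : M24 →* G) (τ : G) : G := (φ YM * ((φ ws)⁻¹ * τ * φ ws)) ^ 3

/-- packed constant -/
def pP : ℕ := nat_lit 3733192332091151247017491552022093409517177452137972533248
/-- packed constant -/
def pQ : ℕ := nat_lit 3927795273907248099147148191753066627712776865639457384448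

theorem rep_pP : Rep pP (ws * YM * ws⁻¹) :=
  rep_congr (rep_mul (rep_mul rep_ws rep_Y) rep_wsi) (by decide +kernel)

theorem rep_pQ : Rep pQ (ws * YM⁻¹ * ws⁻¹) :=
  rep_congr (rep_mul (rep_mul rep_ws rep_Yi) rep_wsi) (by decide +kernel)

theorem special (hτ : τ * τ = 1) (hB : φ.range ≤ B) (hs : sE φ τ ∈ B) (i p k q : ℕ) (P : M24)
    (h : axOK i p k q = true) (hP : Rep p P) :
    ∃ Q, Rep q Q ∧ cN φ τ DT i * φ P * τ * (cN φ τ DT k * φ Q)⁻¹ ∈ B := by
  unfold axOK at h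
  simp only [band_iff] at h
  obtain ⟨h1, h2, h3, h4⟩ := h
  have e1 : i = 1 := Nat.eq_of_beq_eq_true h1
  have e2 : p = pP := Nat.eq_of_beq_eq_true h2
  have e3 : k = 1 := Nat.eq_of_beq_eq_true h3
  have e4 : q = pQ := Nat.eq_of_beq_eq_true h4
  subst e1 e2 e3 e4
  have e5 : P = ws * YM * ws⁻¹ := rep_inj hP rep_pP
  subst e5
  refine ⟨_, rep_pQ, ?_⟩
  rw [Upper3.rep_ID_DT (DT := DT) (by decide +kernel)]
  have h5 : τ * φ (ws * YM * ws⁻¹) * τ * (τ * φ (ws * YM⁻¹ * ws⁻¹))⁻¹ =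
      (φ YM * (φ ws)⁻¹)⁻¹ * sE φ τ * (φ ws)⁻¹ := by
    unfold sE
    simp only [map_mul, map_inv, pow_succ, pow_zero, one_mul]
    rw [mul_inv_rev τ, inv_self hτ]
    group
  rw [h5]
  refine B.mul_mem (B.mul_mem (B.inv_mem (B.mul_mem (hB ⟨_, rfl⟩) ?_)) hs) ?_
  · exact B.inv_mem (hB ⟨_, rfl⟩)
  · exact B.inv_mem (hB ⟨_, rfl⟩)

theorem setup1 (h : TRel φ τ) (hB : φ.range ≤ B) (hs : sE φ τ ∈ B) :
    Setup φ τ B (cN φ τ DT) MTab.MT mask true 131 eR pR defOK axOK where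
  hτ := h.sq
  hK := kokT h
  hab := fun _ => ⟨cN_zero φ τ DT, hB⟩
  hM := goodM
  hE := fun r => match r with
    | 0 => ok3 rep_al rep_ali h.sq (loopA h)
    | 1 => ok4 rep_bei rep_gai h.sq (loopB h)
    | 2 => ok4 rep_gai rep_bei h.sq (rot4 (loopB h))
    | (_ + 3) => okN τ
  hP := fun r => match r with
    | 0 => okK (w := XM) rep_X (rep_inv rep_X (by decide +kernel)) h.sq h.cx
    | 1 => okK TrioAll.rep_gb (rep_inv TrioAll.rep_gb (by decide +kernel)) h.sq h.cz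
    | 2 => okI
    | 3 => okT h.sq
    | 4 => ok4P rep_gai rep_bei h.sq (rot4 (loopB h))
    | 5 => ok4P rep_bei rep_gai h.sq (loopB h)
    | 6 => ok3P rep_al rep_ali h.sq (loopA h)
    | (_ + 7) => okN 1
  hdef := fun _ _ _ _ h1 h2 => cN_def h1 h2
  hax := fun i p k q P h1 h2 => special h.sq hB hs i p k q P h1 h2

variable (h : TRel φ τ) (hB : φ.range ≤ B) (hs : sE φ τ ∈ B)

include h hB hs in
theorem holds1 : ∀ m < 2279, Holds φ τ B (cN φ τ DT) 20 (R1Tab.TB.get m) := by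
  have l0 : R1F0.L0.len = 100 := by decide +kernel
  have h0 : ∀ m < 100, Holds φ τ B (cN φ τ DT) 20 (R1Tab.TB.get m) := fun m hm =>
    chkL_sound (setup1 h hB hs) R1F0.L0 0 (fun _ h => absurd h (Nat.not_lt_zero _)) R1F0.c0 m (by
 omega)
  have l100 : R1F0.L100.len = 100 := by decide +kernel
  have h100 : ∀ m < 200, Holds φ τ B (cN φ τ DT) 20 (R1Tab.TB.get m) := fun m hm =>
    chkL_sound (setup1 h hB hs) R1F0.L100 100 h0 R1F0.c100 m (by omega)
  have l200 : R1F0.L200.len = 100 := by decide +kernel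
  have h200 : ∀ m < 300, Holds φ τ B (cN φ τ DT) 20 (R1Tab.TB.get m) := fun m hm =>
    chkL_sound (setup1 h hB hs) R1F0.L200 200 h100 R1F0.c200 m (by omega)
  have l300 : R1F0.L300.len = 100 := by decide +kernel
  have h300 : ∀ m < 400, Holds φ τ B (cN φ τ DT) 20 (R1Tab.TB.get m) := fun m hm =>
    chkL_sound (setup1 h hB hs) R1F0.L300 300 h200 R1F0.c300 m (by omega)
  have l400 : R1F0.L400.len = 100 := by decide +kernel
  have h400 : ∀ m < 500, Holds φ τ B (cN φ τ DT) 20 (R1Tab.TB.get m) := fun m hm =>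
    chkL_sound (setup1 h hB hs) R1F0.L400 400 h300 R1F0.c400 m (by omega)
  have l500 : R1F0.L500.len = 100 := by decide +kernel
  have h500 : ∀ m < 600, Holds φ τ B (cN φ τ DT) 20 (R1Tab.TB.get m) := fun m hm =>
    chkL_sound (setup1 h hB hs) R1F0.L500 500 h400 R1F0.c500 m (by omega)
  have l600 : R1F1.L600.len = 100 := by decide +kernel
  have h600 : ∀ m < 700, Holds φ τ B (cN φ τ DT) 20 (R1Tab.TB.get m) := fun m hm =>
    chkL_sound (setup1 h hB hs) R1F1.L600 600 h500 R1F1.c600 m (by omega)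
  have l700 : R1F1.L700.len = 100 := by decide +kernel
  have h700 : ∀ m < 800, Holds φ τ B (cN φ τ DT) 20 (R1Tab.TB.get m) := fun m hm =>
    chkL_sound (setup1 h hB hs) R1F1.L700 700 h600 R1F1.c700 m (by omega)
  have l800 : R1F1.L800.len = 100 := by decide +kernel
  have h800 : ∀ m < 900, Holds φ τ B (cN φ τ DT) 20 (R1Tab.TB.get m) := fun m hm =>
    chkL_sound (setup1 h hB hs) R1F1.L800 800 h700 R1F1.c800 m (by omega)
  have l900 : R1F1.L900.len = 100 := by decide +kernel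
  have h900 : ∀ m < 1000, Holds φ τ B (cN φ τ DT) 20 (R1Tab.TB.get m) := fun m hm =>
    chkL_sound (setup1 h hB hs) R1F1.L900 900 h800 R1F1.c900 m (by omega)
  have l1000 : R1F1.L1000.len = 100 := by decide +kernel
  have h1000 : ∀ m < 1100, Holds φ τ B (cN φ τ DT) 20 (R1Tab.TB.get m) := fun m hm =>
    chkL_sound (setup1 h hB hs) R1F1.L1000 1000 h900 R1F1.c1000 m (by omega)
  have l1100 : R1F1.L1100.len = 100 := by decide +kernel
  have h1100 : ∀ m < 1200, Holds φ τ B (cN φ τ DT) 20 (R1Tab.TB.get m) := fun m hm =>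
    chkL_sound (setup1 h hB hs) R1F1.L1100 1100 h1000 R1F1.c1100 m (by omega)
  have l1200 : R1F2.L1200.len = 100 := by decide +kernel
  have h1200 : ∀ m < 1300, Holds φ τ B (cN φ τ DT) 20 (R1Tab.TB.get m) := fun m hm =>
    chkL_sound (setup1 h hB hs) R1F2.L1200 1200 h1100 R1F2.c1200 m (by omega)
  have l1300 : R1F2.L1300.len = 100 := by decide +kernel
  have h1300 : ∀ m < 1400, Holds φ τ B (cN φ τ DT) 20 (R1Tab.TB.get m) := fun m hm =>
    chkL_sound (setup1 h hB hs) R1F2.L1300 1300 h1200 R1F2.c1300 m (by omega)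
  have l1400 : R1F2.L1400.len = 100 := by decide +kernel
  have h1400 : ∀ m < 1500, Holds φ τ B (cN φ τ DT) 20 (R1Tab.TB.get m) := fun m hm =>
    chkL_sound (setup1 h hB hs) R1F2.L1400 1400 h1300 R1F2.c1400 m (by omega)
  have l1500 : R1F2.L1500.len = 100 := by decide +kernel
  have h1500 : ∀ m < 1600, Holds φ τ B (cN φ τ DT) 20 (R1Tab.TB.get m) := fun m hm =>
    chkL_sound (setup1 h hB hs) R1F2.L1500 1500 h1400 R1F2.c1500 m (by omega)
  have l1600 : R1F2.L1600.len = 100 := by decide +kernel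
  have h1600 : ∀ m < 1700, Holds φ τ B (cN φ τ DT) 20 (R1Tab.TB.get m) := fun m hm =>
    chkL_sound (setup1 h hB hs) R1F2.L1600 1600 h1500 R1F2.c1600 m (by omega)
  have l1700 : R1F2.L1700.len = 100 := by decide +kernel
  have h1700 : ∀ m < 1800, Holds φ τ B (cN φ τ DT) 20 (R1Tab.TB.get m) := fun m hm =>
    chkL_sound (setup1 h hB hs) R1F2.L1700 1700 h1600 R1F2.c1700 m (by omega)
  have l1800 : R1F3.L1800.len = 100 := by decide +kernel
  have h1800 : ∀ m < 1900, Holds φ τ B (cN φ τ DT) 20 (R1Tab.TB.get m) := fun m hm =>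
    chkL_sound (setup1 h hB hs) R1F3.L1800 1800 h1700 R1F3.c1800 m (by omega)
  have l1900 : R1F3.L1900.len = 100 := by decide +kernel
  have h1900 : ∀ m < 2000, Holds φ τ B (cN φ τ DT) 20 (R1Tab.TB.get m) := fun m hm =>
    chkL_sound (setup1 h hB hs) R1F3.L1900 1900 h1800 R1F3.c1900 m (by omega)
  have l2000 : R1F3.L2000.len = 100 := by decide +kernel
  have h2000 : ∀ m < 2100, Holds φ τ B (cN φ τ DT) 20 (R1Tab.TB.get m) := fun m hm =>
    chkL_sound (setup1 h hB hs) R1F3.L2000 2000 h1900 R1F3.c2000 m (by omega)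
  have l2100 : R1F3.L2100.len = 100 := by decide +kernel
  have h2100 : ∀ m < 2200, Holds φ τ B (cN φ τ DT) 20 (R1Tab.TB.get m) := fun m hm =>
    chkL_sound (setup1 h hB hs) R1F3.L2100 2100 h2000 R1F3.c2100 m (by omega)
  have l2200 : R1F3.L2200.len = 79 := by decide +kernel
  have h2200 : ∀ m < 2279, Holds φ τ B (cN φ τ DT) 20 (R1Tab.TB.get m) := fun m hm =>
    chkL_sound (setup1 h hB hs) R1F3.L2200 2200 h2100 R1F3.c2200 m (by omega)
  exact h2200

/-- index bounds of the nodes -/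
def ib (j : ℕ) : ℕ := [1, 3795, 318780, 1275120, 5100480, 1912680, 478170, 11385, 26565, 2550240,
 2550240, 1771, 53130, 15301440, 7650720, 212520, 40803840, 81607680, 12241152, 967680].getD j 0

include h hB hs in
theorem cov1 : ∀ j < 20, j ≠ 0 → ∀ t < 3795, Cov φ τ B (cN φ τ DT) 20 TrioTab.RT j t := by
  have hT := holds1 h hB hs
  have hK := kokT h
  intro j hj hj0
  rcases (by omega : j = 1 ∨ j = 2 ∨ j = 3 ∨ j = 4 ∨ j = 5 ∨ j = 6 ∨ j = 7 ∨ j = 8 ∨ j = 9 ∨ j =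
 10 ∨ j = 11 ∨ j = 12 ∨ j = 13 ∨ j = 14 ∨ j = 15 ∨ j = 16 ∨ j = 17 ∨ j = 18 ∨ j = 19) with rfl |
 rfl | rfl | rfl | rfl | rfl | rfl | rfl | rfl | rfl | rfl | rfl | rfl | rfl | rfl | rfl | rfl |
 rfl | rfl
  · exact covN_sound hT h.sq hK TrioAll.goodRT _ R1C0.v1
  · exact covN_sound hT h.sq hK TrioAll.goodRT _ R1C0.v2
  · exact covN_sound hT h.sq hK TrioAll.goodRT _ R1C0.v3
  · exact covN_sound hT h.sq hK TrioAll.goodRT _ R1C0.v4
  · exact covN_sound hT h.sq hK TrioAll.goodRT _ R1C1.v5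
  · exact covN_sound hT h.sq hK TrioAll.goodRT _ R1C1.v6
  · exact covN_sound hT h.sq hK TrioAll.goodRT _ R1C1.v7
  · exact covN_sound hT h.sq hK TrioAll.goodRT _ R1C1.v8
  · exact covN_sound hT h.sq hK TrioAll.goodRT _ R1C2.v9
  · exact covN_sound hT h.sq hK TrioAll.goodRT _ R1C2.v10
  · exact covN_sound hT h.sq hK TrioAll.goodRT _ R1C2.v11
  · exact covN_sound hT h.sq hK TrioAll.goodRT _ R1C2.v12
  · exact covN_sound hT h.sq hK TrioAll.goodRT _ R1C3.v13
  · exact covN_sound hT h.sq hK TrioAll.goodRT _ R1C3.v14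
  · exact covN_sound hT h.sq hK TrioAll.goodRT _ R1C3.v15
  · exact covN_sound hT h.sq hK TrioAll.goodRT _ R1C3.v16
  · exact covN_sound hT h.sq hK TrioAll.goodRT _ R1C4.v17
  · exact covN_sound hT h.sq hK TrioAll.goodRT _ R1C4.v18
  · exact covN_sound hT h.sq hK TrioAll.goodRT _ R1C4.v19

include h hB hs in
theorem stb1 : ∀ j < 20, (Stb φ B (cN φ τ DT j)).index ≤ ib j := by
  have hT := holds1 h hB hs
  intro j hj
  rcases (by omega : j = 0 ∨ j = 1 ∨ j = 2 ∨ j = 3 ∨ j = 4 ∨ j = 5 ∨ j = 6 ∨ j = 7 ∨ j = 8 ∨ j =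
 9 ∨ j = 10 ∨ j = 11 ∨ j = 12 ∨ j = 13 ∨ j = 14 ∨ j = 15 ∨ j = 16 ∨ j = 17 ∨ j = 18 ∨ j = 19)
 with rfl | rfl | rfl | rfl | rfl | rfl | rfl | rfl | rfl | rfl | rfl | rfl | rfl | rfl | rfl |
 rfl | rfl | rfl | rfl | rfl
  · exact Upper3.stb_zero (cN_zero φ τ DT) hB
  · exact Upper3.stb_index (n := 3795) hT R1C0.h1 R1C0.o1 (by norm_num)
  · exact Upper3.stb_index (n := 318780) hT R1C0.h2 R1C0.o2 (by norm_num)
  · exact Upper3.stb_index (n := 1275120) hT R1C0.h3 R1C0.o3 (by norm_num)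
  · exact Upper3.stb_index (n := 5100480) hT R1C0.h4 R1C0.o4 (by norm_num)
  · exact Upper3.stb_index (n := 1912680) hT R1C1.h5 R1C1.o5 (by norm_num)
  · exact Upper3.stb_index (n := 478170) hT R1C1.h6 R1C1.o6 (by norm_num)
  · exact Upper3.stb_index (n := 11385) hT R1C1.h7 R1C1.o7 (by norm_num)
  · exact Upper3.stb_index (n := 26565) hT R1C1.h8 R1C1.o8 (by norm_num)
  · exact Upper3.stb_index (n := 2550240) hT R1C2.h9 R1C2.o9 (by norm_num)
  · exact Upper3.stb_index (n := 2550240) hT R1C2.h10 R1C2.o10 (by norm_num)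
  · exact Upper3.stb_index (n := 1771) hT R1C2.h11 R1C2.o11 (by norm_num)
  · exact Upper3.stb_index (n := 53130) hT R1C2.h12 R1C2.o12 (by norm_num)
  · exact Upper3.stb_index (n := 15301440) hT R1C3.h13 R1C3.o13 (by norm_num)
  · exact Upper3.stb_index (n := 7650720) hT R1C3.h14 R1C3.o14 (by norm_num)
  · exact Upper3.stb_index (n := 212520) hT R1C3.h15 R1C3.o15 (by norm_num)
  · exact Upper3.stb_index (n := 40803840) hT R1C3.h16 R1C3.o16 (by norm_num)
  · exact Upper3.stb_index (n := 81607680) hT R1C4.h17 R1C4.o17 (by norm_num)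
  · exact Upper3.stb_index (n := 12241152) hT R1C4.h18 R1C4.o18 (by norm_num)
  · exact Upper3.stb_index (n := 967680) hT R1C4.h19 R1C4.o19 (by norm_num)

include h hB hs in
/-- **the index bound** -/
theorem index1 (hgen : Subgroup.closure (insert τ (Set.range φ)) = ⊤) :
    B.index ≤ 173067389 ∧ B.index ≠ 0 := by
  have hc0 : cN φ τ DT 0 = 1 := cN_zero φ τ DT
  have key := index_le (φ := φ) (τ := τ) (B := B) (c := cN φ τ DT) (N := 20) (NP := 3795)
    (RT := TrioTab.RT) (K := TrioAll.K) h.sq (by norm_num) hc0 hB hgen (cov1 h hB hs)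
    ⟨1, by norm_num, 1, by
      rw [Upper3.rep_ID_DT (DT := DT) (by decide +kernel), map_one]; simp [B.one_mem]⟩
    TrioAll.all.2 (TrioAll.commK φ τ h.cx h.cz) ib (stb1 h hB hs)
  have hsum : ∑ j ∈ Finset.range 20, ib j = 173067389 := by decide +kernel
  rw [hsum] at key
  exact key

end

end Cfsg.Agent.J4.Upper1
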