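import Cfsg.Agent.J4.Rel
import Cfsg.Agent.J4.R3Data
import Cfsg.Agent.J4.Index

/-!
# The bound on the index of M24 in the normaliser of the elementary abelian group
-/

set_option autoImplicit false

open Cfsg

noncomputable section

namespace Cfsg.Agent.J4.Upper3

open Cfsg.Agent.J4.M24Hom Cfsg.Agent.J4.Packed Cfsg.Agent.J4.Engine Cfsg.Agent.J4.Check
  Cfsg.Agent.J4.Nodes Cfsg.Agent.J4.FetchK Cfsg.Agent.J4.R2Data Cfsg.Agent.J4.Rel
  Cfsg.Agent.J4.R3Data Cfsg.Agent.J4.Blocks Cfsg.Agent.J4.Index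

section idx

variable {G : Type*} [Group G] {φ : M24 →* G} {τ : G} {B : Subgroup G} {c : ℕ → G}

theorem stb_index {TB : Tab} {N m : ℕ} (hT : ∀ m' < m, Holds φ τ B c N (TB.get m')) {j : ℕ}
    {H : LL} (hc : chain (fetchN TB m j) H 0 = true) {s n : ℕ} (hp : H.prod = s)
    (hn : 244823040 ≤ n * s) : (Stb φ B (c j)).index ≤ n := by
  refine index_le_of_card (s := s) ?_ hn
  rw [← hp]
  exact chain_card (fetchN_sound hT j) H hc

theorem stb_zero (h0 : c 0 = 1) (hB : φ.range ≤ B) : (Stb φ B (c 0)).index ≤ 1 := by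
  have h : Stb φ B (c 0) = ⊤ := by
    rw [eq_top_iff]
    intro u _
    rw [mem_Stb, h0, one_mul, inv_one, mul_one]
    exact hB ⟨u, rfl⟩
  rw [h, Subgroup.index_top]

theorem rep_ID_DT {DT : PT} (h : defOKof DT 1 0 ID = true) : cN φ τ DT 1 = τ := by
  rw [cN_def h rep_one, cN_zero, map_one]; group

end idx

section

variable {G : Type*} [Group G] {φ : M24 →* G} {τ : G} {B : Subgroup G}

theorem setup3 (hB : φ.range ≤ B) (he : τ * τ = 1) (h1 : Commute τ (φ SexAll.ga))
    (h2 : Commute τ (φ SexAll.gb)) (h3 : τ * φ de * τ * φ de * τ * φ de = 1) :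
    Setup φ τ B (cN φ τ DT3) MTab.MT maskS true 131 eR3 pR3 (defOKof DT3) noAx where
  hτ := he
  hK := SexAll.kok φ τ h1 h2
  hab := fun _ => ⟨cN_zero φ τ DT3, hB⟩
  hM := goodM
  hE := fun r => match r with
    | 0 => ok3 rep_de rep_dei he h3
    | 1 => ok1
    | (_ + 2) => okN τ
  hP := fun r => match r with
    | 0 => okK SexAll.rep_ga rep_g1i he h1
    | 1 => okI
    | 2 => okK SexAll.rep_gb rep_g2i he h2
    | 3 => okT he
    | 4 => ok3P rep_de rep_dei he h3
    | (_ + 5) => okN 1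
  hdef := fun _ _ _ _ h1 h2 => cN_def h1 h2
  hax := fun _ _ _ _ _ h1 _ => absurd h1 (by simp [noAx])

variable (hB : φ.range ≤ B) (he : τ * τ = 1) (h1 : Commute τ (φ SexAll.ga))
    (h2 : Commute τ (φ SexAll.gb)) (h3 : τ * φ de * τ * φ de * τ * φ de = 1)

include hB he h1 h2 h3 in
theorem holds3 : ∀ m < 263, Holds φ τ B (cN φ τ DT3) 5 (TB3.get m) := by
  have l0 : L30.len = 100 := by decide +kernel
  have h0 : ∀ m < 100, Holds φ τ B (cN φ τ DT3) 5 (TB3.get m) := fun m hm =>
    chkL_sound (setup3 hB he h1 h2 h3) L30 0 (fun _ h => absurd h (Nat.not_lt_zero _)) c30 m (by omega)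
  have l100 : L3100.len = 100 := by decide +kernel
  have h100 : ∀ m < 200, Holds φ τ B (cN φ τ DT3) 5 (TB3.get m) := fun m hm =>
    chkL_sound (setup3 hB he h1 h2 h3) L3100 100 h0 c3100 m (by omega)
  have l200 : L3200.len = 63 := by decide +kernel
  have h200 : ∀ m < 263, Holds φ τ B (cN φ τ DT3) 5 (TB3.get m) := fun m hm =>
    chkL_sound (setup3 hB he h1 h2 h3) L3200 200 h100 c3200 m (by omega)
  exact h200

include hB he h1 h2 h3 in
theorem index3 (hgen : Subgroup.closure (insert τ (Set.range φ)) = ⊤) :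
    B.index ≤ 2048 ∧ B.index ≠ 0 := by
  have hT := holds3 hB he h1 h2 h3
  have hK := SexAll.kok φ τ h1 h2
  have hc0 : cN φ τ DT3 0 = 1 := cN_zero φ τ DT3
  have key := index_le (φ := φ) (τ := τ) (B := B) (c := cN φ τ DT3) (N := 3) (NP := 1771)
    (RT := SexTab.RT) (K := SexAll.K) he (by norm_num) hc0 hB hgen
    (by
      intro j hj hj0
      rcases (by omega : j = 1 ∨ j = 2) with rfl | rfl
      · exact covN_sound hT he hK SexAll.goodRT D1 v1
      · exact covN_sound hT he hK SexAll.goodRT D2 v2)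
    ⟨1, by norm_num, 1, by
      rw [rep_ID_DT (by decide +kernel), map_one]; simp [B.one_mem]⟩
    SexAll.all.2 (SexAll.commK φ τ h1 h2)
    (fun j => if j = 0 then 1 else if j = 1 then 1771 else 276)
    (by
      intro j hj
      rcases (by omega : j = 0 ∨ j = 1 ∨ j = 2) with rfl | rfl | rfl
      · exact stb_zero hc0 hB
      · exact stb_index hT Cfsg.Agent.J4.R3Data.h1 o1 (by norm_num)
      · exact stb_index hT Cfsg.Agent.J4.R3Data.h2 o2 (by norm_num))
  refine ⟨key.1.trans ?_, key.2⟩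
  decide

end

end Cfsg.Agent.J4.Upper3
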